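/-
Coordinates of a tensor power `F^ι ≅ (F^k)^⊗t`: pure tensors, the elements of the wreath subgroup, and the splitting
off of one factor.
-/
import Mathlib
import Cfsg.Prelude.Def_GeometricClasses
import Cfsg.Agent.Lib.Aschbacher.NonContainment
import Cfsg.Agent.Lib.MaxCl.OrthSpinTensor
import Cfsg.Agent.Lib.MaxCl.TensorPt
import Cfsg.Agent.Lib.Forms.TensorWreath

set_option autoImplicit false

namespace Cfsg.Agent.TPow

open scoped MatrixGroups Matrix
open MaxCl (act gl_ext act_mul act_one act_inv_act act_act_inv act_apply act_injective)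
open MaxCl.Tens (TSys pt gl pt_ext gl_ext_pt act_gl_pt gl_mul gl_one)
open Aschbacher (coordGL pureGL permGL pureMat coordGL_mulVec)

/-- a system of coordinates of a tensor power -/
structure PS (ι : Type) [Fintype ι] [DecidableEq ι] (F : Type*) [Field F] (k t : ℕ) where
  /-- the bijection of index sets -/
  e : ι ≃ (Fin t → Fin k)
  /-- the change of basis -/
  P : GL ι F

variable {ι : Type} [Fintype ι] [DecidableEq ι] {F : Type*} [Field F] {k t : ℕ}

/-- the wreath subgroup -/
abbrev W (X : PS ι F k t) : Subgroup (GL ι F) := Cfsg.Geo.tensorWreathSubgroup k t X.e X.P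

section

variable (X : PS ι F k t)

/-- the vector with the given coordinates -/
def pemb : ((Fin t → Fin k) → F) →ₗ[F] (ι → F) := act X.P ∘ₗ LinearMap.funLeft F F X.e

/-- the pure tensor -/
def pv (xs : Fin t → Fin k → F) : ι → F := pemb X fun a => ∏ i, xs i (a i)

theorem pemb_surjective : Function.Surjective (pemb X) := fun x =>
  ⟨fun a => act X.P⁻¹ x (X.e.symm a), by
    show act X.P ((fun a => act X.P⁻¹ x (X.e.symm a)) ∘ X.e) = x
    rw [show (fun a => act X.P⁻¹ x (X.e.symm a)) ∘ X.e = act X.P⁻¹ x from funext fun i => by simp,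
      act_act_inv]⟩

theorem pv_ext {M : Type*} [AddCommGroup M] [Module F M] {L L' : (ι → F) →ₗ[F] M}
    (h : ∀ xs, L (pv X xs) = L' (pv X xs)) : L = L' := by
  apply LinearMap.ext
  intro x
  obtain ⟨y, rfl⟩ := pemb_surjective X x
  rw [pi_eq_sum_univ' y, map_sum, map_sum, map_sum]
  refine Finset.sum_congr rfl fun a _ => ?_
  rw [map_smul, map_smul, map_smul]
  congr 1
  have e : (Pi.single a 1 : (Fin t → Fin k) → F) =
      fun b => ∏ i, (Pi.single (a i) 1 : Fin k → F) (b i) := by
    funext b
    by_cases h : b = a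
    · subst h; simp
    · obtain ⟨i, hi⟩ := Function.ne_iff.1 h
      rw [Pi.single_eq_of_ne h, Finset.prod_eq_zero (Finset.mem_univ i) (Pi.single_eq_of_ne hi _)]
  rw [e]
  exact h _

theorem gl_ext_pv {g h : GL ι F} (H : ∀ xs, act g (pv X xs) = act h (pv X xs)) : g = h :=
  gl_ext fun x => LinearMap.congr_fun (pv_ext X H) x

/-- the element with the given factors -/
def pure (a : Fin t → GL (Fin k) F) : GL ι F := coordGL X.e X.P (pureGL a)

/-- the element permuting the factors -/
def perm (π : Equiv.Perm (Fin t)) : GL ι F := coordGL X.e X.P (permGL π)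

/-- the element acting in one factor -/
def slot (i : Fin t) (b : GL (Fin k) F) : GL ι F := pure X (Pi.mulSingle i b)

theorem act_coordGL (g : GL (Fin t → Fin k) F) (y : (Fin t → Fin k) → F) :
    act (coordGL X.e X.P g) (pemb X y) = pemb X ((g : Matrix _ _ F) *ᵥ y) := by
  simp only [pemb, LinearMap.comp_apply, act_apply, LinearMap.funLeft]
  exact coordGL_mulVec X.e X.P g y

theorem act_pure (a : Fin t → GL (Fin k) F) (xs : Fin t → Fin k → F) :
    act (pure X a) (pv X xs) = pv X fun i => act (a i) (xs i) := by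
  rw [pure, pv, act_coordGL]
  unfold pv
  congr 1
  funext x
  show ∑ y : Fin t → Fin k, (∏ i, (a i : Matrix (Fin k) (Fin k) F) (x i) (y i)) * ∏ i, xs i (y i) = _
  simp only [← Finset.prod_mul_distrib]
  exact (Fintype.prod_sum fun i c => (a i : Matrix (Fin k) (Fin k) F) (x i) c * xs i c).symm

theorem act_perm (π : Equiv.Perm (Fin t)) (xs : Fin t → Fin k → F) :
    act (perm X π) (pv X xs) = pv X fun i => xs (π.symm i) := by
  rw [perm, pv, act_coordGL]
  unfold pv
  congr 1
  funext x
  show ∑ y : Fin t → Fin k, (if y = x ∘ π then (1 : F) else 0) * ∏ i, xs i (y i) = _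
  simp only [ite_mul, one_mul, zero_mul, Finset.sum_ite_eq', Finset.mem_univ, if_true]
  exact Fintype.prod_equiv π _ _ fun i => by simp

theorem pure_mul (a b : Fin t → GL (Fin k) F) : pure X (a * b) = pure X a * pure X b := by
  simp only [pure, map_mul]

theorem pure_one : pure X (1 : Fin t → GL (Fin k) F) = 1 := by simp only [pure, map_one]

theorem perm_one : perm X (1 : Equiv.Perm (Fin t)) = 1 := by
  rw [perm, MaxCl.Spin.permGL_one, map_one]

theorem perm_mul (π π' : Equiv.Perm (Fin t)) : perm X (π * π') = perm X π * perm X π' := by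
  rw [perm, perm, perm, Aschbacher.permGL_mul, map_mul]

theorem pure_mem (a : Fin t → GL (Fin k) F) : pure X a ∈ W X :=
  Aschbacher.mem_tensorWreathSubgroup X.e X.P (Aschbacher.pureGL_mem a)

theorem perm_mem (π : Equiv.Perm (Fin t)) : perm X π ∈ W X :=
  Aschbacher.mem_tensorWreathSubgroup X.e X.P (Subgroup.subset_closure (Or.inr ⟨π, fun _ _ => rfl⟩))

theorem slot_mem (i : Fin t) (b : GL (Fin k) F) : slot X i b ∈ W X := pure_mem X _

/-- normal form of the wreath subgroup -/
theorem exists_normal {g : GL ι F} (hg : g ∈ W X) : ∃ π a, g = perm X π * pure X a := by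
  obtain ⟨_, ⟨g₀, hg₀, rfl⟩, rfl⟩ := hg
  obtain ⟨π, a, rfl⟩ := MaxCl.Spin.exists_normal_form hg₀
  refine ⟨π, a, ?_⟩
  rw [perm, pure, ← map_mul, Aschbacher.coordGL_eq]
  rfl

theorem act_normal (π : Equiv.Perm (Fin t)) (a : Fin t → GL (Fin k) F) (xs : Fin t → Fin k → F) :
    act (perm X π * pure X a) (pv X xs) = pv X fun i => act (a (π.symm i)) (xs (π.symm i)) := by
  rw [act_mul, act_pure, act_perm]

end

/-! ### splitting off one factor -/

/-- the index map of the remaining factors -/
def rest (k t : ℕ) : Fin (k ^ t) ≃ (Fin t → Fin k) := finFunctionFinEquiv.symm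

/-- the coordinates of the remaining factors -/
def sub (F : Type*) [Field F] (k t : ℕ) : PS (Fin (k ^ t)) F k t := ⟨rest k t, 1⟩

variable (X : PS ι F k (t + 1))

/-- the tensor coordinates splitting off the factor `i` -/
def split (i : Fin (t + 1)) : TSys ι F (k ^ t) k where
  e := X.e.trans ((Fin.insertNthEquiv (fun _ => Fin k) i).symm.trans
    ((Equiv.prodComm _ _).trans ((rest k t).symm.prodCongr (Equiv.refl _))))
  P := X.P

theorem split_e (i : Fin (t + 1)) (x : ι) :
    (split X i).e x = ((rest k t).symm (fun j => X.e x (i.succAbove j)), X.e x i) := rfl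

theorem pv_sub (ys : Fin t → Fin k → F) (b : Fin (k ^ t)) :
    pv (sub F k t) ys b = ∏ j, ys j (rest k t b j) := by
  show act (1 : GL (Fin (k ^ t)) F) _ b = _
  rw [act_one]; rfl

theorem pv_split (i : Fin (t + 1)) (xs : Fin (t + 1) → Fin k → F) :
    pv X xs = pt (split X i) (pv (sub F k t) fun j => xs (i.succAbove j)) (xs i) := by
  show act X.P _ = act X.P _
  congr 1
  funext x
  show ∏ l, xs l (X.e x l) = pv (sub F k t) _ ((split X i).e x).1 * xs i ((split X i).e x).2
  rw [split_e, pv_sub, Equiv.apply_symm_apply, Fin.prod_univ_succAbove _ i, mul_comm]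

theorem pt_pv (i : Fin (t + 1)) (ys : Fin t → Fin k → F) (u : Fin k → F) :
    pt (split X i) (pv (sub F k t) ys) u = pv X (i.insertNth u ys) := by
  rw [pv_split X i]; simp

/-- maps agreeing on pure tensors with the given factor -/
theorem split_ext {M : Type*} [AddCommGroup M] [Module F M] (i : Fin (t + 1))
    {L L' : (ι → F) →ₗ[F] M} (h : ∀ ys u, L (pt (split X i) (pv (sub F k t) ys) u) =
      L' (pt (split X i) (pv (sub F k t) ys) u)) : L = L' :=
  pv_ext X fun xs => by rw [pv_split X i]; exact h _ _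

theorem gl_slot (i : Fin (t + 1)) (b : GL (Fin k) F) : gl (split X i) 1 b = slot X i b := by
  refine gl_ext fun x => LinearMap.congr_fun (pv_ext X (L := act _) (L' := act _) fun xs => ?_) x
  rw [slot, act_pure, pv_split X i xs, act_gl_pt, act_one,
    pv_split X i fun j => act ((Pi.mulSingle i b : Fin (t + 1) → GL (Fin k) F) j) (xs j)]
  simp [Fin.succAbove_ne, act_one]

theorem gl_pure (i : Fin (t + 1)) (a : Fin t → GL (Fin k) F) (b : GL (Fin k) F) :
    gl (split X i) (pure (sub F k t) a) b = pure X (i.insertNth b a) := by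
  refine gl_ext fun x => LinearMap.congr_fun (pv_ext X (L := act _) (L' := act _) fun xs => ?_) x
  rw [act_pure, pv_split X i xs, act_gl_pt, act_pure,
    pv_split X i fun j => act ((i.insertNth b a : Fin (t + 1) → GL (Fin k) F) j) (xs j)]
  simp

/-- the permutation of the remaining factors -/
def restPerm {t : ℕ} (i : Fin (t + 1)) (π : Equiv.Perm (Fin (t + 1))) : Equiv.Perm (Fin t) :=
  (finSuccAboveEquiv i).trans ((π.subtypeEquiv fun x => by simp).trans (finSuccAboveEquiv (π i)).symm)

theorem restPerm_spec {t : ℕ} (i : Fin (t + 1)) (π : Equiv.Perm (Fin (t + 1))) (j : Fin t) :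
    (π i).succAbove (restPerm i π j) = π (i.succAbove j) := by
  have h := (finSuccAboveEquiv (π i)).apply_symm_apply
    ((π.subtypeEquiv (p := fun x => x ≠ i) (q := fun x => x ≠ π i) fun x => by simp) (finSuccAboveEquiv i j))
  exact congrArg Subtype.val h

theorem act_normal_split (i : Fin (t + 1)) (π : Equiv.Perm (Fin (t + 1))) (a : Fin (t + 1) → GL (Fin k) F)
    (β : Fin (k ^ t) → F) (u : Fin k → F) :
    act (perm X π * pure X a) (pt (split X i) β u) = pt (split X (π i))
      (act (perm (sub F k t) (restPerm i π) * pure (sub F k t) fun j => a (i.succAbove j)) β) (act (a i) u) := by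
  refine LinearMap.congr_fun (pv_ext (sub F k t) (L := act _ ∘ₗ MaxCl.Tens.ptL (split X i) u)
    (L' := MaxCl.Tens.ptL (split X (π i)) (act (a i) u) ∘ₗ act _) fun ys => ?_) β
  show act _ (pt _ _ u) = pt _ (act _ _) _
  rw [pt_pv, act_normal, act_normal, pv_split X (π i)]
  congr 2
  · funext j
    have h := restPerm_spec i π ((restPerm i π).symm j)
    rw [Equiv.apply_symm_apply] at h
    rw [h, Equiv.symm_apply_apply, Fin.insertNth_apply_succAbove]
  all_goals (rw [Equiv.symm_apply_apply]; try simp)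

/-- `a ⊗ b` lies in the wreath subgroup when `a` does -/
theorem gl_mem_W (i : Fin (t + 1)) {A : GL (Fin (k ^ t)) F} (hA : A ∈ W (sub F k t)) (b : GL (Fin k) F) :
    gl (split X i) A b ∈ W X := by
  obtain ⟨π, a, rfl⟩ := exists_normal _ hA
  rw [← one_mul b, ← gl_mul, gl_pure]
  refine mul_mem ?_ (pure_mem X _)
  let ρ : Equiv.Perm (Fin (t + 1)) :=
    (finSuccEquiv' i).trans ((Equiv.optionCongr π).trans (finSuccEquiv' i).symm)
  suffices h : gl (split X i) (perm (sub F k t) π) 1 = perm X ρ from h ▸ perm_mem X ρ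
  have hρi : ρ i = i := by simp [ρ]
  have hρ : ∀ j, ρ (i.succAbove j) = i.succAbove (π j) := fun j => by simp [ρ]
  refine gl_ext fun x => LinearMap.congr_fun (pv_ext X (L := act _) (L' := act _) fun xs => ?_) x
  rw [act_perm, pv_split X i xs, act_gl_pt, act_perm, act_one, pv_split X i fun j => xs (ρ.symm j)]
  congr 2
  · funext j
    congr 1
    rw [eq_comm, Equiv.symm_apply_eq, hρ, Equiv.apply_symm_apply]
  · congr 1
    rw [eq_comm, Equiv.symm_apply_eq, hρi]

/-! ### the form -/

/-- the tensor power of a form on the standard space -/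
def gramForm (σ : F ≃+* F) (f₀ : (Fin k → F) → (Fin k → F) → F) (t : ℕ) (x y : Fin (k ^ t) → F) : F :=
  ∑ a, ∑ b, x a * (∏ i, Cfsg.Geo.gramMatrix f₀ (rest k t a i) (rest k t b i)) * σ (y b)

variable {σ : F ≃+* F} {f₀ : (Fin k → F) → (Fin k → F) → F}

theorem gramForm_pv (h₀ : Cfsg.Geo.IsUnitaryForm σ f₀) (xs ys : Fin t → Fin k → F) :
    gramForm σ f₀ t (pv (sub F k t) xs) (pv (sub F k t) ys) = ∏ i, f₀ (xs i) (ys i) := by
  have hf : ∀ u v, f₀ u v = ∑ a, ∑ b, u a * Cfsg.Geo.gramMatrix f₀ a b * σ (v b) := fun u v =>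
    (Forms.formOfGram_gramMatrix (σ : F →+* F) f₀ h₀.add_left h₀.smul_left (fun x y => h₀.herm y x) u v).symm
  simp only [gramForm, pv_sub, map_prod, ← Finset.prod_mul_distrib]
  rw [← Equiv.sum_comp (rest k t).symm]
  simp only [← Equiv.sum_comp (rest k t).symm (fun b => ∏ i, _), Equiv.apply_symm_apply]
  simp only [hf, Fintype.prod_sum]

end Cfsg.Agent.TPow
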