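/-
Vectors and moves in a unitary space of dimension at least three.
-/
import Mathlib
import Cfsg.Agent.Lib.MaxCl.UnitarySmall
import Cfsg.Agent.Lib.MaxCl.UnitaryIso

set_option autoImplicit false

namespace Cfsg.Agent.TPow

open scoped MatrixGroups Matrix
open Module (finrank)
open MaxCl (act act_mul act_one exists_dual)
open MaxCl.Unit

variable {k : ℕ} {F : Type*} [Field F] {σ : F ≃+* F} {h : (Fin k → F) → (Fin k → F) → F}
variable (hh : Cfsg.Geo.IsUnitaryForm σ h)
include hh

/-- a moved scalar whose norm is not one, or there are no other fixed scalars -/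
theorem exists_moved_norm_or :
    (∃ l : F, σ l ≠ l ∧ l * σ l ≠ 1) ∨ ∀ x : F, σ x = x → x = 0 ∨ x = 1 := by
  by_contra hc
  simp only [not_or, not_exists, not_and, not_forall, not_not] at hc
  obtain ⟨h1, x, hx, hx0, hx1⟩ := hc
  obtain ⟨a, ha⟩ := exists_moved hh.ne_refl
  have key : ∀ y, σ y = y → (a + y) * σ (a + y) = 1 := fun y hy => h1 _ fun e => ha (by
    rw [map_add, hy] at e; exact add_right_cancel e)
  have e0 := key 0 (map_zero σ)
  have e1 := key 1 (map_one σ)
  have e2 := key x hx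
  simp only [map_add, hx, map_zero, map_one, add_zero] at e0 e1 e2
  have : x * (x - 1) = 0 := by linear_combination e2 - x * e1 + (x - 1) * e0
  rcases mul_eq_zero.1 this with h' | h'
  · exact hx0 h'
  · exact hx1 (sub_eq_zero.1 h')

variable [Fintype F]

/-- moved scalars of every norm -/
theorem exists_moved_of_norm {a : F} (ha : σ a = a) (ha0 : a ≠ 0) : ∃ l : F, σ l ≠ l ∧ l * σ l = a := by
  obtain ⟨l, hl⟩ := exists_norm hh.involutive hh.ne_refl a ha
  have hl0 : l ≠ 0 := fun e => ha0 (by rw [← hl, e, zero_mul])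
  by_cases hm : σ l = l
  swap; · exact ⟨l, hm, hl⟩
  suffices ∃ u : F, u * σ u = 1 ∧ σ u ≠ u by
    obtain ⟨u, hu, hu'⟩ := this
    refine ⟨l * u, fun e => hu' (mul_left_cancel₀ hl0 ?_), ?_⟩
    · rw [map_mul, hm] at e; exact e
    · rw [map_mul]; linear_combination (u * σ u) * hl + a * hu
  obtain ⟨b, hb0, hb, hb'⟩ : ∃ b : F, b ≠ 0 ∧ σ b ≠ b ∧ σ b ≠ -b := by
    obtain ⟨b, hb⟩ := exists_moved hh.ne_refl
    by_cases h2 : σ b = -b
    swap; · exact ⟨b, fun e => hb (by rw [e, map_zero]), hb, h2⟩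
    refine ⟨b + 1, fun e => hb ?_, fun e => hb ?_, fun e => ?_⟩
    · rw [eq_neg_of_add_eq_zero_left e, map_neg, map_one]
    · rw [map_add, map_one] at e; exact add_right_cancel e
    · rw [map_add, map_one, h2] at e
      have h3 : (2 : F) = 0 := by linear_combination e
      exact hb (by rw [h2]; linear_combination -b * h3)
  have hσb : σ b ≠ 0 := (map_ne_zero σ).2 hb0
  refine ⟨b / σ b, ?_, ?_⟩
  · rw [map_div₀, hh.involutive, div_mul_div_comm, mul_comm b, div_self (mul_ne_zero hσb hb0)]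
  · rw [map_div₀, hh.involutive, Ne, div_eq_div_iff hb0 hσb]
    intro e
    have : (σ b - b) * (σ b + b) = 0 := by linear_combination e
    rcases mul_eq_zero.1 this with h' | h'
    · exact hb (sub_eq_zero.1 h')
    · exact hb' (eq_neg_of_add_eq_zero_left h')

/-- a partner of an isotropic vector -/
theorem exists_pair {w : Fin k → F} (hw0 : w ≠ 0) (hw : h w w = 0) :
    ∃ w', h w' w' = 0 ∧ h w' w = 1 ∧ h w w' = 1 := by
  obtain ⟨φ, -, hφ⟩ := exists_dual (⊥ : Submodule F (Fin k → F)) (v := w) (by simpa using hw0)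
  obtain ⟨z, hz⟩ := exists_repr hh φ
  have hzw : h z w = 1 := by rw [← herm' hh, ← hz, hφ, map_one]
  obtain ⟨a, ha⟩ := exists_isotropic_shift hh hw hzw
  have : h (z + a • w) w = 1 := by rw [add_left hh, smul_left hh, hzw, hw, mul_zero, add_zero]
  exact ⟨_, ha, this, by rw [← herm' hh, this, map_one]⟩

/-- an anisotropic vector orthogonal to a hyperbolic pair -/
theorem exists_aniso {w w' : Fin k → F} (hw : h w w = 0) (hw' : h w' w' = 0) (hw'w : h w' w = 1)
    (hww' : h w w' = 1) (hk : 3 ≤ k) : ∃ v, h v w = 0 ∧ h v w' = 0 ∧ h v v ≠ 0 := by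
  classical
  set P := Submodule.span F ({w, w'} : Set (Fin k → F)) with hP
  have hPdim : finrank F P ≤ 2 := by
    refine (finrank_span_le_card ({w, w'} : Set (Fin k → F))).trans ?_
    simp only [Set.toFinset_insert, Set.toFinset_singleton]
    exact Finset.card_le_two
  have h1 := finrank_uperp_ge hh P
  rw [Fintype.card_fin] at h1
  obtain ⟨a, ha, ha0⟩ := Submodule.exists_mem_ne_zero_of_ne_bot (p := uperp hh P) fun e => by
    rw [e, finrank_bot] at h1; omega
  have hwP : w ∈ P := Submodule.subset_span (Set.mem_insert w _)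
  have hw'P : w' ∈ P := Submodule.subset_span (Set.mem_insert_of_mem w rfl)
  by_contra hno
  push Not at hno
  obtain ⟨x, hx⟩ := (hh.nondegenerate a ha0).2
  obtain ⟨y, hy⟩ : ∃ y, y = x - h x w' • w - h x w • w' := ⟨_, rfl⟩
  have haw := ha w hwP
  have haw' := ha w' hw'P
  have hyw : h y w = 0 := by
    rw [hy, sub_left hh, sub_left hh, smul_left hh, smul_left hh, hw, hw'w]; ring
  have hyw' : h y w' = 0 := by
    rw [hy, sub_left hh, sub_left hh, smul_left hh, smul_left hh, hww', hw']; ring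
  have hay : h a y = h a x := by
    rw [hy, sub_right hh, sub_right hh, smul_right hh, smul_right hh, haw, haw']; ring
  obtain ⟨e, he⟩ := exists_trace_one hh.involutive hh.ne_refl
  have haa := hno a haw haw'
  have hyy := hno y hyw hyw'
  obtain ⟨r, hr⟩ : ∃ r, r = e / h a x := ⟨_, rfl⟩
  have h3 := hno (r • a + y) (by rw [add_left hh, smul_left hh, haw, hyw]; ring)
    (by rw [add_left hh, smul_left hh, haw', hyw']; ring)
  simp only [add_left hh, add_right hh, smul_left hh, smul_right hh, haa, hyy, ← herm' hh a y, hay] at h3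
  have h4 : r * h a x = e := by rw [hr, div_mul_cancel₀ _ hx]
  have h5 : σ r * σ (h a x) = σ e := by rw [← map_mul, h4]
  refine one_ne_zero (α := F) ?_
  linear_combination h3 - h4 - h5 - he

/-- moving an isotropic vector to a multiple by a moved scalar -/
theorem exists_move_smul {w : Fin k → F} (hw0 : w ≠ 0) (hw : h w w = 0) (hk : 3 ≤ k) {l : F} (hl : σ l ≠ l) :
    ∃ b ∈ utvGroup hh, act b w = l • w := by
  obtain ⟨w', hw', hw'w, hww'⟩ := exists_pair hh hw0 hw
  obtain ⟨v, hvw, hvw', hv⟩ := exists_aniso hh hw hw' hw'w hww' hk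
  obtain ⟨θ, hθ0, hθ⟩ := exists_skew hh.ne_refl hh.involutive
  have hσθ : σ θ = -θ := eq_neg_of_add_eq_zero_right hθ
  have hl0 : l ≠ 0 := fun e => hl (by rw [e, map_zero])
  have hσl : σ l ≠ 0 := (map_ne_zero σ).2 hl0
  obtain ⟨c, hc⟩ : ∃ c, c = θ / σ l := ⟨_, rfl⟩
  have hσc : σ c = -θ / l := by rw [hc, map_div₀, hσθ, hh.involutive]
  have htr : c + σ c ≠ 0 := by
    rw [hσc, hc, div_add_div _ _ hσl hl0]
    refine div_ne_zero ?_ (mul_ne_zero hσl hl0)
    rw [show θ * l + σ l * -θ = θ * (l - σ l) by ring]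
    exact mul_ne_zero hθ0 (sub_ne_zero.2 (Ne.symm hl))
  obtain ⟨e, hedef⟩ : ∃ e, e = -h v v / (c + σ c) := ⟨_, rfl⟩
  have he0 : e ≠ 0 := hedef ▸ div_ne_zero (neg_ne_zero.2 hv) htr
  have he : σ e = e := by
    rw [hedef, map_div₀, map_neg, herm' hh, map_add, hh.involutive, add_comm (σ c)]
  have hee : e * (c + σ c) = -h v v := by rw [hedef, div_mul_cancel₀ _ htr]
  obtain ⟨y, hy⟩ : ∃ y, y = c • w' + v + e • w := ⟨_, rfl⟩
  have hwv := eq_zero_symm hh hvw
  have hw'v := eq_zero_symm hh hvw'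
  have hyy : h y y = 0 := by
    simp only [hy, add_left hh, add_right hh, smul_left hh, smul_right hh, hw, hw', hww', hw'w, hvw, hvw',
      hwv, hw'v, he]
    linear_combination hee
  have hyw : h y (l • w) = θ := by
    simp only [hy, add_left hh, smul_left hh, smul_right hh, hw, hw'w, hvw]
    rw [hc]
    field_simp
    ring
  have hwy₁ : h w ((-θ) • w') = θ := by rw [smul_right hh, map_neg, hσθ, hww', neg_neg, mul_one]
  have hy₁y : h ((-θ) • w') y = -θ * e := by
    simp only [hy, add_right hh, smul_left hh, smul_right hh, hw', hw'w, hw'v, he]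
    ring
  have hy₁ : h ((-θ) • w') ((-θ) • w') = 0 := by rw [smul_left hh, smul_right hh, hw', mul_zero, mul_zero]
  obtain ⟨g₁, hg₁, e₁⟩ := exists_move_skew hh hw hy₁ (by rw [hwy₁]; exact hθ) (by rw [hwy₁]; exact hθ0)
  obtain ⟨g₂, hg₂, e₂⟩ := exists_move_skew hh hy₁ hyy
    (by rw [hy₁y, map_mul, map_neg, hσθ, he]; ring) (by rw [hy₁y]; exact mul_ne_zero (neg_ne_zero.2 hθ0) he0)
  obtain ⟨g₃, hg₃, e₃⟩ := exists_move_skew hh (y := l • w) hyy
    (by rw [smul_left hh, smul_right hh, hw, mul_zero, mul_zero]) (by rw [hyw]; exact hθ) (by rw [hyw]; exact hθ0)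
  exact ⟨g₃ * g₂ * g₁, mul_mem (mul_mem hg₃ hg₂) hg₁, by rw [act_mul, act_mul, e₁, e₂, e₃]⟩

/-- moving an isotropic vector to a multiple of any other with prescribed norm of the factor -/
theorem exists_move_norm {x y : Fin k → F} (hx0 : x ≠ 0) (hy0 : y ≠ 0) (hx : h x x = 0) (hy : h y y = 0)
    (hk : 3 ≤ k) {a : F} (ha : σ a = a) (ha0 : a ≠ 0) :
    ∃ b ∈ utvGroup hh, ∃ l : F, l * σ l = a ∧ act b x = l • y := by
  obtain ⟨g, hg, m, hm, e⟩ := exists_move_line hh hx0 hy0 hx hy
  obtain ⟨l, hl, hla⟩ := exists_moved_of_norm hh (a := a / (m * σ m))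
    (by rw [map_div₀, ha, map_mul, hh.involutive, mul_comm (σ m)])
    (div_ne_zero ha0 (mul_ne_zero hm ((map_ne_zero σ).2 hm)))
  obtain ⟨b, hb, hby⟩ := exists_move_smul hh hy0 hy hk hl
  refine ⟨b * g, mul_mem hb hg, m * l, ?_, by rw [act_mul, e, map_smul, hby, smul_smul]⟩
  have := mul_ne_zero hm ((map_ne_zero σ).2 hm)
  rw [map_mul]
  calc m * l * (σ m * σ l) = (m * σ m) * (l * σ l) := by ring
    _ = a := by rw [hla, mul_div_cancel₀ _ this]

/-- two vectors with isotropic partner: an isotropic vector orthogonal to a given one -/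
theorem exists_orth_iso {w : Fin k → F} (hw0 : w ≠ 0) (hw : h w w = 0) (hk : 4 ≤ k) :
    ∃ φ, h φ φ = 0 ∧ h φ w = 0 ∧ φ ∉ F ∙ w := by
  obtain ⟨φ, hφ, hφφ, hφw⟩ := exists_iso_perp hh (F ∙ w)
    (by rw [finrank_span_singleton hw0, Fintype.card_fin]; omega)
  exact ⟨φ, hφφ, hφ w (Submodule.mem_span_singleton_self w), hφw⟩

end Cfsg.Agent.TPow
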