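/-
A unitary space with tensor power coordinates, its splittings at one factor, and the subgroups containing the
special unitary group of each factor with scalar top elements.
-/
import Mathlib
import Cfsg.Agent.Lib.TPow.Basic
import Cfsg.Agent.Lib.TPow.Vec
import Cfsg.Agent.Lib.MaxCl.UnitaryTensorCent

set_option autoImplicit false

namespace Cfsg.Agent.TPow

open scoped MatrixGroups Matrix
open Module (finrank)
open MaxCl (act gl_ext act_mul act_one act_inv_act act_act_inv act_apply act_injective exists_dual)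
open MaxCl.Unit (uiso flinU utv utvGroup uperp)
open MaxCl.Tens (TSys pt gl pt_ext gl_ext_pt act_gl_pt gl_mul gl_one gl_inv det_gl ptL ptR proj proj_pt root
  act_root suGroup IsTop TopScalar)

variable {ι : Type} [Fintype ι] [DecidableEq ι] {F : Type*} [Field F] {N k t : ℕ}

/-- tensor coordinates of a unitary space with a factor of dimension at least three -/
structure TF (T : TSys ι F N k) (σ : F ≃+* F) (f : (ι → F) → (ι → F) → F)
    (fB : (Fin N → F) → (Fin N → F) → F) (f₀ : (Fin k → F) → (Fin k → F) → F) (c : F) : Prop where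
  hU : Cfsg.Geo.IsUnitaryForm σ f
  hB : Cfsg.Geo.IsUnitaryForm σ fB
  h₀ : Cfsg.Geo.IsUnitaryForm σ f₀
  c_ne : c ≠ 0
  form : ∀ u v u' v', f (pt T u v) (pt T u' v') = c * (fB u u' * f₀ v v')
  three : 3 ≤ k
  pos : 0 < N
  hex : k = 3 → ∃ x : F, σ x = x ∧ x ≠ 0 ∧ x ≠ 1

/-- a unitary space with tensor power coordinates -/
structure PF (X : PS ι F k t) (σ : F ≃+* F) (f : (ι → F) → (ι → F) → F)
    (f₀ : (Fin k → F) → (Fin k → F) → F) (c : F) : Prop where
  hU : Cfsg.Geo.IsUnitaryForm σ f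
  h₀ : Cfsg.Geo.IsUnitaryForm σ f₀
  c_ne : c ≠ 0
  form : ∀ xs ys, f (pv X xs) (pv X ys) = c * ∏ i, f₀ (xs i) (ys i)
  three : 3 ≤ k
  hex : k = 3 → ∃ x : F, σ x = x ∧ x ≠ 0 ∧ x ≠ 1

/-- a group of isometries containing `1 ⊗ SU` with scalar top elements -/
structure Env (T : TSys ι F N k) (f : (ι → F) → (ι → F) → F) (f₀ : (Fin k → F) → (Fin k → F) → F)
    (M : Subgroup (GL ι F)) : Prop where
  le : M ≤ uiso f
  right : ∀ b ∈ suGroup f₀, gl T 1 b ∈ M
  top : TopScalar T f₀ M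

/-- a group of isometries containing `SU` of each factor with scalar top elements -/
structure Good (X : PS ι F k (t + 1)) (f : (ι → F) → (ι → F) → F) (f₀ : (Fin k → F) → (Fin k → F) → F)
    (M : Subgroup (GL ι F)) : Prop where
  le : M ≤ uiso f
  slot : ∀ i, ∀ b ∈ suGroup f₀, slot X i b ∈ M
  top : ∀ i, TopScalar (split X i) f₀ M

theorem Good.env {X : PS ι F k (t + 1)} {f : (ι → F) → (ι → F) → F} {f₀ : (Fin k → F) → (Fin k → F) → F}
    {M : Subgroup (GL ι F)} (G : Good X f f₀ M) (i : Fin (t + 1)) : Env (split X i) f f₀ M :=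
  ⟨G.le, fun b hb => gl_slot X i b ▸ G.slot i b hb, G.top i⟩

section TF

variable {T : TSys ι F N k} {σ : F ≃+* F} {f : (ι → F) → (ι → F) → F}
variable {fB : (Fin N → F) → (Fin N → F) → F} {f₀ : (Fin k → F) → (Fin k → F) → F} {c : F}
variable (C : TF T σ f fB f₀ c)
include C

theorem TF.form_right (x : ι → F) (u : Fin N → F) (w : Fin k → F) :
    f x (pt T u w) = c * fB (proj T C.h₀ w x) u := by
  let L : (ι → F) →ₗ[F] F := c • (flinU C.hB u ∘ₗ proj T C.h₀ w)
  have : flinU C.hU (pt T u w) = L := by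
    refine pt_ext T fun a b => ?_
    show f (pt T a b) (pt T u w) = c * fB (proj T C.h₀ w (pt T a b)) u
    rw [C.form, proj_pt, MaxCl.Unit.smul_left C.hB]; ring
  exact LinearMap.congr_fun this x

theorem TF.ext_form {x y : ι → F} (h : ∀ u v, f x (pt T u v) = f y (pt T u v)) : x = y := by
  by_contra hne
  obtain ⟨z, hz⟩ := (C.hU.nondegenerate (x - y) (sub_ne_zero.2 hne)).1
  apply hz
  have : flinU C.hU (x - y) = 0 := pt_ext T fun u v => by
    show f (pt T u v) (x - y) = 0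
    rw [MaxCl.Unit.eq_zero_symm C.hU]
    rw [MaxCl.Unit.sub_left C.hU, h, sub_self]
  exact LinearMap.congr_fun this z

theorem TF.gl_mem_uiso {a : GL (Fin N) F} {b : GL (Fin k) F} (ha : a ∈ uiso fB) (hb : b ∈ uiso f₀) :
    gl T a b ∈ uiso f := by
  have h1 : ∀ y u v, f (act (gl T a b) y) (act (gl T a b) (pt T u v)) = f y (pt T u v) := by
    intro y u v
    let L : (ι → F) →ₗ[F] F := flinU C.hU (act (gl T a b) (pt T u v)) ∘ₗ act (gl T a b)
    have : L = flinU C.hU (pt T u v) := pt_ext T fun u' v' => by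
      show f (act (gl T a b) (pt T u' v')) (act (gl T a b) (pt T u v)) = f (pt T u' v') (pt T u v)
      rw [act_gl_pt, act_gl_pt, C.form, C.form, MaxCl.Unit.mem_uiso.1 ha, MaxCl.Unit.mem_uiso.1 hb]
    exact LinearMap.congr_fun this y
  refine MaxCl.Unit.mem_uiso.2 fun x y => ?_
  rw [← MaxCl.Unit.herm' C.hU, ← MaxCl.Unit.herm' C.hU y x]
  congr 1
  let L : (ι → F) →ₗ[F] F := flinU C.hU (act (gl T a b) x) ∘ₗ act (gl T a b)
  have : L = flinU C.hU x := pt_ext T fun u v => by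
    show f (act (gl T a b) (pt T u v)) (act (gl T a b) x) = f (pt T u v) x
    rw [← MaxCl.Unit.herm' C.hU, h1, MaxCl.Unit.herm' C.hU]
  exact LinearMap.congr_fun this y

theorem TF.gl_mem_su {b : GL (Fin k) F} (hb : b ∈ suGroup f₀) : gl T 1 b ∈ suGroup f := by
  refine ⟨C.gl_mem_uiso (one_mem _) hb.1, MonoidHom.mem_ker.2 (Units.ext ?_)⟩
  have db := congrArg Units.val (MonoidHom.mem_ker.1 hb.2)
  rw [Matrix.GeneralLinearGroup.val_det_apply] at db
  rw [Matrix.GeneralLinearGroup.val_det_apply, det_gl, db]; simp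

theorem TF.utvGroup_le {b : GL (Fin k) F} (hb : b ∈ utvGroup C.h₀) : b ∈ suGroup f₀ :=
  ⟨MaxCl.Unit.utvGroup_le_uiso C.h₀ hb, MaxCl.Unit.utvGroup_le_sl C.h₀ hb⟩

theorem TF.root_mem {M : Subgroup (GL ι F)} (hM : Env T f f₀ M) {w : Fin k → F} (hw : f₀ w w = 0) {d : F}
    (hd : d + σ d = 0) : root T C.h₀ w d ∈ M :=
  hM.right _ (TF.utvGroup_le C (MaxCl.Unit.utv_mem_utvGroup C.h₀ hw hd))

theorem TF.root_fix_iff {w : Fin k → F} (hw : f₀ w w = 0) (hw0 : w ≠ 0) {d : F} (hd : d ≠ 0) {x : ι → F} :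
    act (root T C.h₀ w d) x = x ↔ proj T C.h₀ w x = 0 := by
  rw [act_root C.h₀ hw, add_eq_left, smul_eq_zero, or_iff_right hd, MaxCl.Tens.pt_eq_zero, or_iff_left hw0]

theorem TF.root_conj {b : GL (Fin k) F} (hb : b ∈ uiso f₀) {w : Fin k → F} (hw : f₀ w w = 0) (d : F) :
    gl T 1 b * root T C.h₀ w d * (gl T 1 b)⁻¹ = root T C.h₀ (act b w) d := by
  rw [gl_inv, root, gl_mul, gl_mul, MaxCl.Unit.conj_utv C.h₀ hb hw, inv_one, one_mul, one_mul, root]

theorem TF.c_fixed : σ c = c := by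
  obtain ⟨u, u', hu⟩ := MaxCl.Tens.exists_ne_two C.hB C.pos
  obtain ⟨v, v', hv⟩ := MaxCl.Tens.exists_ne_two C.h₀ (by have := C.three; omega)
  have e := MaxCl.Unit.herm' C.hU (pt T u v) (pt T u' v')
  rw [C.form, C.form, map_mul, map_mul, MaxCl.Unit.herm' C.hB, MaxCl.Unit.herm' C.h₀] at e
  exact mul_right_cancel₀ (mul_ne_zero (MaxCl.Unit.ne_symm C.hB hu) (MaxCl.Unit.ne_symm C.h₀ hv)) e

theorem TF.isTop_apply {w : Fin k → F} {z : GL ι F} {S : (Fin N → F) →ₗ[F] (Fin N → F)}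
    (h : IsTop T f₀ w z S) (x : ι → F) : act z x = x + pt T (S (proj T C.h₀ w x)) w := by
  have : act z = LinearMap.id + ptL T w ∘ₗ S ∘ₗ proj T C.h₀ w := pt_ext T fun u v => by
    rw [h u v]
    show _ = pt T u v + pt T (S (proj T C.h₀ w (pt T u v))) w
    rw [proj_pt, map_smul, MaxCl.Tens.pt_smul_left]
  rw [this]; rfl

variable [Fintype F]

/-- elements fixing `B ⊗ w^⊥` pointwise are top elements -/
theorem TF.exists_isTop {w : Fin k → F} (hw0 : w ≠ 0) (hw : f₀ w w = 0) {z : GL ι F}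
    (hz : z ∈ uiso f) (hfix : ∀ u v, f₀ v w = 0 → act z (pt T u v) = pt T u v) :
    ∃ S, IsTop T f₀ w z S := by
  obtain ⟨w', hw', hw'w, hww'⟩ := exists_pair C.h₀ hw0 hw
  let E : (Fin N → F) →ₗ[F] (ι → F) := (act z - LinearMap.id) ∘ₗ ptL T w'
  refine ⟨proj T C.h₀ w' ∘ₗ E, fun u v => ?_⟩
  have hEu : E u = pt T (proj T C.h₀ w' (E u)) w := by
    refine C.ext_form fun a b => ?_
    rw [C.form_right, C.form_right, proj_pt]
    have perp : ∀ a b, f₀ b w = 0 → f (E u) (pt T a b) = 0 := fun a b hb => by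
      show f (act z (pt T u w') - pt T u w') (pt T a b) = 0
      rw [MaxCl.Unit.sub_left C.hU]
      conv_lhs => arg 1; rw [← hfix a b hb, MaxCl.Unit.mem_uiso.1 hz]
      exact sub_self _
    have e1 := perp a (b - f₀ b w • w') (by
      rw [MaxCl.Unit.sub_left C.h₀, MaxCl.Unit.smul_left C.h₀, hw'w, mul_one, sub_self])
    rw [MaxCl.Tens.pt_sub_right, MaxCl.Unit.sub_right C.hU, MaxCl.Tens.pt_smul_right,
      MaxCl.Unit.smul_right C.hU, C.form_right, C.form_right,
      MaxCl.Unit.herm' C.h₀, sub_eq_zero] at e1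
    rw [e1, MaxCl.Unit.smul_left C.hB]; ring
  have hv : pt T u v = pt T u (v - f₀ v w • w') + f₀ v w • pt T u w' := by
    rw [MaxCl.Tens.pt_sub_right, MaxCl.Tens.pt_smul_right]; abel
  rw [hv, map_add, map_smul, hfix u _ (by
    rw [MaxCl.Unit.sub_left C.h₀, MaxCl.Unit.smul_left C.h₀, hw'w, mul_one, sub_self])]
  show _ = _ + _ • pt T (proj T C.h₀ w' (E u)) w
  rw [← hEu]
  show _ = _ + f₀ v w • (act z (pt T u w') - pt T u w')
  rw [smul_sub]; abel

end TF

section PF

variable {σ : F ≃+* F} {f : (ι → F) → (ι → F) → F} {f₀ : (Fin k → F) → (Fin k → F) → F} {c : F}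

theorem gram_herm (h₀ : Cfsg.Geo.IsUnitaryForm σ f₀) (a b : Fin k) :
    σ (Cfsg.Geo.gramMatrix f₀ a b) = Cfsg.Geo.gramMatrix f₀ b a := (h₀.herm _ _).symm

theorem gramForm_add_left (x y v : Fin (k ^ t) → F) :
    gramForm σ f₀ t (x + y) v = gramForm σ f₀ t x v + gramForm σ f₀ t y v := by
  simp only [gramForm, Pi.add_apply, add_mul, Finset.sum_add_distrib]

theorem gramForm_smul_left (a : F) (x v : Fin (k ^ t) → F) :
    gramForm σ f₀ t (a • x) v = a * gramForm σ f₀ t x v := by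
  simp only [gramForm, Pi.smul_apply, smul_eq_mul, Finset.mul_sum, mul_assoc]

theorem gramForm_herm (h₀ : Cfsg.Geo.IsUnitaryForm σ f₀) (x y : Fin (k ^ t) → F) :
    gramForm σ f₀ t x y = σ (gramForm σ f₀ t y x) := by
  simp only [gramForm, map_sum, map_mul, map_prod, gram_herm h₀, h₀.involutive]
  rw [Finset.sum_comm]
  exact Finset.sum_congr rfl fun a _ => Finset.sum_congr rfl fun b _ => by ring

/-- the form of the splitting at one factor -/
theorem form_split {X : PS ι F k (t + 1)} (P : PF X σ f f₀ c) (i : Fin (t + 1)) (u : Fin (k ^ t) → F)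
    (v : Fin k → F) (u' : Fin (k ^ t) → F) (v' : Fin k → F) :
    f (pt (split X i) u v) (pt (split X i) u' v') = c * (gramForm σ f₀ t u u' * f₀ v v') := by
  have h1 : ∀ v v' ys (u : Fin (k ^ t) → F), f (pt (split X i) u v) (pt (split X i) (pv (sub F k t) ys) v') =
      c * (gramForm σ f₀ t u (pv (sub F k t) ys) * f₀ v v') := by
    intro v v' ys u
    let L : (Fin (k ^ t) → F) →ₗ[F] F :=
      { toFun := fun z => c * (gramForm σ f₀ t z (pv (sub F k t) ys) * f₀ v v')
        map_add' := fun a b => by rw [gramForm_add_left]; ring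
        map_smul' := fun a b => by rw [gramForm_smul_left, RingHom.id_apply, smul_eq_mul]; ring }
    have e : flinU P.hU (pt (split X i) (pv (sub F k t) ys) v') ∘ₗ ptL (split X i) v = L :=
      pv_ext (sub F k t) fun zs => by
        show f (pt _ _ v) (pt _ _ v') = c * _
        rw [pt_pv, pt_pv, P.form, Fin.prod_univ_succAbove _ i, gramForm_pv P.h₀]
        simp [mul_comm]
    exact LinearMap.congr_fun e u
  let L : (Fin (k ^ t) → F) →ₗ[F] F :=
    { toFun := fun z => σ c * (gramForm σ f₀ t z u * f₀ v' v)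
      map_add' := fun a b => by rw [gramForm_add_left]; ring
      map_smul' := fun a b => by rw [gramForm_smul_left, RingHom.id_apply, smul_eq_mul]; ring }
  have e : flinU P.hU (pt (split X i) u v) ∘ₗ ptL (split X i) v' = L :=
    pv_ext (sub F k t) fun ys => by
      show f (pt _ _ v') (pt _ _ v) = σ c * _
      rw [← MaxCl.Unit.herm' P.hU, h1, map_mul, map_mul, ← gramForm_herm P.h₀, MaxCl.Unit.herm' P.h₀]
  have e' : f (pt (split X i) u' v') (pt (split X i) u v) = σ c * (gramForm σ f₀ t u' u * f₀ v' v) :=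
    LinearMap.congr_fun e u'
  rw [← MaxCl.Unit.herm' P.hU, e', map_mul, map_mul, P.h₀.involutive, ← gramForm_herm P.h₀,
    MaxCl.Unit.herm' P.h₀]

theorem gramForm_unitary {X : PS ι F k (t + 1)} (P : PF X σ f f₀ c) :
    Cfsg.Geo.IsUnitaryForm σ (gramForm σ f₀ t) := by
  refine ⟨P.h₀.ne_refl, P.h₀.involutive, gramForm_add_left, gramForm_smul_left, gramForm_herm P.h₀, ?_⟩
  intro u hu
  obtain ⟨w, -⟩ : ∃ w : Fin k, True := ⟨⟨0, by have := P.three; omega⟩, trivial⟩
  have key : ∃ u', gramForm σ f₀ t u u' ≠ 0 := by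
    by_contra hno; push Not at hno
    have hx : pt (split X 0) u (Pi.single w 1) ≠ 0 := fun h => by
      rcases (MaxCl.Tens.pt_eq_zero _).1 h with h | h
      · exact hu h
      · simp at h
    obtain ⟨z, hz⟩ := (P.hU.nondegenerate _ hx).2
    apply hz
    have : flinU P.hU (pt (split X 0) u (Pi.single w 1)) = 0 := pt_ext (split X 0) fun a b => by
      show f (pt _ a b) (pt _ u _) = 0
      rw [form_split P, gramForm_herm P.h₀, hno, map_zero]; ring
    exact MaxCl.Unit.eq_zero_symm P.hU (LinearMap.congr_fun this z)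
  obtain ⟨u', hu'⟩ := key
  refine ⟨⟨u', ?_⟩, ⟨u', ?_⟩⟩
  · rw [gramForm_herm P.h₀]; exact (map_ne_zero σ).2 hu'
  · exact hu'

theorem PF.toTF {X : PS ι F k (t + 1)} (P : PF X σ f f₀ c) (i : Fin (t + 1)) :
    TF (split X i) σ f (gramForm σ f₀ t) f₀ c :=
  ⟨P.hU, gramForm_unitary P, P.h₀, P.c_ne, form_split P i, P.three,
    Nat.pow_pos (by have := P.three; omega), P.hex⟩

theorem PF.sub {X : PS ι F k (t + 1)} (P : PF X σ f f₀ c) :
    PF (sub F k t) σ (gramForm σ f₀ t) f₀ 1 :=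
  ⟨gramForm_unitary P, P.h₀, one_ne_zero, fun xs ys => by rw [one_mul, gramForm_pv P.h₀], P.three, P.hex⟩

theorem PF.slot_mem_su {X : PS ι F k (t + 1)} (P : PF X σ f f₀ c) (i : Fin (t + 1)) {b : GL (Fin k) F}
    (hb : b ∈ suGroup f₀) : slot X i b ∈ suGroup f := by
  rw [← gl_slot]; exact (P.toTF i).gl_mem_su hb

theorem PF.perm_mem_uiso {X : PS ι F k t} (P : PF X σ f f₀ c) (π : Equiv.Perm (Fin t)) :
    perm X π ∈ uiso f := by
  refine MaxCl.Unit.mem_uiso.2 fun x y => ?_
  have h1 : ∀ ys y, f (act (perm X π) (pv X ys)) (act (perm X π) y) = f (pv X ys) y := by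
    intro ys y
    rw [← MaxCl.Unit.herm' P.hU, ← MaxCl.Unit.herm' P.hU y]
    congr 1
    have e : flinU P.hU (act (perm X π) (pv X ys)) ∘ₗ act (perm X π) = flinU P.hU (pv X ys) :=
      pv_ext X fun zs => by
        show f (act _ (pv X zs)) (act _ (pv X ys)) = f (pv X zs) (pv X ys)
        rw [act_perm, act_perm, P.form, P.form]
        congr 1
        exact Equiv.prod_comp π.symm fun i => f₀ (zs i) (ys i)
    exact LinearMap.congr_fun e y
  have e : flinU P.hU (act (perm X π) y) ∘ₗ act (perm X π) = flinU P.hU y := pv_ext X fun ys => h1 ys y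
  exact LinearMap.congr_fun e x

theorem PF.pure_mem_uiso {X : PS ι F k t} (P : PF X σ f f₀ c) {a : Fin t → GL (Fin k) F}
    (ha : ∀ i, a i ∈ uiso f₀) : pure X a ∈ uiso f := by
  refine MaxCl.Unit.mem_uiso.2 fun x y => ?_
  have h1 : ∀ ys y, f (act (pure X a) (pv X ys)) (act (pure X a) y) = f (pv X ys) y := by
    intro ys y
    rw [← MaxCl.Unit.herm' P.hU, ← MaxCl.Unit.herm' P.hU y]
    congr 1
    have e : flinU P.hU (act (pure X a) (pv X ys)) ∘ₗ act (pure X a) = flinU P.hU (pv X ys) :=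
      pv_ext X fun zs => by
        show f (act _ (pv X zs)) (act _ (pv X ys)) = f (pv X zs) (pv X ys)
        rw [act_pure, act_pure, P.form, P.form]
        simp only [MaxCl.Unit.mem_uiso.1 (ha _)]
    exact LinearMap.congr_fun e y
  have e : flinU P.hU (act (pure X a) y) ∘ₗ act (pure X a) = flinU P.hU y := pv_ext X fun ys => h1 ys y
  exact LinearMap.congr_fun e x

end PF

end Cfsg.Agent.TPow
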