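/-
An isometry conjugating one group with scalar top elements into another and commuting with a root element `1 ⊗ t`
is a tensor product.
-/
import Mathlib
import Cfsg.Agent.Lib.TPow.Ctx

set_option autoImplicit false

namespace Cfsg.Agent.TPow

open scoped MatrixGroups Matrix
open Module (finrank)
open MaxCl (act gl_ext act_mul act_one act_inv_act act_act_inv act_apply act_injective exists_dual)
open MaxCl.Unit (uiso flinU utv utvGroup)
open MaxCl.Tens (TSys pt gl pt_ext gl_ext_pt act_gl_pt gl_mul gl_one gl_inv ptL ptR proj proj_pt root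
  act_root suGroup IsTop TopScalar pt_eq_zero pt_zero_left pt_zero_right pt_add_left pt_add_right pt_sub_left
  pt_sub_right pt_smul_left pt_smul_right pt_neg_left pt_neg_right cL cL_pt)

variable {ι : Type} [Fintype ι] [DecidableEq ι] {F : Type*} [Field F] [Fintype F] {N k : ℕ}
variable {T : TSys ι F N k} {σ : F ≃+* F} {f : (ι → F) → (ι → F) → F}
variable {fB : (Fin N → F) → (Fin N → F) → F} {f₀ : (Fin k → F) → (Fin k → F) → F} {c : F}

/-- the Heisenberg elements of the stabiliser of an isotropic vector -/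
theorem exists_heis (h₀ : Cfsg.Geo.IsUnitaryForm σ f₀) {w φ : Fin k → F} (hw : f₀ w w = 0)
    (hφw : f₀ φ w = 0) (s : F) :
    ∃ e : F, e + σ e = -(s * σ s * f₀ φ φ) ∧ ∃ q ∈ suGroup f₀,
      ∀ x, act q x = x + (s * f₀ x φ + e * f₀ x w) • w - (σ s * f₀ x w) • φ := by
  have hwφ := MaxCl.Unit.eq_zero_symm h₀ hφw
  have hN := MaxCl.Unit.herm' h₀ φ φ
  obtain ⟨e, he⟩ := MaxCl.Unit.exists_trace h₀.involutive h₀.ne_refl (-(s * σ s * f₀ φ φ))
    (by rw [map_neg, map_mul, map_mul, h₀.involutive, hN, mul_comm (σ s)])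
  refine ⟨e, he, ?_⟩
  let L : (Fin k → F) →ₗ[F] (Fin k → F) := LinearMap.id +
    (s • flinU h₀ φ + e • flinU h₀ w).smulRight w - (σ s • flinU h₀ w).smulRight φ
  have hL : ∀ x, L x = x + (s * f₀ x φ + e * f₀ x w) • w - (σ s * f₀ x w) • φ := fun x => by
    simp [L, MaxCl.Unit.flinU_apply]
  have hLiso : ∀ x y, f₀ (L x) (L y) = f₀ x y := by
    intro x y
    simp only [hL, MaxCl.Unit.sub_left h₀, MaxCl.Unit.sub_right h₀, MaxCl.Unit.add_left h₀,
      MaxCl.Unit.add_right h₀, MaxCl.Unit.smul_left h₀, MaxCl.Unit.smul_right h₀, hw, hφw, hwφ, map_add, map_mul,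
      MaxCl.Unit.herm' h₀, h₀.involutive]
    linear_combination (f₀ x w * f₀ w y) * he
  have hLinj : Function.Injective L := fun x y hxy => by
    apply MaxCl.Unit.flinU_injective h₀
    apply LinearMap.ext; intro z
    show f₀ z x = f₀ z y
    rw [← hLiso z x, ← hLiso z y, hxy]
  obtain ⟨q, hq⟩ := MaxCl.exists_gl_of_injective L hLinj
  refine ⟨q, ⟨MaxCl.Unit.mem_uiso.2 fun x y => by rw [hq, hq, hLiso], MonoidHom.mem_ker.2 (Units.ext ?_)⟩,
    fun x => by rw [hq, hL]⟩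
  rw [Matrix.GeneralLinearGroup.val_det_apply]
  refine MaxCl.Tens.det_one_of_unipotent fun x => ?_
  simp only [hq, hL, MaxCl.Unit.sub_left h₀, MaxCl.Unit.add_left h₀, MaxCl.Unit.smul_left h₀, hw, hφw, hwφ]
  module

omit [Fintype F] in
/-- isometries normalise the special unitary group -/
theorem su_conj {b δ : GL (Fin k) F} (hb : b ∈ uiso f₀) (hδ : δ ∈ suGroup f₀) : b * δ * b⁻¹ ∈ suGroup f₀ :=
  ⟨(uiso f₀).mul_mem ((uiso f₀).mul_mem hb hδ.1) ((uiso f₀).inv_mem hb),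
    (MonoidHom.normal_ker _).conj_mem δ hδ.2 b⟩

variable (C : TF T σ f fB f₀ c)
include C

omit [Fintype F] in
theorem act_gl_heis {q : GL (Fin k) F} {w φ : Fin k → F} {s e : F}
    (hq : ∀ x, act q x = x + (s * f₀ x φ + e * f₀ x w) • w - (σ s * f₀ x w) • φ) (x : ι → F) :
    act (gl T 1 q) x = x + s • pt T (proj T C.h₀ φ x) w + e • pt T (proj T C.h₀ w x) w
      - σ s • pt T (proj T C.h₀ w x) φ := by
  have : act (gl T 1 q) = LinearMap.id + s • (ptL T w ∘ₗ proj T C.h₀ φ) + e • (ptL T w ∘ₗ proj T C.h₀ w)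
      - σ s • (ptL T φ ∘ₗ proj T C.h₀ w) :=
    pt_ext T fun u v => by
      show _ = pt T u v + s • pt T (proj T C.h₀ φ (pt T u v)) w + e • pt T (proj T C.h₀ w (pt T u v)) w
        - σ s • pt T (proj T C.h₀ w (pt T u v)) φ
      rw [act_gl_pt, act_one, hq, proj_pt, proj_pt]
      simp only [pt_sub_right, pt_add_right, pt_smul_right, pt_smul_left]
      module
  rw [this]; rfl

variable {M M' : Subgroup (GL ι F)}

omit [Fintype F] in
/-- isometries fixing `B ⊗ w` commute with the contraction against `w` -/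
theorem proj_of_fix {w : Fin k → F} {ρ : GL ι F} (hρU : ρ ∈ uiso f) (hfix : ∀ u, act ρ (pt T u w) = pt T u w)
    (y : ι → F) : proj T C.h₀ w (act ρ y) = proj T C.h₀ w y := by
  by_contra hne
  obtain ⟨x, hx⟩ := (C.hB.nondegenerate _ (sub_ne_zero.2 hne)).2
  apply hx
  have e : f (act ρ y) (pt T x w) = f y (pt T x w) := by
    conv_lhs => rw [← hfix x, MaxCl.Unit.mem_uiso.1 hρU]
  rw [C.form_right, C.form_right] at e
  rw [MaxCl.Unit.sub_left C.hB, mul_left_cancel₀ C.c_ne e, sub_self]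

/-- isometries acting trivially on the layers with commutators in `M` -/
theorem radical (hM : Env T f f₀ M) {w w' : Fin k → F} (hw0 : w ≠ 0) (hw : f₀ w w = 0)
    (hw'w : f₀ w' w = 1) (hww' : f₀ w w' = 1) {ρ : GL ι F} (hρU : ρ ∈ uiso f)
    (hfix : ∀ u, act ρ (pt T u w) = pt T u w)
    (hlay : ∀ u v, f₀ v w = 0 → ∃ a, act ρ (pt T u v) = pt T u v + pt T a w)
    (hcom : ∀ φ, f₀ φ w = 0 → ∀ s e : F, ∀ q ∈ suGroup f₀,
      (∀ x, act q x = x + (s * f₀ x φ + e * f₀ x w) • w - (σ s * f₀ x w) • φ) →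
      ρ * gl T 1 q * ρ⁻¹ ∈ M) :
    ∃ b ∈ suGroup f₀, act b w = w ∧
      ∃ S : (Fin N → F) →ₗ[F] (Fin N → F), IsTop T f₀ w ((gl T 1 b)⁻¹ * ρ) S := by
  classical
  have hproj := proj_of_fix C hρU hfix
  let R : (ι → F) →ₗ[F] (ι → F) := act ρ - LinearMap.id
  have hRK : ∀ x, proj T C.h₀ w x = 0 → R x = pt T (proj T C.h₀ w' (R x)) w := by
    let E : (ι → F) →ₗ[F] (ι → F) := LinearMap.id - ptL T w' ∘ₗ proj T C.h₀ w
    have : R ∘ₗ E = ptL T w ∘ₗ proj T C.h₀ w' ∘ₗ R ∘ₗ E := pt_ext T fun u v => by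
      have hE : E (pt T u v) = pt T u (v - f₀ v w • w') := by
        show pt T u v - pt T (proj T C.h₀ w (pt T u v)) w' = _
        rw [proj_pt, pt_sub_right, pt_smul_left, pt_smul_right]
      obtain ⟨a, ha⟩ := hlay u (v - f₀ v w • w') (by
        rw [MaxCl.Unit.sub_left C.h₀, MaxCl.Unit.smul_left C.h₀, hw'w, mul_one, sub_self])
      show R (E (pt T u v)) = pt T (proj T C.h₀ w' (R (E (pt T u v)))) w
      rw [hE]
      show act ρ _ - _ = pt T (proj T C.h₀ w' (act ρ _ - _)) w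
      simp only [LinearMap.id_apply, ha, add_sub_cancel_left, proj_pt, hww', one_smul]
    intro x hx
    have hEx : E x = x := by
      show x - pt T (proj T C.h₀ w x) w' = x
      rw [hx, pt_zero_left, sub_zero]
    have e := LinearMap.congr_fun this x
    simp only [LinearMap.comp_apply, hEx] at e
    exact e
  let Ψ : (Fin k → F) → (Fin N → F) →ₗ[F] (Fin N → F) := fun φ => proj T C.h₀ w' ∘ₗ R ∘ₗ ptL T φ
  obtain ⟨a₀, ha₀⟩ := MaxCl.Unit.exists_moved C.hU.ne_refl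
  have hscal : ∀ φ, f₀ φ w = 0 → f₀ φ w' = 0 → ∃ l : F, ∀ u, Ψ φ u = l • u := by
    intro φ hφw hφw'
    have hwφ := MaxCl.Unit.eq_zero_symm C.h₀ hφw
    have hw'φ := MaxCl.Unit.eq_zero_symm C.h₀ hφw'
    have key : ∀ s : F, ∃ m : F, ∀ u,
        σ s • Ψ φ u + s • proj T C.h₀ φ (act ρ (pt T u w')) = m • u := by
      intro s
      obtain ⟨e₁, -, q₁, hq₁, hq₁a⟩ := exists_heis C.h₀ hw hφw s
      set q := gl T 1 q₁ with hq
      have hqM : q ∈ M := hM.right q₁ hq₁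
      have hact : ∀ x, act q x = x + s • pt T (proj T C.h₀ φ x) w + e₁ • pt T (proj T C.h₀ w x) w
          - σ s • pt T (proj T C.h₀ w x) φ := act_gl_heis C hq₁a
      have hqK : ∀ x, proj T C.h₀ w (act q x) = proj T C.h₀ w x := fun x => by
        rw [hact]
        simp [proj_pt, hw, hφw]
      have hcom' : ∀ x, proj T C.h₀ w x = 0 → act ρ (act q x) = act q (act ρ x) := by
        intro x hx
        have e1 : act ρ x = x + pt T (proj T C.h₀ w' (R x)) w := by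
          rw [← hRK x hx]
          show _ = x + (act ρ x - x)
          abel
        rw [hact, hx]
        simp only [pt_zero_left, smul_zero, sub_zero, add_zero]
        rw [map_add, map_smul, hfix, e1, map_add (act q), hact, hact, hx]
        simp [proj_pt, hwφ, hw, pt_zero_left]
        abel
      have hz : ρ * q * ρ⁻¹ * q⁻¹ ∈ M := M.mul_mem (hcom φ hφw s e₁ q₁ hq₁ hq₁a) (M.inv_mem hqM)
      have hzK : ∀ u v, f₀ v w = 0 → act (ρ * q * ρ⁻¹ * q⁻¹) (pt T u v) = pt T u v := by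
        intro u v hv
        have hx : proj T C.h₀ w (act ρ⁻¹ (act q⁻¹ (pt T u v))) = 0 := by
          rw [← hproj, act_act_inv, ← hqK, act_act_inv, proj_pt, hv, zero_smul]
        rw [act_mul, act_mul, act_mul, hcom' _ hx, act_act_inv, act_act_inv]
      obtain ⟨S, hS⟩ := C.exists_isTop hw0 hw (hM.le hz) hzK
      obtain ⟨m, hm⟩ := hM.top w hw0 hw _ hz S hS
      refine ⟨-m, fun u => ?_⟩
      have e := C.isTop_apply hS (act q (act ρ (pt T u w')))
      rw [hqK, hproj, proj_pt, hw'w, one_smul, hm] at e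
      simp only [act_mul, act_inv_act] at e
      rw [hact (pt T u w'), hact (act ρ (pt T u w')), hproj,
        proj_pt, proj_pt, hw'φ, hw'w, one_smul, zero_smul, pt_zero_left, smul_zero, add_zero, map_sub, map_add,
        map_smul, map_smul, hfix] at e
      have e' := congrArg (proj T C.h₀ w') e
      simp only [map_sub, map_add, map_smul, proj_pt, hww', hφw', one_smul, zero_smul, smul_zero] at e'
      have hΨ : Ψ φ u = proj T C.h₀ w' (act ρ (pt T u φ)) := by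
        show proj T C.h₀ w' (act ρ (pt T u φ) - pt T u φ) = _
        rw [map_sub, proj_pt, hφw', zero_smul, sub_zero]
      rw [hΨ]
      linear_combination (norm := module) -e'
    obtain ⟨k₁, h1⟩ := key 1
    obtain ⟨k₂, h2⟩ := key a₀
    refine ⟨(σ a₀ - a₀)⁻¹ * (k₂ - a₀ * k₁), fun u => ?_⟩
    rw [mul_smul, eq_inv_smul_iff₀ (sub_ne_zero.2 ha₀)]
    have e1 := h1 u
    have e2 := h2 u
    rw [map_one, one_smul, one_smul] at e1
    linear_combination (norm := module) e2 - a₀ • e1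
  have hRw : ∀ u, R (pt T u w) = 0 := fun u => by simp [R, hfix]
  have hall : ∀ v, f₀ v w = 0 → ∃ l : F, ∀ u, Ψ v u = l • u := by
    intro v hv
    obtain ⟨l, hl⟩ := hscal (v - f₀ v w' • w)
      (by rw [MaxCl.Unit.sub_left C.h₀, MaxCl.Unit.smul_left C.h₀, hv, hw, mul_zero, sub_zero])
      (by rw [MaxCl.Unit.sub_left C.h₀, MaxCl.Unit.smul_left C.h₀, hww', mul_one, sub_self])
    refine ⟨l, fun u => ?_⟩
    rw [← hl u]
    show proj T C.h₀ w' (R (pt T u v)) = proj T C.h₀ w' (R (pt T u (v - f₀ v w' • w)))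
    rw [pt_sub_right, pt_smul_right, map_sub, map_smul, hRw, smul_zero, sub_zero]
  obtain ⟨u₀, χ, hχ⟩ : ∃ u₀ : Fin N → F, ∃ χ : (Fin N → F) →ₗ[F] F, χ u₀ = 1 :=
    ⟨Pi.single ⟨0, C.pos⟩ 1, LinearMap.proj ⟨0, C.pos⟩, by simp⟩
  obtain ⟨φ₀, hφ₀⟩ := MaxCl.Unit.exists_repr C.h₀ (χ ∘ₗ proj T C.h₀ w' ∘ₗ R ∘ₗ ptR T u₀)
  have hφ₀' : ∀ v, χ (Ψ v u₀) = f₀ v φ₀ := hφ₀
  have hφ₀w : f₀ φ₀ w = 0 := MaxCl.Unit.eq_zero_symm C.h₀ (by
    rw [← hφ₀']
    show χ (proj T C.h₀ w' (R (pt T u₀ w))) = 0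
    rw [hRw, map_zero, map_zero])
  have hwφ₀ := MaxCl.Unit.eq_zero_symm C.h₀ hφ₀w
  obtain ⟨φ₁, hφ₁def⟩ : ∃ φ₁, φ₁ = φ₀ - f₀ φ₀ w' • w := ⟨_, rfl⟩
  have hφ₁w : f₀ φ₁ w = 0 := by
    rw [hφ₁def, MaxCl.Unit.sub_left C.h₀, MaxCl.Unit.smul_left C.h₀, hφ₀w, hw]; ring
  have hφ₁w' : f₀ φ₁ w' = 0 := by
    rw [hφ₁def, MaxCl.Unit.sub_left C.h₀, MaxCl.Unit.smul_left C.h₀, hww']; ring
  have hlayer : ∀ u v, f₀ v w = 0 → act ρ (pt T u v) = pt T u (v + f₀ v φ₁ • w) := by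
    intro u v hv
    obtain ⟨l, hl⟩ := hall v hv
    have hlv : l = f₀ v φ₁ := by
      have := hφ₀' v
      rw [hl, map_smul, hχ, smul_eq_mul, mul_one] at this
      rw [this, hφ₁def, MaxCl.Unit.sub_right C.h₀, MaxCl.Unit.smul_right C.h₀, hv, mul_zero, sub_zero]
    have e := hRK (pt T u v) (by rw [proj_pt, hv, zero_smul])
    rw [show proj T C.h₀ w' (R (pt T u v)) = l • u from hl u, pt_smul_left, ← pt_smul_right, hlv] at e
    rw [pt_add_right, ← e]
    show act ρ (pt T u v) = pt T u v + (act ρ (pt T u v) - pt T u v)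
    abel
  obtain ⟨e₀, -, b, hb, hba⟩ := exists_heis C.h₀ hw hφ₁w 1
  have hbw : act b w = w := by
    rw [hba, hw, MaxCl.Unit.eq_zero_symm C.h₀ hφ₁w]; simp
  refine ⟨b, hb, hbw, C.exists_isTop hw0 hw (mul_mem (inv_mem (C.gl_mem_su hb).1) hρU) fun u v hv => ?_⟩
  apply act_injective (gl T 1 b)
  rw [act_mul, act_act_inv, hlayer u v hv, act_gl_pt, act_one, hba, hv]
  simp

/-- elements of `M` acting trivially on the layers are tensor products -/
theorem radical_mem (hM : Env T f f₀ M) {w w' : Fin k → F} (hw0 : w ≠ 0) (hw : f₀ w w = 0)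
    (hw'w : f₀ w' w = 1) (hww' : f₀ w w' = 1) {ρ : GL ι F} (hρ : ρ ∈ M)
    (hfix : ∀ u, act ρ (pt T u w) = pt T u w)
    (hlay : ∀ u v, f₀ v w = 0 → ∃ a, act ρ (pt T u v) = pt T u v + pt T a w) :
    ∃ b ∈ suGroup f₀, act b w = w ∧ ρ = gl T 1 b := by
  obtain ⟨b, hb, hbw, S, hS⟩ := radical C hM hw0 hw hw'w hww' (hM.le hρ) hfix hlay fun φ _ s e q hq _ =>
    M.mul_mem (M.mul_mem hρ (hM.right q hq)) (M.inv_mem hρ)
  have hz := M.mul_mem (M.inv_mem (hM.right b hb)) hρ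
  obtain ⟨m, hm⟩ := hM.top w hw0 hw _ hz S hS
  have hρeq : ρ = gl T 1 (b * utv C.h₀ w m) := gl_ext_pt T fun u v => by
    have e : act ((gl T 1 b)⁻¹ * ρ) (pt T u v) = pt T u (v + (m * f₀ v w) • w) := by
      rw [hS u v, hm, pt_smul_left, pt_add_right, pt_smul_right, smul_smul, mul_comm]
    rw [act_gl_pt, act_one, act_mul b, MaxCl.Unit.act_utv C.h₀ hw]
    have := congrArg (act (gl T 1 b)) e
    rw [act_mul, act_act_inv, act_gl_pt, act_one] at this
    exact this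
  refine ⟨b * utv C.h₀ w m, mul_mem hb ⟨?_, MaxCl.Unit.det_ptv C.h₀ ?_⟩, ?_, hρeq⟩
  · refine MaxCl.Unit.mem_uiso.2 fun x y => ?_
    obtain ⟨u, u', hu⟩ := MaxCl.Tens.exists_ne_two C.hB C.pos
    have e := MaxCl.Unit.mem_uiso.1 (hM.le hρ) (pt T u x) (pt T u' y)
    rw [hρeq, act_gl_pt, act_gl_pt, act_one, act_one, C.form, C.form, act_mul b, act_mul b,
      MaxCl.Unit.mem_uiso.1 hb.1] at e
    exact mul_left_cancel₀ hu (mul_left_cancel₀ C.c_ne e)
  · rw [MaxCl.Unit.smul_right C.h₀, hw, mul_zero]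
  · rw [act_mul, MaxCl.Unit.act_utv C.h₀ hw, hw]; simp [hbw]

omit [Fintype F] in
/-- conjugating a top element by `a ⊗ b` -/
theorem isTop_conj {w : Fin k → F} {z : GL ι F} {S : (Fin N → F) →ₗ[F] (Fin N → F)} (h : IsTop T f₀ w z S)
    {a : GL (Fin N) F} {b : GL (Fin k) F} (hb : b ∈ uiso f₀) :
    IsTop T f₀ (act b w) (gl T a b * z * (gl T a b)⁻¹) (act a ∘ₗ S ∘ₗ act a⁻¹) := fun u v => by
  rw [act_mul, act_mul, gl_inv, act_gl_pt, h, map_add, map_smul, act_gl_pt, act_gl_pt, act_act_inv, act_act_inv]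
  congr 2
  conv_rhs => rw [← act_act_inv b v, MaxCl.Unit.mem_uiso.1 hb]

omit [Fintype F] in
/-- products of top elements -/
theorem isTop_mul {w : Fin k → F} (hw : f₀ w w = 0) {z z' : GL ι F} {S S' : (Fin N → F) →ₗ[F] (Fin N → F)}
    (h : IsTop T f₀ w z S) (h' : IsTop T f₀ w z' S') : IsTop T f₀ w (z * z') (S + S') := fun u v => by
  rw [act_mul, h', map_add, map_smul, h, h, hw, zero_smul, add_zero, LinearMap.add_apply, pt_add_left, smul_add]
  abel

omit [Fintype F] in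
theorem isTop_inv {w : Fin k → F} (hw : f₀ w w = 0) {z : GL ι F} {S : (Fin N → F) →ₗ[F] (Fin N → F)}
    (h : IsTop T f₀ w z S) : IsTop T f₀ w z⁻¹ (-S) := fun u v => by
  apply act_injective z
  rw [act_act_inv, map_add, map_smul, h, h, hw, zero_smul, add_zero, LinearMap.neg_apply, pt_neg_left, smul_neg]
  abel

/-- an isometry conjugating `M` into `M'` and commuting with a root element, up to a top element -/
theorem centralizer_top (hM : Env T f f₀ M) (hM' : Env T f f₀ M') {g : GL ι F} (hgU : g ∈ uiso f)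
    (hconj : ∀ x ∈ M, g * x * g⁻¹ ∈ M') {w : Fin k → F} (hw0 : w ≠ 0) (hw : f₀ w w = 0) {d : F} (hd0 : d ≠ 0)
    (hcomm : g * root T C.h₀ w d = root T C.h₀ w d * g) :
    ∃ α ∈ uiso fB, ∃ b ∈ uiso f₀, act b w = w ∧
      ∃ S : (Fin N → F) →ₗ[F] (Fin N → F), IsTop T f₀ w ((gl T α b)⁻¹ * g) S := by
  classical
  obtain ⟨w', hw', hw'w, hww'⟩ := exists_pair C.h₀ hw0 hw
  have hgr : ∀ x, d • act g (pt T (proj T C.h₀ w x) w) = d • pt T (proj T C.h₀ w (act g x)) w := by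
    intro x
    have e : act (g * root T C.h₀ w d) x = act (root T C.h₀ w d * g) x := by rw [hcomm]
    rw [act_mul, act_mul, act_root C.h₀ hw, act_root C.h₀ hw, map_add, map_smul] at e
    exact add_left_cancel e
  have hgI : ∀ x, act g (pt T (proj T C.h₀ w x) w) = pt T (proj T C.h₀ w (act g x)) w :=
    fun x => smul_right_injective _ hd0 (hgr x)
  let A : (Fin N → F) →ₗ[F] (Fin N → F) := proj T C.h₀ w ∘ₗ act g ∘ₗ ptL T w'
  have hA : ∀ u, act g (pt T u w) = pt T (A u) w := fun u => by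
    have := hgI (pt T u w')
    rwa [proj_pt, hw'w, one_smul] at this
  have hπ : ∀ x, proj T C.h₀ w (act g x) = A (proj T C.h₀ w x) := by
    intro x
    have h1 := (hgI x).symm.trans (hA _)
    by_contra hne
    have h2 : pt T (proj T C.h₀ w (act g x) - A (proj T C.h₀ w x)) w = 0 := by
      rw [pt_sub_left, h1, sub_self]
    exact hne (sub_eq_zero.1 (((pt_eq_zero T).1 h2).resolve_right hw0))
  have hAinj : Function.Injective A := fun u u' h => by
    have h1 : pt T u w = pt T u' w := act_injective g (by rw [hA, hA, h])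
    have h2 : pt T (u - u') w = 0 := by rw [pt_sub_left, h1, sub_self]
    exact sub_eq_zero.1 (((pt_eq_zero T).1 h2).resolve_right hw0)
  obtain ⟨α, hα⟩ := MaxCl.exists_gl_of_injective A hAinj
  have hαU : α ∈ uiso fB := MaxCl.Unit.mem_uiso.2 fun x y => by
    rw [hα, hα]
    have e := MaxCl.Unit.mem_uiso.1 hgU (pt T x w') (pt T y w)
    rw [hA, C.form_right, C.form_right, hπ, proj_pt, hw'w, one_smul] at e
    exact mul_left_cancel₀ C.c_ne e
  have hgK : ∀ x, proj T C.h₀ w x = 0 → proj T C.h₀ w (act g⁻¹ x) = 0 := by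
    intro x hx
    apply hAinj
    rw [← hπ, act_act_inv, hx, map_zero]
  -- conjugates of the Heisenberg elements
  have hheis : ∀ φ, f₀ φ w = 0 → ∀ s e : F, ∀ q ∈ suGroup f₀,
      (∀ x, act q x = x + (s * f₀ x φ + e * f₀ x w) • w - (σ s * f₀ x w) • φ) →
      (∀ x, proj T C.h₀ w x = 0 → ∃ a, act (g * gl T 1 q * g⁻¹) x = x + pt T a w) ∧
      ∃ b ∈ suGroup f₀, act b w = w ∧ g * gl T 1 q * g⁻¹ = gl T 1 b := by
    intro φ hφw s e q hq hqa
    have hwφ := MaxCl.Unit.eq_zero_symm C.h₀ hφw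
    have hact := act_gl_heis C hqa
    have hq'K : ∀ x, proj T C.h₀ w x = 0 → ∃ a, act (g * gl T 1 q * g⁻¹) x = x + pt T a w := by
      intro x hx
      refine ⟨A (s • proj T C.h₀ φ (act g⁻¹ x)), ?_⟩
      rw [act_mul, act_mul, hact, hgK x hx]
      simp only [pt_zero_left, smul_zero, sub_zero, add_zero]
      rw [map_add, act_act_inv, ← pt_smul_left, hA]
    refine ⟨hq'K, radical_mem C hM' hw0 hw hw'w hww' (hconj _ (hM.right q hq)) (fun u => ?_)
      fun u v hv => hq'K _ (by rw [proj_pt, hv, zero_smul])⟩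
    have : act g⁻¹ (pt T u w) = pt T (act α⁻¹ u) w := act_injective g (by
      rw [act_act_inv, hA, ← hα, act_act_inv])
    rw [act_mul, act_mul, this, hact]
    simp only [proj_pt, hwφ, hw, zero_smul, pt_zero_left, smul_zero, add_zero, sub_zero]
    rw [hA, ← hα, act_act_inv]
  -- the middle layer
  have hmid : ∀ v, f₀ v w = 0 → ∃ φ', f₀ φ' w = 0 ∧ ∀ u, ∃ a, act g (pt T u v) = pt T (A u) φ' + pt T a w := by
    intro v hv
    obtain ⟨φ, hφdef⟩ : ∃ φ, φ = v - f₀ v w' • w := ⟨_, rfl⟩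
    have hφw : f₀ φ w = 0 := by
      rw [hφdef, MaxCl.Unit.sub_left C.h₀, MaxCl.Unit.smul_left C.h₀, hv, hw, mul_zero, sub_zero]
    have hφw' : f₀ φ w' = 0 := by
      rw [hφdef, MaxCl.Unit.sub_left C.h₀, MaxCl.Unit.smul_left C.h₀, hww', mul_one, sub_self]
    obtain ⟨e₁, -, q, hq, hqa⟩ := exists_heis C.h₀ hw hφw 1
    obtain ⟨hq'K, b, hb, hbw, hbe⟩ := hheis φ hφw 1 e₁ q hq hqa
    have hd' : f₀ (act b w' - w') w = 0 := by
      conv_lhs => arg 2; rw [← hbw]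
      rw [MaxCl.Unit.sub_left C.h₀, MaxCl.Unit.mem_uiso.1 hb.1, hbw, hw'w, sub_self]
    refine ⟨-(act b w' - w'), by rw [← neg_one_smul F, MaxCl.Unit.smul_left C.h₀, hd', mul_zero], fun u => ?_⟩
    have e : act g (act (gl T 1 q) (pt T u w')) = act (g * gl T 1 q * g⁻¹) (act g (pt T u w')) := by
      rw [act_mul, act_mul, act_inv_act]
    have hk : proj T C.h₀ w (act g (pt T u w') - pt T (A u) w') = 0 := by
      rw [map_sub, hπ, proj_pt, proj_pt, hw'w, one_smul, one_smul, sub_self]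
    obtain ⟨a, ha⟩ := hq'K _ hk
    rw [map_sub, hbe, act_gl_pt, act_one, sub_eq_iff_eq_add, ← hbe] at ha
    rw [act_gl_heis C hqa, proj_pt, proj_pt, hw'w, MaxCl.Unit.eq_zero_symm C.h₀ hφw', map_one, one_smul,
      one_smul, zero_smul, pt_zero_left, add_zero, one_smul, map_sub, map_add, map_smul, hA, ha] at e
    refine ⟨e₁ • A u - a + f₀ v w' • A u, ?_⟩
    have hv' : pt T u v = pt T u φ + f₀ v w' • pt T u w := by
      rw [hφdef, pt_sub_right, pt_smul_right]; abel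
    rw [hv', map_add, map_smul, hA, pt_neg_right, pt_sub_right, pt_add_left, pt_sub_left, pt_smul_left,
      pt_smul_left]
    linear_combination (norm := module) -e
  obtain ⟨u₀, χ, hχ⟩ : ∃ u₀ : Fin N → F, ∃ χ : (Fin N → F) →ₗ[F] F, χ (A u₀) = 1 :=
    ⟨act α⁻¹ (Pi.single ⟨0, C.pos⟩ 1), LinearMap.proj ⟨0, C.pos⟩, by rw [← hα, act_act_inv]; simp⟩
  let P₀ : (Fin k → F) →ₗ[F] (Fin k → F) :=
    LinearMap.id - (flinU C.h₀ w').smulRight w - (flinU C.h₀ w).smulRight w'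
  have hP₀ : ∀ v, P₀ v = v - f₀ v w' • w - f₀ v w • w' := fun v => by simp [P₀, MaxCl.Unit.flinU_apply]
  let γ : (Fin k → F) →ₗ[F] (Fin k → F) := P₀ ∘ₗ cL T χ ∘ₗ act g ∘ₗ ptR T u₀
  have hγ : ∀ v, f₀ v w = 0 → ∀ u, ∃ a, act g (pt T u v) = pt T (A u) (γ v) + pt T a w := by
    intro v hv u
    obtain ⟨φ', hφ'w, hφ'⟩ := hmid v hv
    obtain ⟨a₁, ha₁⟩ := hφ' u₀
    have e : γ v = φ' - f₀ φ' w' • w := by
      show P₀ (cL T χ (act g (pt T u₀ v))) = _
      rw [ha₁, map_add, cL_pt, cL_pt, hχ, one_smul, map_add, map_smul, hP₀ φ', hP₀ w, hφ'w, hww', hw]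
      simp
    obtain ⟨a, ha⟩ := hφ' u
    refine ⟨a + f₀ φ' w' • A u, ?_⟩
    rw [ha, e, pt_sub_right, pt_smul_right, pt_add_left, pt_smul_left]; abel
  have hP₀perp : ∀ x, f₀ (P₀ x) w = 0 ∧ f₀ (P₀ x) w' = 0 := by
    intro x
    rw [hP₀]
    simp only [MaxCl.Unit.sub_left C.h₀, MaxCl.Unit.smul_left C.h₀, hw, hw', hw'w, hww']
    constructor <;> ring
  have hγperp : ∀ v, f₀ (γ v) w = 0 ∧ f₀ (γ v) w' = 0 := fun v => hP₀perp _
  have hγiso : ∀ x y, f₀ x w = 0 → f₀ x w' = 0 → f₀ y w = 0 → f₀ y w' = 0 → f₀ (γ x) (γ y) = f₀ x y := by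
    intro x y hxw _ hyw _
    obtain ⟨u, u', hu⟩ := MaxCl.Tens.exists_ne_two C.hB C.pos
    obtain ⟨a, ha⟩ := hγ x hxw u
    obtain ⟨a', ha'⟩ := hγ y hyw u'
    have e := MaxCl.Unit.mem_uiso.1 hgU (pt T u x) (pt T u' y)
    rw [ha, ha'] at e
    simp only [MaxCl.Unit.add_left C.hU, MaxCl.Unit.add_right C.hU, C.form, (hγperp x).1, hw,
      MaxCl.Unit.eq_zero_symm C.h₀ (hγperp y).1, mul_zero, add_zero, ← hα, MaxCl.Unit.mem_uiso.1 hαU] at e
    exact mul_left_cancel₀ hu (mul_left_cancel₀ C.c_ne e)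
  let L : (Fin k → F) →ₗ[F] (Fin k → F) :=
    γ ∘ₗ P₀ + (flinU C.h₀ w').smulRight w + (flinU C.h₀ w).smulRight w'
  have hL : ∀ v, L v = γ (P₀ v) + f₀ v w' • w + f₀ v w • w' := fun v => by
    simp [L, MaxCl.Unit.flinU_apply]
  have hLiso : ∀ x y, f₀ (L x) (L y) = f₀ x y := by
    intro x y
    have e : f₀ (γ (P₀ x)) (γ (P₀ y)) =
        f₀ x y - f₀ x w' * f₀ w y - f₀ x w * f₀ w' y := by
      rw [hγiso _ _ (hP₀perp x).1 (hP₀perp x).2 (hP₀perp y).1 (hP₀perp y).2, hP₀, hP₀]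
      simp only [MaxCl.Unit.sub_left C.h₀, MaxCl.Unit.sub_right C.h₀, MaxCl.Unit.smul_left C.h₀,
        MaxCl.Unit.smul_right C.h₀, MaxCl.Unit.herm' C.h₀, hw, hw', hw'w, hww']
      ring
    simp only [hL, MaxCl.Unit.add_left C.h₀, MaxCl.Unit.add_right C.h₀, MaxCl.Unit.smul_left C.h₀,
      MaxCl.Unit.smul_right C.h₀, MaxCl.Unit.herm' C.h₀, hw, hw', hw'w, hww', (hγperp _).1, (hγperp _).2,
      MaxCl.Unit.eq_zero_symm C.h₀ (hγperp _).1, MaxCl.Unit.eq_zero_symm C.h₀ (hγperp _).2, e]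
    ring
  have hLinj : Function.Injective L := fun x y hxy => by
    apply MaxCl.Unit.flinU_injective C.h₀
    apply LinearMap.ext; intro z
    show f₀ z x = f₀ z y
    rw [← hLiso z x, ← hLiso z y, hxy]
  obtain ⟨b, hb⟩ := MaxCl.exists_gl_of_injective L hLinj
  have hbU : b ∈ uiso f₀ := MaxCl.Unit.mem_uiso.2 fun x y => by rw [hb, hb, hLiso]
  set h := gl T α b with hh
  have hhU : h ∈ uiso f := C.gl_mem_uiso hαU hbU
  set ρ := h⁻¹ * g with hρ
  have hbw : act b w = w := by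
    rw [hb, hL, hP₀, hw, hww']
    simp
  have hLw : L w = w := by rw [← hb, hbw]
  have hfix : ∀ u, act ρ (pt T u w) = pt T u w := by
    intro u
    apply act_injective h
    rw [hρ, act_mul, act_act_inv, hA, hh, act_gl_pt, hα, hbw]
  have hlay : ∀ u v, f₀ v w = 0 → ∃ a, act ρ (pt T u v) = pt T u v + pt T a w := by
    intro u v hv
    obtain ⟨a, ha⟩ := hγ (P₀ v) (hP₀perp v).1 u
    refine ⟨act α⁻¹ a, act_injective h ?_⟩
    rw [hρ, act_mul, act_act_inv, map_add, hh, act_gl_pt, act_gl_pt, hα, act_act_inv, hb, hb, hLw,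
      hL, hv, zero_smul, add_zero]
    have hv' : pt T u v = pt T u (P₀ v) + f₀ v w' • pt T u w := by
      rw [hP₀, hv, zero_smul, sub_zero, pt_sub_right, pt_smul_right]; abel
    rw [hv', map_add, map_smul, ha, hA, pt_add_right, pt_smul_right]; abel
  obtain ⟨b', hb', hb'w, S, hS⟩ := radical C hM hw0 hw hw'w hww' (mul_mem (inv_mem hhU) hgU) hfix hlay
    fun φ hφw s e q hq hqa => by
      obtain ⟨-, b₁, hb₁, -, he⟩ := hheis φ hφw s e q hq hqa
      have e1 : ρ * gl T 1 q * ρ⁻¹ = gl T 1 (b⁻¹ * b₁ * b) := by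
        rw [show ρ * gl T 1 q * ρ⁻¹ = h⁻¹ * (g * gl T 1 q * g⁻¹) * h by rw [hρ]; group, he, hh, gl_inv, gl_mul,
          gl_mul]
        simp
      rw [e1]
      refine hM.right _ ?_
      have := su_conj ((uiso f₀).inv_mem hbU) hb₁
      rwa [inv_inv] at this
  refine ⟨α, hαU, b * b', mul_mem hbU hb'.1, by rw [act_mul, hb'w, hbw], S, ?_⟩
  have : (gl T α (b * b'))⁻¹ * g = (gl T 1 b')⁻¹ * ρ := by
    rw [show gl T α (b * b') = h * gl T 1 b' by rw [hh, gl_mul, mul_one], hρ]; group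
  rw [this]; exact hS

/-- an isometry conjugating `M` into `M'` and commuting with a root element is a tensor product -/
theorem centralizer (hM : Env T f f₀ M) (hM' : Env T f f₀ M') {g : GL ι F} (hgU : g ∈ uiso f)
    (hconj : ∀ x ∈ M, g * x * g⁻¹ ∈ M') {w : Fin k → F} (hw0 : w ≠ 0) (hw : f₀ w w = 0) {d : F} (hd0 : d ≠ 0)
    (hcomm : g * root T C.h₀ w d = root T C.h₀ w d * g) :
    ∃ α ∈ uiso fB, ∃ b ∈ uiso f₀, act b w = w ∧ g = gl T α b := by
  classical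
  obtain ⟨α, hα, b, hb, hbw, S, hS⟩ := centralizer_top C hM hM' hgU hconj hw0 hw hd0 hcomm
  set z := (gl T α b)⁻¹ * g with hz
  set G := gl T α b with hG
  have hgz : g = G * z := by rw [hz]; group
  have hzU : z ∈ uiso f := mul_mem (inv_mem (C.gl_mem_uiso hα hb)) hgU
  suffices hsc : ∃ m : F, ∀ u, S u = m • u by
    obtain ⟨m, hm⟩ := hsc
    have hze : z = gl T 1 (utv C.h₀ w m) := gl_ext_pt T fun u v => by
      rw [hS u v, hm, act_gl_pt, act_one, MaxCl.Unit.act_utv C.h₀ hw, pt_add_right, pt_smul_left, pt_smul_right,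
        smul_smul, mul_comm]
    have hu : utv C.h₀ w m ∈ uiso f₀ := by
      refine MaxCl.Unit.mem_uiso.2 fun x y => ?_
      obtain ⟨u, u', hu⟩ := MaxCl.Tens.exists_ne_two C.hB C.pos
      have e := MaxCl.Unit.mem_uiso.1 hzU (pt T u x) (pt T u' y)
      rw [hze, act_gl_pt, act_gl_pt, act_one, act_one, C.form, C.form] at e
      exact mul_left_cancel₀ hu (mul_left_cancel₀ C.c_ne e)
    refine ⟨α, hα, b * utv C.h₀ w m, mul_mem hb hu, ?_, by rw [hgz, hze, hG, gl_mul, mul_one]⟩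
    rw [act_mul, MaxCl.Unit.act_utv C.h₀ hw, hw]; simp [hbw]
  -- the commutators with a factor element
  have hM'conj : ∀ δ ∈ suGroup f₀,
      G * (z * gl T 1 δ * z⁻¹ * (gl T 1 δ)⁻¹) * G⁻¹ ∈ M' := by
    intro δ hδ
    have h1 := hconj _ (hM.right δ hδ)
    have h2 : G * gl T 1 δ * G⁻¹ ∈ M' := by
      rw [hG, gl_inv, gl_mul, gl_mul, mul_one, mul_inv_cancel]
      exact hM'.right _ (su_conj hb hδ)
    have := M'.mul_mem h1 (M'.inv_mem h2)
    rw [show g * gl T 1 δ * g⁻¹ * (G * gl T 1 δ * G⁻¹)⁻¹ = G * (z * gl T 1 δ * z⁻¹ * (gl T 1 δ)⁻¹) * G⁻¹ by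
      rw [hgz]; group] at this
    exact this
  -- scalars from conjugates
  have hback : ∀ m : F, (∀ u, act α (S (act α⁻¹ u)) = m • u) → ∀ u, S u = m • u := fun m h u => by
    apply act_injective α
    have := h (act α u)
    rw [act_inv_act] at this
    rw [this, map_smul]
  rcases exists_moved_norm_or C.h₀ with ⟨l, hl, hl1⟩ | hF
  · obtain ⟨δ, hδ, hδw⟩ := exists_move_smul C.h₀ hw0 hw C.three hl
    have hδs := TF.utvGroup_le C hδ
    have h2 : IsTop T f₀ w (gl T 1 δ * z * (gl T 1 δ)⁻¹) ((l * σ l) • S) := fun u v => by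
      rw [isTop_conj C hS hδs.1 u v, hδw, MaxCl.Unit.smul_right C.h₀, LinearMap.smul_apply]
      simp only [LinearMap.comp_apply, inv_one, act_one]
      rw [pt_smul_left, pt_smul_right, smul_smul, smul_smul]
      congr 2; ring
    have h3 := isTop_mul C hw hS (isTop_inv C hw h2)
    rw [show z * (gl T 1 δ * z * (gl T 1 δ)⁻¹)⁻¹ = z * gl T 1 δ * z⁻¹ * (gl T 1 δ)⁻¹ by group] at h3
    have h4 := isTop_conj C h3 (a := α) hb
    rw [hbw, ← hG] at h4
    obtain ⟨m, hm⟩ := hM'.top w hw0 hw _ (hM'conj δ hδs) _ h4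
    refine ⟨m / (1 - l * σ l), hback _ fun u => ?_⟩
    have e := hm u
    simp only [LinearMap.comp_apply, LinearMap.add_apply, LinearMap.neg_apply, LinearMap.smul_apply, map_add,
      map_neg, map_smul] at e
    rw [div_eq_inv_mul, mul_smul, ← e, eq_inv_smul_iff₀ (sub_ne_zero.2 (Ne.symm hl1))]
    module
  · have hk : 4 ≤ k := by
      by_contra hk
      obtain ⟨x, hx, hx0, hx1⟩ := C.hex (by have := C.three; omega)
      rcases hF x hx with h | h <;> contradiction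
    obtain ⟨φ, hφ, hφw, hφne⟩ := exists_orth_iso C.h₀ hw0 hw hk
    have hφ0 : φ ≠ 0 := fun e => hφne (e ▸ Submodule.zero_mem _)
    obtain ⟨δ, hδ, m, hm, hδw⟩ := MaxCl.Unit.exists_move_line C.h₀ hw0 hφ0 hw hφ
    have hδs := TF.utvGroup_le C hδ
    obtain ⟨ψ, hψ⟩ : ∃ ψ, ψ = act b (m • φ) := ⟨_, rfl⟩
    have hψψ : f₀ ψ ψ = 0 := by
      rw [hψ, MaxCl.Unit.mem_uiso.1 hb, MaxCl.Unit.smul_left C.h₀, MaxCl.Unit.smul_right C.h₀, hφ]; ring
    have hψw : f₀ ψ w = 0 := by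
      rw [← hbw, hψ, MaxCl.Unit.mem_uiso.1 hb, MaxCl.Unit.smul_left C.h₀, hφw, mul_zero]
    have hwψ := MaxCl.Unit.eq_zero_symm C.h₀ hψw
    obtain ⟨Z, hZdef⟩ : ∃ Z, Z = G * (z * gl T 1 δ * z⁻¹ * (gl T 1 δ)⁻¹) * G⁻¹ := ⟨_, rfl⟩
    have hZ : Z ∈ M' := hZdef ▸ hM'conj δ hδs
    obtain ⟨S', hS'⟩ : ∃ S', S' = act α ∘ₗ S ∘ₗ act α⁻¹ := ⟨_, rfl⟩
    have t1 : IsTop T f₀ w (G * z * G⁻¹) S' := by
      have h := isTop_conj C hS (a := α) hb
      rwa [hbw, ← hG, ← hS'] at h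
    have t2 : IsTop T f₀ ψ (G * (gl T 1 δ * z⁻¹ * (gl T 1 δ)⁻¹) * G⁻¹) (-S') := by
      have h := isTop_conj C (isTop_conj C (isTop_inv C hw hS) (a := 1) hδs.1) (a := α) hb
      rw [hδw, ← hψ, ← hG] at h
      intro u v
      rw [h u v, hS']
      simp [act_one]
    have hZe : Z = G * z * G⁻¹ * (G * (gl T 1 δ * z⁻¹ * (gl T 1 δ)⁻¹) * G⁻¹) := by rw [hZdef]; group
    have hZact : ∀ u v, act Z (pt T u v) = pt T u v - f₀ v ψ • pt T (S' u) ψ + f₀ v w • pt T (S' u) w := by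
      intro u v
      rw [hZe, act_mul, t2, map_add, map_smul, t1, t1, hψw, zero_smul, add_zero, LinearMap.neg_apply,
        pt_neg_left]
      module
    have hZr : ∀ d : F, Z * root T C.h₀ w d = root T C.h₀ w d * Z := fun d => gl_ext_pt T fun u v => by
      rw [act_mul, act_mul, root, act_gl_pt, act_one, MaxCl.Unit.act_utv C.h₀ hw, hZact, hZact, map_add,
        map_sub, map_smul, map_smul, act_gl_pt, act_gl_pt, act_gl_pt, act_one, act_one,
        MaxCl.Unit.act_utv C.h₀ hw, MaxCl.Unit.act_utv C.h₀ hw, MaxCl.Unit.act_utv C.h₀ hw,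
        MaxCl.Unit.add_left C.h₀, MaxCl.Unit.add_left C.h₀, MaxCl.Unit.smul_left C.h₀,
        MaxCl.Unit.smul_left C.h₀, hψw, hwψ, hw]
      simp
    obtain ⟨α', -, b', -, -, S'', hS''⟩ := centralizer_top C hM' hM' (hM'.le hZ)
      (fun x hx => M'.mul_mem (M'.mul_mem hZ hx) (M'.inv_mem hZ)) hw0 hw hd0 (hZr d)
    -- a vector seeing `ψ` but not `w`
    obtain ⟨v, hvψ, hvw⟩ : ∃ v, f₀ v ψ = 1 ∧ f₀ v w = 0 := by
      have hwψ' : ψ ∉ F ∙ w := fun h => hφne (by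
        obtain ⟨r, hr⟩ := Submodule.mem_span_singleton.1 h
        refine Submodule.mem_span_singleton.2 ⟨m⁻¹ * r, act_injective b ?_⟩
        rw [mul_smul, map_smul, map_smul, hbw, hr, hψ, map_smul, inv_smul_smul₀ hm])
      obtain ⟨χ, h0, h1⟩ := exists_dual _ hwψ'
      obtain ⟨v, hv⟩ := MaxCl.Unit.exists_repr C.h₀ χ
      refine ⟨v, ?_, ?_⟩
      · rw [← MaxCl.Unit.herm' C.h₀, ← hv, h1, map_one]
      · rw [← MaxCl.Unit.herm' C.h₀, ← hv, h0 w (Submodule.mem_span_singleton_self w), map_zero]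
    obtain ⟨m', hm'⟩ := MaxCl.Tens.exists_scalar_of_eigen S' fun u => by
      by_contra hu
      have hu0 : u ≠ 0 := fun e => hu (by rw [e, map_zero]; exact Submodule.zero_mem _)
      have e := congrArg (act (gl T α' b')) (hS'' u v)
      rw [act_mul, act_act_inv, hZact, hvw, hvψ, zero_smul, add_zero, zero_smul, add_zero, one_smul,
        act_gl_pt, sub_eq_add_neg, ← pt_neg_right] at e
      have hv0 : v ≠ 0 := fun e => by rw [e, MaxCl.Unit.zero_left C.h₀] at hvψ; exact zero_ne_one hvψ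
      have h1 := MaxCl.Tens.share T e hv0 hu0 hu
      obtain ⟨r, hr⟩ := Submodule.mem_span_singleton.1 h1
      have h2 : f₀ (-ψ) ψ = 0 := by rw [← neg_one_smul F, MaxCl.Unit.smul_left C.h₀, hψψ, mul_zero]
      rw [← hr, MaxCl.Unit.smul_left C.h₀, hvψ, mul_one] at h2
      rw [h2, zero_smul, eq_comm, neg_eq_zero] at hr
      rw [hr, MaxCl.Unit.zero_right C.h₀] at hvψ
      exact zero_ne_one hvψ
    exact ⟨m', hback m' fun u => by rw [← hm' u, hS']; rfl⟩

end Cfsg.Agent.TPow
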