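/-
Elements of the wreath subgroup which are quadratic with small residual space: root elements of one factor, or,
in characteristic two with factors of dimension three, elements moving two factors.
-/
import Mathlib
import Cfsg.Agent.Lib.TPow.Ctx

set_option autoImplicit false

namespace Cfsg.Agent.TPow

open scoped MatrixGroups Matrix
open Module (finrank)
open MaxCl (act gl_ext act_mul act_one act_inv_act act_act_inv act_apply act_injective exists_dual)
open MaxCl.Unit (uiso flinU utv)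
open MaxCl.Tens (TSys pt gl act_gl_pt ptL ptR cR cR_pt root pt_eq_zero mem_span_of_pt_eq mem_span_of_pt_eq'
  pt_add_left pt_add_right pt_sub_right pt_smul_left pt_smul_right pt_smul_comm pt_zero_right)

variable {ι : Type} [Fintype ι] [DecidableEq ι] {F : Type*} [Field F] {k t : ℕ}

/-- a vector off two given lines -/
theorem exists_off_lines {m : ℕ} (hm : 2 ≤ m) (u v : Fin m → F) : ∃ x, x ∉ F ∙ u ∧ x ∉ F ∙ v := by
  have hne : ∀ u : Fin m → F, ∃ x, x ∉ F ∙ u := fun u => by
    by_contra h; push Not at h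
    have h1 : finrank F (⊤ : Submodule F (Fin m → F)) ≤ finrank F (F ∙ u) :=
      Submodule.finrank_mono fun x _ => h x
    have h2 : finrank F (F ∙ u) ≤ 1 := (finrank_span_le_card _).trans (by simp)
    rw [finrank_top, Module.finrank_fin_fun] at h1
    omega
  obtain ⟨p, hp⟩ := hne u
  obtain ⟨r, hr⟩ := hne v
  by_cases hpv : p ∈ F ∙ v
  swap; · exact ⟨p, hp, hpv⟩
  by_cases hru : r ∈ F ∙ u
  swap; · exact ⟨r, hru, hr⟩
  exact ⟨p + r, fun h => hp (by simpa using Submodule.sub_mem _ h hru),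
    fun h => hr (by simpa using Submodule.sub_mem _ h hpv)⟩

theorem pure_perm (X : PS ι F k t) (a : Fin t → GL (Fin k) F) (π : Equiv.Perm (Fin t)) :
    pure X a * perm X π = perm X π * pure X fun i => a (π i) := by
  refine gl_ext_pv X fun xs => ?_
  rw [act_mul, act_perm, act_pure, act_normal]
  simp

theorem normal_mul (X : PS ι F k t) (π π' : Equiv.Perm (Fin t)) (a a' : Fin t → GL (Fin k) F) :
    perm X π * pure X a * (perm X π' * pure X a') =
      perm X (π * π') * pure X ((fun i => a (π' i)) * a') := by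
  rw [pure_mul, perm_mul, mul_assoc (perm X π), ← mul_assoc (pure X a), pure_perm]
  group

variable (X : PS ι F k (t + 1))

theorem pv_ne_zero {xs : Fin (t + 1) → Fin k → F} (h : ∀ i, xs i ≠ 0) : pv X xs ≠ 0 := by
  intro e
  have h1 : Function.Injective (pemb X) := fun x y hxy => by
    funext b
    have := congrArg (fun z => act X.P⁻¹ z (X.e.symm b)) hxy
    simpa [pemb, act_inv_act] using this
  have h2 := h1 (e.trans (map_zero (pemb X)).symm)
  choose b hb using fun i => Function.ne_iff.1 (h i)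
  exact Finset.prod_ne_zero_iff.2 (fun i _ => hb i) (congrFun h2 b)

/-- equal pure tensors have proportional factors -/
theorem factor_mem_of_eq {xs ys : Fin (t + 1) → Fin k → F} {r : F} (hxs : ∀ i, xs i ≠ 0)
    (h : pv X xs = r • pv X ys) (i : Fin (t + 1)) : xs i ∈ F ∙ ys i := by
  rw [pv_split X i xs, pv_split X i ys, ← pt_smul_left] at h
  refine mem_span_of_pt_eq _ h fun e => pv_ne_zero X hxs ?_
  rw [pv_split X i xs, e, MaxCl.Tens.pt_zero_left]

/-- a trivial element in normal form -/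
theorem normal_eq_one (hk : 2 ≤ k) {π : Equiv.Perm (Fin (t + 1))} {a : Fin (t + 1) → GL (Fin k) F}
    (h : perm X π * pure X a = 1) : π = 1 ∧ ∀ i u, act (a i) u ∈ F ∙ u := by
  have key : ∀ i (xs : Fin (t + 1) → Fin k → F), (∀ j, xs j ≠ 0) →
      act (a i) (xs i) ∈ F ∙ xs (π i) := fun i xs hxs => by
    have e : pv X (fun j => act (a (π.symm j)) (xs (π.symm j))) = (1 : F) • pv X xs := by
      rw [← act_normal, h, act_one, one_smul]
    have h1 : ∀ j, act (a (π.symm j)) (xs (π.symm j)) ≠ 0 := fun j e0 =>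
      hxs (π.symm j) (act_injective (a (π.symm j)) (e0.trans (map_zero (act (a (π.symm j)))).symm))
    simpa using factor_mem_of_eq X h1 e (π i)
  have h1 : π = 1 := by
    refine Equiv.ext fun i => ?_
    by_contra hi
    replace hi : π i ≠ i := hi
    obtain ⟨u, hu, -⟩ := exists_off_lines hk (0 : Fin k → F) 0
    have hu0 : u ≠ 0 := fun e => hu (by rw [e]; exact Submodule.zero_mem _)
    obtain ⟨v, hv, hv0⟩ := exists_off_lines hk (act (a i) u) 0
    have hv0' : v ≠ 0 := fun e => hv0 (by rw [e]; exact Submodule.zero_mem _)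
    have := key i (Function.update (fun _ => u) (π i) v) fun j => by
      by_cases hj : j = π i
      · subst hj; simpa using hv0'
      · simpa [hj] using hu0
    rw [Function.update_self, Function.update_of_ne (Ne.symm hi)] at this
    obtain ⟨r, hr⟩ := Submodule.mem_span_singleton.1 this
    have hr0 : r ≠ 0 := fun e => hu0 (act_injective (a i) (by rw [← hr, e, zero_smul, map_zero]))
    exact hv (Submodule.mem_span_singleton.2 ⟨r⁻¹, by rw [← hr, inv_smul_smul₀ hr0]⟩)
  refine ⟨h1, fun i u => ?_⟩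
  rcases eq_or_ne u 0 with rfl | hu
  · rw [map_zero]; exact Submodule.zero_mem _
  · simpa [h1] using key i (fun _ => u) fun _ => hu

variable {σ : F ≃+* F} {f : (ι → F) → (ι → F) → F} {f₀ : (Fin k → F) → (Fin k → F) → F} {c : F}
variable {π : Equiv.Perm (Fin (t + 1))} {a : Fin (t + 1) → GL (Fin k) F} {y : GL ι F}

/-- in odd characteristic a quadratic element moves no factor -/
theorem eq_one_of_two_ne_zero (hk : 2 ≤ k) (h2 : (2 : F) ≠ 0) (hy : y = perm X π * pure X a)
    (hq : ∀ x, act y (act y x) - (2 : F) • act y x + x = 0) : π = 1 := by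
  refine Equiv.ext fun i => ?_
  by_contra hi
  replace hi : π i ≠ i := hi
  set l := π i with hl
  set j := π.symm i with hj
  have hji : j ≠ i := fun e => hi ((Equiv.symm_apply_eq π).1 (hj.symm.trans e)).symm
  obtain ⟨u, hu, -⟩ := exists_off_lines hk (0 : Fin k → F) 0
  have hu0 : u ≠ 0 := fun e => hu (by rw [e]; exact Submodule.zero_mem _)
  obtain ⟨v, hv1, hv2⟩ := exists_off_lines hk (act (a i) u) (act (a j)⁻¹ u)
  have hv0 : v ≠ 0 := fun e => hv1 (by rw [e]; exact Submodule.zero_mem _)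
  obtain ⟨xs, hxs⟩ : ∃ xs : Fin (t + 1) → Fin k → F, xs = Function.update (fun _ => v) i u := ⟨_, rfl⟩
  have hxi : xs i = u := by simp [hxs]
  have hxl : xs l = v := by simp [hxs, hi]
  have hxj : xs j = v := by simp [hxs, hji]
  have hx0 : ∀ m, xs m ≠ 0 := fun m => by
    by_cases hm : m = i <;> simp [hxs, hm, hu0, hv0]
  obtain ⟨ys, hys⟩ : ∃ ys : Fin (t + 1) → Fin k → F, ys = fun m => act (a (π.symm m)) (xs (π.symm m)) :=
    ⟨_, rfl⟩
  have hy0 : ∀ m, ys m ≠ 0 := fun m e => hx0 (π.symm m) (act_injective (a (π.symm m)) (by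
    rw [show act (a (π.symm m)) (xs (π.symm m)) = 0 from by rw [hys] at e; exact e, map_zero]))
  have hy1 : act y (pv X xs) = pv X ys := by rw [hy, act_normal, hys]
  obtain ⟨zs, hzs⟩ : ∃ zs : Fin (t + 1) → Fin k → F, zs = fun m => act (a (π.symm m)) (ys (π.symm m)) :=
    ⟨_, rfl⟩
  have hy2 : act y (pv X ys) = pv X zs := by rw [hy, act_normal, hzs]
  have hz0 : ∀ m, zs m ≠ 0 := fun m e => hy0 (π.symm m) (act_injective (a (π.symm m)) (by
    rw [show act (a (π.symm m)) (ys (π.symm m)) = 0 from by rw [hzs] at e; exact e, map_zero]))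
  have hyi : ys i = act (a j) v := by rw [hys]; simp [← hj, hxj]
  have hyl : ys l = act (a i) u := by rw [hys]; simp [hl, hxi]
  have e := hq (pv X xs)
  rw [hy1, hy2, pv_split X i xs, pv_split X i zs, pv_split X i ys] at e
  obtain ⟨β, hβ⟩ : ∃ β, β = pv (sub F k t) fun m => xs (i.succAbove m) := ⟨_, rfl⟩
  obtain ⟨β', hβ'⟩ : ∃ β', β' = pv (sub F k t) fun m => ys (i.succAbove m) := ⟨_, rfl⟩
  obtain ⟨β'', hβ''⟩ : ∃ β'', β'' = pv (sub F k t) fun m => zs (i.succAbove m) := ⟨_, rfl⟩
  rw [← hβ, ← hβ', ← hβ''] at e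
  have hsum : pt (split X i) β (xs i) + pt (split X i) β'' (zs i) = pt (split X i) ((2 : F) • β') (ys i) := by
    rw [pt_smul_left]; linear_combination (norm := module) e
  have hne : ∀ (ws : Fin (t + 1) → Fin k → F), (∀ m, ws m ≠ 0) →
      (pv (sub F k t) fun m => ws (i.succAbove m)) ≠ 0 := fun ws hws e0 =>
    pv_ne_zero X hws (by rw [pv_split X i ws, e0, MaxCl.Tens.pt_zero_left])
  have hβ0 : β ≠ 0 := hβ ▸ hne xs hx0
  have hβ'0 : β' ≠ 0 := hβ' ▸ hne ys hy0
  by_cases hdep : β'' ∈ F ∙ β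
  · obtain ⟨r, hr⟩ := Submodule.mem_span_singleton.1 hdep
    rw [← hr, pt_smul_comm, ← pt_add_right, eq_comm] at hsum
    have h1 := mem_span_of_pt_eq' _ hsum (hy0 i)
    obtain ⟨r', hr'⟩ := Submodule.mem_span_singleton.1 h1
    have e1 : pv X ys = (r' / 2) • pv X (Function.update xs i (ys i)) := by
      rw [pv_split X i ys, pv_split X i (Function.update xs i (ys i))]
      simp only [Function.update_self, Function.update_of_ne (Fin.succAbove_ne i _), ← hβ, ← hβ']
      rw [← pt_smul_left, div_eq_inv_mul, mul_smul, hr', inv_smul_smul₀ h2]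
    have := factor_mem_of_eq X hy0 e1 l
    rw [Function.update_of_ne (by rw [hl]; exact hi), hxl, hyl] at this
    obtain ⟨s, hs⟩ := Submodule.mem_span_singleton.1 this
    have hs0 : s ≠ 0 := fun e0 => hy0 l (by rw [hyl, ← hs, e0, zero_smul])
    exact hv1 (Submodule.mem_span_singleton.2 ⟨s⁻¹, by rw [← hs, inv_smul_smul₀ hs0]⟩)
  · have h1 := MaxCl.Tens.share _ hsum (hxi ▸ hu0) hβ0 hdep
    obtain ⟨r, hr⟩ := Submodule.mem_span_singleton.1 h1
    rw [← hr, ← pt_smul_comm, ← pt_add_left, eq_comm] at hsum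
    have h3 := mem_span_of_pt_eq _ hsum (smul_ne_zero h2 hβ'0)
    rw [hxi, hyi] at h3
    obtain ⟨s, hs⟩ := Submodule.mem_span_singleton.1 h3
    refine hv2 (Submodule.mem_span_singleton.2 ⟨s, ?_⟩)
    rw [← map_smul, hs, act_inv_act]

/-- the basis functions preceding their images -/
def Low (π : Equiv.Perm (Fin (t + 1))) (φ : Fin (t + 1) → Fin k) : Prop := toLex φ < toLex (φ ∘ π)

theorem low_congr (π : Equiv.Perm (Fin (t + 1))) {φ ψ : Fin (t + 1) → Fin k}
    (h : ∀ m, π m ≠ m → ψ m = φ m) (hl : Low π φ) : Low π ψ := by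
  obtain ⟨m, hm1, hm2⟩ := hl
  have hmv : π m ≠ m := fun e => absurd hm2 (by show ¬ φ m < φ (π m); rw [e]; exact lt_irrefl _)
  have hπm : π (π m) ≠ π m := fun e => hmv (π.injective e)
  refine ⟨m, fun j hj => ?_, ?_⟩
  · show ψ j = ψ (π j)
    by_cases hjv : π j = j
    · rw [hjv]
    · rw [h j hjv, h (π j) fun e => hjv (π.injective e)]; exact hm1 j hj
  · show ψ m < ψ (π m)
    rw [h m hmv, h (π m) hπm]; exact hm2

/-- an involution moving factors has a large residual space -/
theorem rank_of_involution (hk : 2 ≤ k) (hy : y = perm X π * pure X a) (hyy : y * y = 1) :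
    π * π = 1 ∧ k ^ (t + 1) ≤ 2 * finrank F (LinearMap.range (act y - LinearMap.id)) +
      Nat.card {φ : Fin (t + 1) → Fin k // φ ∘ π = φ} := by
  classical
  rw [hy, normal_mul] at hyy
  obtain ⟨hππ, hsc⟩ := normal_eq_one X hk hyy
  refine ⟨hππ, ?_⟩
  have hπ2 : ∀ m, π (π m) = m := fun m => congrFun (congrArg DFunLike.coe hππ) m
  have hπs : π.symm = π := Equiv.ext fun m => (Equiv.symm_apply_eq π).2 (hπ2 m).symm
  choose r hr using fun m => MaxCl.Tens.exists_scalar_of_eigen (act (a (π m) * a m)) (hsc m)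
  -- adapted bases
  let E : Fin (t + 1) → GL (Fin k) F := fun m => if π m < m then a (π m) else 1
  have hE : ∀ m, π m ≠ m → ∃ s : F, ∀ u, act (a (π m)) (act (E (π m)) u) = s • act (E m) u := by
    intro m hm
    rcases lt_or_gt_of_ne hm with h | h
    · refine ⟨1, fun u => ?_⟩
      simp [E, hπ2, h, h.not_gt, act_one]
    · refine ⟨r m, fun u => ?_⟩
      simp only [E, hπ2, if_neg h.not_gt, if_pos h, act_one, ← hr m u, act_mul]
  have hpi : Function.Injective (pemb X) := fun x y hxy => by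
    funext b
    have := congrArg (fun z => act X.P⁻¹ z (X.e.symm b)) hxy
    simpa [pemb, act_inv_act] using this
  let Φ : ((Fin (t + 1) → Fin k) → F) →ₗ[F] (ι → F) := act (pure X E) ∘ₗ pemb X
  have hΦ : Function.Injective Φ := (act_injective _).comp hpi
  have hsingle : ∀ φ : Fin (t + 1) → Fin k,
      pemb X (Pi.single φ 1) = pv X fun m => Pi.single (φ m) 1 := fun φ => by
    rw [pv]; congr 1; funext b
    by_cases h : b = φ
    · subst h; simp
    · obtain ⟨m, hm⟩ := Function.ne_iff.1 h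
      rw [Pi.single_eq_of_ne h, Finset.prod_eq_zero (Finset.mem_univ m) (Pi.single_eq_of_ne hm _)]
  let Lo : Submodule F ((Fin (t + 1) → Fin k) → F) :=
    { carrier := {x | ∀ φ, ¬ Low π φ → x φ = 0}
      zero_mem' := fun _ _ => rfl
      add_mem' := fun hx hy φ hφ => by simp [hx φ hφ, hy φ hφ]
      smul_mem' := fun c x hx φ hφ => by simp [hx φ hφ] }
  let Hi : Submodule F ((Fin (t + 1) → Fin k) → F) :=
    { carrier := {x | ∀ φ, ¬ Low π (φ ∘ π) → x φ = 0}
      zero_mem' := fun _ _ => rfl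
      add_mem' := fun hx hy φ hφ => by simp [hx φ hφ, hy φ hφ]
      smul_mem' := fun c x hx φ hφ => by simp [hx φ hφ] }
  let ext₀ : ({φ // Low (k := k) π φ} → F) →ₗ[F] ((Fin (t + 1) → Fin k) → F) :=
    { toFun := fun z φ => if h : Low π φ then z ⟨φ, h⟩ else 0
      map_add' := fun z z' => by funext φ; by_cases h : Low π φ <;> simp [h]
      map_smul' := fun c z => by funext φ; by_cases h : Low π φ <;> simp [h] }
  have hHi : ∀ z, ∃ x ∈ Hi, act y (Φ (ext₀ z)) = Φ x := by
    intro z
    suffices ext₀ z ∈ (Hi.map Φ).comap (act y ∘ₗ Φ) by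
      obtain ⟨x, hx, e⟩ := this; exact ⟨x, hx, e.symm⟩
    rw [pi_eq_sum_univ' (ext₀ z)]
    refine Submodule.sum_mem _ fun φ _ => ?_
    by_cases hφ : Low π φ
    swap; · rw [show ext₀ z φ = 0 from dif_neg hφ, zero_smul]; exact Submodule.zero_mem _
    refine Submodule.smul_mem _ _ ?_
    obtain ⟨v, hv⟩ : ∃ v : Fin (t + 1) → Fin k → F, v = fun m =>
        act (E m)⁻¹ (act (a (π m)) (act (E (π m)) (Pi.single (φ (π m)) 1))) := ⟨_, rfl⟩
    refine ⟨fun ψ => ∏ m, v m (ψ m), fun ψ hψ => ?_, ?_⟩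
    · by_contra hne
      replace hne : ∀ m ∈ (Finset.univ : Finset (Fin (t + 1))), v m (ψ m) ≠ 0 := Finset.prod_ne_zero_iff.1 hne
      refine hψ (low_congr π (fun m hm => ?_) hφ)
      have hm' : π (π m) ≠ π m := fun e => hm (π.injective e)
      obtain ⟨s, hs⟩ := hE (π m) hm'
      have := hne (π m) (Finset.mem_univ _)
      rw [hv] at this
      simp only [hπ2] at this hs
      rw [hs, map_smul, act_inv_act, Pi.smul_apply, smul_eq_mul] at this
      by_contra h
      exact this (by rw [Pi.single_eq_of_ne (by simpa using h), mul_zero])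
    · show act (pure X E) (pemb X fun ψ => ∏ m, v m (ψ m)) = act y (act (pure X E) (pemb X (Pi.single φ 1)))
      rw [hsingle, act_pure, show (pemb X fun ψ => ∏ m, v m (ψ m)) = pv X v from rfl, act_pure, hy, act_normal]
      simp only [hv, act_act_inv, hπs]
  have hinj : Function.Injective ((act y - LinearMap.id) ∘ₗ Φ ∘ₗ ext₀) := by
    refine (injective_iff_map_eq_zero _).2 fun z hz => ?_
    obtain ⟨x, hx, e⟩ := hHi z
    have e' : Φ x = Φ (ext₀ z) := by rw [← e]; exact sub_eq_zero.1 hz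
    funext ⟨φ, hφ⟩
    have h1 : ext₀ z φ = z ⟨φ, hφ⟩ := dif_pos hφ
    rw [← h1, ← hΦ e']
    refine hx φ fun h => ?_
    have h' : toLex (φ ∘ π) < toLex ((φ ∘ π) ∘ π) := h
    rw [show (φ ∘ π) ∘ π = φ from funext fun m => by simp [hπ2]] at h'
    exact lt_asymm hφ h'
  have h1 : Nat.card {φ // Low (k := k) π φ} ≤ finrank F (LinearMap.range (act y - LinearMap.id)) := by
    have := LinearMap.finrank_range_of_inj hinj
    rw [Module.finrank_fintype_fun_eq_card] at this
    rw [Nat.card_eq_fintype_card, ← this]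
    exact Submodule.finrank_mono (LinearMap.range_comp_le_range _ _)
  have hcov : ∀ φ : Fin (t + 1) → Fin k, Low π φ ∨ Low π (φ ∘ π) ∨ φ ∘ π = φ := fun φ => by
    rcases lt_trichotomy (toLex φ) (toLex (φ ∘ π)) with h | h | h
    · exact Or.inl h
    · exact Or.inr (Or.inr (toLex.injective h).symm)
    · refine Or.inr (Or.inl ?_)
      show toLex (φ ∘ π) < toLex ((φ ∘ π) ∘ π)
      rw [show (φ ∘ π) ∘ π = φ from funext fun m => by simp [hπ2]]
      exact h
  have e : {φ : Fin (t + 1) → Fin k // Low π (φ ∘ π)} ≃ {φ // Low (k := k) π φ} :=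
    { toFun := fun φ => ⟨φ.1 ∘ π, φ.2⟩
      invFun := fun φ => ⟨φ.1 ∘ π, by
        rw [show (φ.1 ∘ π) ∘ π = φ.1 from funext fun m => by simp [hπ2]]; exact φ.2⟩
      left_inv := fun φ => Subtype.ext (funext fun m => by simp [hπ2])
      right_inv := fun φ => Subtype.ext (funext fun m => by simp [hπ2]) }
  have h2 : Nat.card (Fin (t + 1) → Fin k) ≤ Nat.card {φ // Low (k := k) π φ} +
      Nat.card {φ : Fin (t + 1) → Fin k // Low π (φ ∘ π)} + Nat.card {φ : Fin (t + 1) → Fin k // φ ∘ π = φ} := by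
    simp only [Nat.card_eq_fintype_card, Fintype.card_subtype]
    rw [← Finset.card_univ]
    refine (Finset.card_le_card (t := Finset.univ.filter (Low π) ∪ Finset.univ.filter (fun φ => Low π (φ ∘ π))
      ∪ Finset.univ.filter (fun φ => φ ∘ π = φ)) fun φ _ => ?_).trans
      ((Finset.card_union_le _ _).trans (Nat.add_le_add_right (Finset.card_union_le _ _) _))
    simpa [or_assoc] using hcov φ
  rw [Nat.card_congr e, Nat.card_fun, Nat.card_fin, Nat.card_fin] at h2
  omega

/-- functions fixed by a moved pair -/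
theorem card_fixed_le {i : Fin (t + 1)} (hi : π i ≠ i) :
    Nat.card {φ : Fin (t + 1) → Fin k // φ ∘ π = φ} ≤ k ^ t := by
  obtain ⟨j, hj⟩ := Fin.exists_succAbove_eq hi.symm
  refine (Nat.card_le_card_of_injective
    (fun φ : {φ : Fin (t + 1) → Fin k // φ ∘ π = φ} => φ.1 ∘ (π i).succAbove) ?_).trans_eq
    (by rw [Nat.card_fun, Nat.card_fin, Nat.card_fin])
  intro φ ψ h
  refine Subtype.ext (funext fun m => ?_)
  by_cases hm : m = π i
  · subst hm
    rw [show φ.1 (π i) = φ.1 i from congrFun φ.2 i, show ψ.1 (π i) = ψ.1 i from congrFun ψ.2 i, ← hj]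
    exact congrFun h j
  · obtain ⟨l, rfl⟩ := Fin.exists_succAbove_eq hm
    exact congrFun h l

/-- functions fixed by two moved pairs -/
theorem card_fixed_le_two (hπ : π * π = 1) {i m : Fin (t + 1)} (hi : π i ≠ i) (hm : π m ≠ m)
    (hmi : m ≠ i) (hml : m ≠ π i) :
    k * Nat.card {φ : Fin (t + 1) → Fin k // φ ∘ π = φ} ≤ k ^ t := by
  classical
  have hπ2 : ∀ x, π (π x) = x := fun x => congrFun (congrArg DFunLike.coe hπ) x
  have him : i ≠ π m := fun e => hml (by rw [e, hπ2])
  have hne : π i ≠ π m := fun e => hmi (π.injective e).symm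
  have h1 : Nat.card {x // x ≠ π i ∧ x ≠ π m} + 2 = t + 1 := by
    rw [Nat.card_eq_fintype_card, Fintype.card_subtype, ← Finset.card_pair hne, ← Finset.card_union_of_disjoint]
    · conv_rhs => rw [← Fintype.card_fin (t + 1)]
      rw [← Finset.card_univ]
      congr 1; ext x; simp; tauto
    · rw [Finset.disjoint_left]; intro x hx; simp at hx ⊢; tauto
  have h2 : Nat.card {φ : Fin (t + 1) → Fin k // φ ∘ π = φ} ≤ k ^ Nat.card {x // x ≠ π i ∧ x ≠ π m} := by
    refine (Nat.card_le_card_of_injective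
      (fun (φ : {φ : Fin (t + 1) → Fin k // φ ∘ π = φ}) (x : {x // x ≠ π i ∧ x ≠ π m}) => φ.1 x.1) ?_).trans_eq
      (by rw [Nat.card_fun, Nat.card_fin])
    intro φ ψ h
    refine Subtype.ext (funext fun x => ?_)
    by_cases hxi : x = π i
    · subst hxi
      rw [show φ.1 (π i) = φ.1 i from congrFun φ.2 i, show ψ.1 (π i) = ψ.1 i from congrFun ψ.2 i]
      exact congrFun h ⟨i, hi.symm, him⟩
    by_cases hxm : x = π m
    · subst hxm
      rw [show φ.1 (π m) = φ.1 m from congrFun φ.2 m, show ψ.1 (π m) = ψ.1 m from congrFun ψ.2 m]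
      exact congrFun h ⟨m, hml, hm.symm⟩
    exact congrFun h ⟨x, hxi, hxm⟩
  have hs : t = Nat.card {x // x ≠ π i ∧ x ≠ π m} + 1 := by omega
  conv_rhs => rw [hs, pow_succ, mul_comm]
  exact Nat.mul_le_mul_left k h2

variable {X}

/-- quadratic elements of the wreath subgroup with residual space of dimension at most `k ^ t` -/
theorem root_or_swap (P : PF X σ f f₀ c) (hy : y = perm X π * pure X a) (hyU : y ∈ uiso f) (hy1 : y ≠ 1)
    (hq : ∀ x, act y (act y x) - (2 : F) • act y x + x = 0)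
    (hr : finrank F (LinearMap.range (act y - LinearMap.id)) ≤ k ^ t) :
    (∃ j w d, w ≠ 0 ∧ f₀ w w = 0 ∧ d + σ d = 0 ∧ d ≠ 0 ∧ y = root (split X j) P.h₀ w d) ∨
      (k = 3 ∧ π.IsSwap ∧ k ^ t ≤ finrank F (LinearMap.range (act y - LinearMap.id))) := by
  classical
  have hk := P.three
  by_cases hπ : π = 1
  swap
  · refine Or.inr ?_
    obtain ⟨i, hi⟩ : ∃ i, π i ≠ i := by
      by_contra h; push Not at h; exact hπ (Equiv.ext h)
    have h2 : (2 : F) = 0 := by
      by_contra h2; exact hπ (eq_one_of_two_ne_zero X (by omega) h2 hy hq)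
    have hyy : y * y = 1 := gl_ext fun x => by
      have := hq x
      rw [h2, zero_smul, sub_zero, add_eq_zero_iff_eq_neg] at this
      rw [act_mul, act_one, this, neg_eq_iff_add_eq_zero, ← two_smul F, h2, zero_smul]
    obtain ⟨hππ, hcard⟩ := rank_of_involution X (by omega) hy hyy
    have hfix := card_fixed_le (k := k) (π := π) hi
    obtain ⟨R, hR⟩ : ∃ R, R = finrank F (LinearMap.range (act y - LinearMap.id)) := ⟨_, rfl⟩
    rw [← hR] at hcard hr ⊢
    rw [pow_succ] at hcard
    have hN : 0 < k ^ t := Nat.pow_pos (by omega)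
    have hk3 : k = 3 := by
      by_contra h
      have : k ^ t * 4 ≤ k ^ t * k := Nat.mul_le_mul_left _ (by omega)
      omega
    refine ⟨hk3, ⟨i, π i, hi.symm, Equiv.ext fun m => ?_⟩, ?_⟩
    · by_cases hmi : m = i
      · subst hmi; rw [Equiv.swap_apply_left]
      by_cases hml : m = π i
      · subst hml; rw [Equiv.swap_apply_right]; exact congrFun (congrArg DFunLike.coe hππ) i
      rw [Equiv.swap_apply_of_ne_of_ne hmi hml]
      by_contra hm
      have := card_fixed_le_two (k := k) hππ hi hm hmi hml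
      rw [hk3] at this hcard hr hN
      omega
    · rw [hk3] at hcard hfix ⊢
      omega
  refine Or.inl ?_
  subst hπ
  rw [perm_one, one_mul] at hy
  -- some factor is not scalar
  obtain ⟨j, u₀, hu₀⟩ : ∃ j u, act (a j) u ∉ F ∙ u := by
    by_contra h; push Not at h
    choose r hr' using fun j => MaxCl.Tens.exists_scalar_of_eigen (act (a j)) (h j)
    have hm : ∀ x, act y x = (∏ i, r i) • x := fun x => by
      refine LinearMap.congr_fun (pv_ext X (L := act y) (L' := (∏ i, r i) • LinearMap.id) fun xs => ?_) x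
      rw [hy, act_pure]
      simp only [hr', LinearMap.smul_apply, LinearMap.id_apply]
      rw [pv, pv, ← map_smul]
      congr 1; funext b
      simp [Finset.prod_mul_distrib]
    apply hy1
    refine gl_ext fun x => ?_
    have e := hq x
    rw [hm, hm, smul_smul, smul_smul, ← sub_smul, ← one_smul F x, smul_smul, ← add_smul, smul_eq_zero] at e
    rcases e with e | e
    · rw [hm, act_one]
      have : ((∏ i, r i) - 1) * ((∏ i, r i) - 1) = 0 := by linear_combination e
      rw [sub_eq_zero.1 (mul_self_eq_zero.1 this), one_smul]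
    · rw [e, map_zero, map_zero]
  set T := split X j with hT
  set A := pure (sub F k t) fun i => a (j.succAbove i) with hA
  have hyT : y = gl T A (a j) := by
    rw [hy, hT, hA, gl_pure]
    congr 1
    exact (Fin.insertNth_self_removeNth j a).symm
  have hu1 : u₀ ≠ 0 := fun e => hu₀ (by rw [e, map_zero]; exact Submodule.zero_mem _)
  let D : (ι → F) →ₗ[F] (ι → F) := act y - LinearMap.id
  have hD : ∀ β u, D (pt T β u) = pt T (act A β) (act (a j) u) - pt T β u := fun β u => by
    show act y _ - _ = _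
    rw [hyT, act_gl_pt]; rfl
  -- the other factors are scalar
  obtain ⟨s, hs⟩ := MaxCl.Tens.exists_scalar_of_eigen (act A) fun β => by
    by_contra hβ
    let L₁ : (Fin (k ^ t) → F) →ₗ[F] (ι → F) := D ∘ₗ ptL T u₀
    obtain ⟨χ₁, hχ₁0, hχ₁⟩ := exists_dual _ hu₀
    have hinj : Function.Injective L₁ := by
      refine (injective_iff_map_eq_zero _).2 fun z hz => ?_
      have e := congrArg (cR T χ₁) hz
      change cR T χ₁ (D (pt T z u₀)) = cR T χ₁ 0 at e
      rw [hD, map_sub, cR_pt, cR_pt, hχ₁, hχ₁0 u₀ (Submodule.mem_span_singleton_self u₀), map_zero, one_smul,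
        zero_smul, sub_zero] at e
      exact act_injective A (by rw [e, map_zero])
    have hrange : LinearMap.range L₁ = LinearMap.range D := by
      refine Submodule.eq_of_le_of_finrank_le (LinearMap.range_comp_le_range _ _) ?_
      rw [LinearMap.finrank_range_of_inj hinj, Module.finrank_fin_fun]
      exact hr
    -- a functional vanishing on the two vectors
    obtain ⟨v, hv⟩ : ∃ v, v ∉ F ∙ u₀ ⊔ F ∙ act (a j) u₀ := by
      by_contra h; push Not at h
      have h1 : finrank F (⊤ : Submodule F (Fin k → F)) ≤ finrank F ↥(F ∙ u₀ ⊔ F ∙ act (a j) u₀) :=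
        Submodule.finrank_mono fun x _ => h x
      rw [finrank_top, Module.finrank_fin_fun, Submodule.finrank_sup_span_singleton hu₀,
        finrank_span_singleton hu1] at h1
      omega
    obtain ⟨χ, hχ0, hχ⟩ := exists_dual _ hv
    have hmem : D (pt T β v) ∈ LinearMap.range L₁ := hrange ▸ LinearMap.mem_range_self D _
    obtain ⟨z, hz⟩ := hmem
    have e := congrArg (cR T χ) hz
    change cR T χ (D (pt T z u₀)) = _ at e
    rw [hD, hD, map_sub, map_sub, cR_pt, cR_pt, cR_pt, cR_pt, hχ,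
      hχ0 u₀ (Submodule.mem_sup_left (Submodule.mem_span_singleton_self _)),
      hχ0 _ (Submodule.mem_sup_right (Submodule.mem_span_singleton_self _)), zero_smul, zero_smul, sub_zero,
      one_smul, eq_comm, sub_eq_zero] at e
    rcases eq_or_ne (χ (act (a j) v)) 0 with h | h
    · rw [h, zero_smul] at e
      exact hβ (by rw [← e, map_zero]; exact Submodule.zero_mem _)
    · refine hβ (Submodule.mem_span_singleton.2 ⟨(χ (act (a j) v))⁻¹, ?_⟩)
      conv_lhs => arg 2; rw [← e]
      rw [inv_smul_smul₀ h]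
  let B : (Fin k → F) →ₗ[F] (Fin k → F) := s • act (a j) - LinearMap.id
  have hB : ∀ β u, D (pt T β u) = pt T β (B u) := fun β u => by
    rw [hD, hs, pt_smul_comm, ← pt_sub_right]; rfl
  have hpos : 0 < k ^ t := Nat.pow_pos (by omega)
  obtain ⟨β₀, χ₀, hχ₀⟩ : ∃ β₀ : Fin (k ^ t) → F, ∃ χ : (Fin (k ^ t) → F) →ₗ[F] F, χ β₀ = 1 :=
    ⟨Pi.single ⟨0, hpos⟩ 1, LinearMap.proj ⟨0, hpos⟩, by simp⟩
  have hβ₀ : β₀ ≠ 0 := fun e => by rw [e, map_zero] at hχ₀; exact zero_ne_one hχ₀
  have hBB : ∀ u, B (B u) = 0 := fun u => by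
    have e := hq (pt T β₀ u)
    have e1 : D (D (pt T β₀ u)) = 0 := by
      show act y (act y (pt T β₀ u) - pt T β₀ u) - (act y (pt T β₀ u) - pt T β₀ u) = 0
      rw [map_sub]; linear_combination (norm := module) e
    rw [hB, hB, pt_eq_zero] at e1
    exact e1.resolve_left hβ₀
  obtain ⟨v, hv⟩ : ∃ v, B v ≠ 0 := by
    by_contra h; push Not at h
    apply hy1
    have h0 : D = 0 := MaxCl.Tens.pt_ext T fun β u => by rw [hB, h, pt_zero_right]; rfl
    exact gl_ext fun x => by rw [act_one]; exact sub_eq_zero.1 (LinearMap.congr_fun h0 x)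
  obtain ⟨w, hw⟩ : ∃ w, w = B v := ⟨_, rfl⟩
  have hw0 : w ≠ 0 := hw ▸ hv
  have hline : ∀ u, B u ∈ F ∙ w := by
    intro u
    by_contra hu
    obtain ⟨χ, hχ0, hχ⟩ := exists_dual _ hu
    have hinj : Function.Injective (D ∘ₗ ptL T v) := by
      refine (injective_iff_map_eq_zero _).2 fun z hz => ?_
      change D (pt T z v) = 0 at hz
      rw [hB, pt_eq_zero] at hz
      exact hz.resolve_right hv
    have hrange : LinearMap.range (D ∘ₗ ptL T v) = LinearMap.range D := by
      refine Submodule.eq_of_le_of_finrank_le (LinearMap.range_comp_le_range _ _) ?_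
      rw [LinearMap.finrank_range_of_inj hinj, Module.finrank_fin_fun]
      exact hr
    obtain ⟨z, hz⟩ : D (pt T β₀ u) ∈ LinearMap.range (D ∘ₗ ptL T v) := hrange ▸ LinearMap.mem_range_self D _
    have e := congrArg (cR T χ) hz
    change cR T χ (D (pt T z v)) = _ at e
    rw [hB, hB, cR_pt, cR_pt, hχ, ← hw, hχ0 w (Submodule.mem_span_singleton_self w), zero_smul, one_smul] at e
    exact hβ₀ e.symm
  obtain ⟨χw, -, hχw⟩ := exists_dual (⊥ : Submodule F (Fin k → F)) (v := w) (by simpa using hw0)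
  obtain ⟨ψ, hψdef⟩ : ∃ ψ, ψ = χw ∘ₗ B := ⟨_, rfl⟩
  have hψ : ∀ u, B u = ψ u • w := fun u => by
    obtain ⟨r, hr'⟩ := Submodule.mem_span_singleton.1 (hline u)
    rw [hψdef, LinearMap.comp_apply, ← hr', map_smul, hχw, smul_eq_mul, mul_one]
  have hψw : ψ w = 0 := by rw [hψdef, LinearMap.comp_apply, hw, hBB, map_zero]
  have hψv : ψ v = 1 := by rw [hψdef, LinearMap.comp_apply, ← hw, hχw]
  have hyact : ∀ β u, act y (pt T β u) = pt T β (u + ψ u • w) := fun β u => by
    rw [pt_add_right, ← hψ, ← hB]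
    show _ = pt T β u + (act y (pt T β u) - pt T β u)
    abel
  have C := P.toTF j
  have hiso : ∀ x z, ψ x * f₀ w z + σ (ψ z) * f₀ x w + ψ x * σ (ψ z) * f₀ w w = 0 := fun x z => by
    obtain ⟨u, u', hu⟩ := MaxCl.Tens.exists_ne_two C.hB C.pos
    have e := MaxCl.Unit.mem_uiso.1 hyU (pt T u x) (pt T u' z)
    rw [hyact, hyact, hT, C.form, C.form] at e
    have e' := mul_left_cancel₀ hu (mul_left_cancel₀ C.c_ne e)
    simp only [MaxCl.Unit.add_left P.h₀, MaxCl.Unit.add_right P.h₀, MaxCl.Unit.smul_left P.h₀,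
      MaxCl.Unit.smul_right P.h₀] at e'
    linear_combination e'
  have hww : f₀ w w = 0 := by
    have := hiso v w
    rw [hψv, hψw, map_zero] at this
    linear_combination this
  obtain ⟨z, hz⟩ : ∃ z, f₀ z w = 1 := by
    obtain ⟨⟨x, hx⟩, -⟩ := P.h₀.nondegenerate w hw0
    exact ⟨(f₀ x w)⁻¹ • x, by rw [MaxCl.Unit.smul_left P.h₀, inv_mul_cancel₀ hx]⟩
  have hwz : f₀ w z = 1 := by rw [← MaxCl.Unit.herm' P.h₀, hz, map_one]
  obtain ⟨d, hd⟩ : ∃ d, d = -σ (ψ z) := ⟨_, rfl⟩
  have hψd : ∀ u, ψ u = d * f₀ u w := fun u => by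
    have := hiso u z
    rw [hwz, hww] at this
    rw [hd]; linear_combination this
  refine ⟨j, w, d, hw0, hww, ?_, fun e => ?_, ?_⟩
  · have := hψd z
    rw [hz, mul_one, hd] at this
    rw [hd, map_neg, P.h₀.involutive]
    linear_combination -this
  · have := hψd v
    rw [hψv, e, zero_mul] at this
    exact one_ne_zero this
  · refine MaxCl.Tens.gl_ext_pt T fun β u => ?_
    rw [hyact, root, act_gl_pt, act_one, MaxCl.Unit.act_utv P.h₀ hww, hψd]

end Cfsg.Agent.TPow
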