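/-
Groups containing the special unitary group of each factor with scalar top elements: the induced groups on the
remaining factors, and the step of the rigidity induction: a conjugating isometry carrying one root group into the
wreath subgroup lies in it.
-/
import Mathlib
import Cfsg.Agent.Lib.TPow.Cent
import Cfsg.Agent.Lib.TPow.Wreath

set_option autoImplicit false

namespace Cfsg.Agent.TPow

open scoped MatrixGroups Matrix
open Module (finrank)
open MaxCl (act gl_ext act_mul act_one act_inv_act act_act_inv act_apply act_injective exists_dual)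
open MaxCl.Unit (uiso flinU utv utvGroup)
open MaxCl.Tens (TSys pt gl pt_ext gl_ext_pt act_gl_pt gl_mul gl_one gl_inv ptL ptR root act_root suGroup IsTop
  TopScalar pt_eq_zero pt_smul_left pt_smul_right pt_add_left pt_add_right pt_zero_right)

variable {ι : Type} [Fintype ι] [DecidableEq ι] {F : Type*} [Field F] {k t : ℕ}
variable {σ : F ≃+* F} {f : (ι → F) → (ι → F) → F} {f₀ : (Fin k → F) → (Fin k → F) → F} {c : F}

/-- the rigidity statement for `t + 1` factors -/
def RigidAt (σ : F ≃+* F) (f₀ : (Fin k → F) → (Fin k → F) → F) (t : ℕ) : Prop :=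
  ∀ {ι : Type} [Fintype ι] [DecidableEq ι] (X : PS ι F k (t + 1)) (f : (ι → F) → (ι → F) → F) (c : F),
    PF X σ f f₀ c → ∀ M M', Good X f f₀ M → Good X f f₀ M' → ∀ g ∈ uiso f, (∀ x ∈ M, g * x * g⁻¹ ∈ M') →
      g ∈ W X

/-- one factor: every element lies in the wreath subgroup -/
theorem mem_W_one (X : PS ι F k 1) (g : GL ι F) : g ∈ W X := by
  classical
  have hprod : ∀ x : Fin k → F, pv X (fun _ => x) = pemb X fun a => x (a 0) := fun x => by
    rw [pv]; congr 1; funext a; simp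
  let L : (Fin k → F) →ₗ[F] (ι → F) := pemb X ∘ₗ LinearMap.funLeft F F fun a : Fin 1 → Fin k => a 0
  have hinj : Function.Injective L := fun x y hxy => by
    funext m
    have h := congrArg (fun z => act X.P⁻¹ z (X.e.symm fun _ => m)) hxy
    simpa [L, pemb, act_inv_act, LinearMap.funLeft] using h
  have hsurj : Function.Surjective L := fun z => by
    obtain ⟨y, rfl⟩ := pemb_surjective X z
    refine ⟨fun m => y fun _ => m, ?_⟩
    show pemb X _ = _
    congr 1; funext a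
    show y (fun _ => a 0) = y a
    congr 1; funext i; rw [Fin.fin_one_eq_zero i]
  let e := LinearEquiv.ofBijective L ⟨hinj, hsurj⟩
  obtain ⟨b, hb⟩ := MaxCl.exists_gl_of_injective (e.symm.toLinearMap ∘ₗ act g ∘ₗ L)
    (e.symm.injective.comp ((act_injective g).comp hinj))
  have : g = slot X 0 b := gl_ext_pv X fun xs => by
    have hxs : xs = fun _ => xs 0 := funext fun i => by rw [Fin.fin_one_eq_zero i]
    have h1 : ∀ x : Fin k → F, pv X (fun _ => x) = e x := fun x => hprod x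
    rw [slot, act_pure, hxs, show (fun i => act ((Pi.mulSingle 0 b : Fin 1 → GL (Fin k) F) i) (xs 0)) =
      fun _ => act b (xs 0) from funext fun i => by rw [Fin.fin_one_eq_zero i, Pi.mulSingle_eq_same], h1, h1,
      hb]
    show act g (e (xs 0)) = e (e.symm (act g (e (xs 0))))
    rw [LinearEquiv.apply_symm_apply]
  exact this ▸ slot_mem X 0 b

theorem rigid_zero (σ : F ≃+* F) (f₀ : (Fin k → F) → (Fin k → F) → F) : RigidAt σ f₀ 0 :=
  fun X _ _ _ _ _ _ _ g _ _ => mem_W_one X g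

/-! ### conjugation by normal forms -/

section

variable {s : ℕ} (X : PS ι F k (s + 1))

theorem normal_slot (π : Equiv.Perm (Fin (s + 1))) (a : Fin (s + 1) → GL (Fin k) F) (m : Fin (s + 1))
    (b : GL (Fin k) F) :
    perm X π * pure X a * slot X m b * (perm X π * pure X a)⁻¹ = slot X (π m) (a m * b * (a m)⁻¹) := by
  rw [mul_inv_eq_iff_eq_mul, slot, slot, mul_assoc, ← pure_mul, ← mul_assoc, pure_perm, mul_assoc, ← pure_mul]
  congr 2
  funext i
  rcases eq_or_ne i m with rfl | hi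
  · simp
  · simp [hi]

theorem top_normal (h₀ : Cfsg.Geo.IsUnitaryForm σ f₀) {π : Equiv.Perm (Fin (s + 1))}
    {a : Fin (s + 1) → GL (Fin k) F} {m : Fin (s + 1)} (ha : a m ∈ uiso f₀) {w : Fin k → F} {z : GL ι F}
    {S : (Fin (k ^ s) → F) →ₗ[F] (Fin (k ^ s) → F)} (h : IsTop (split X m) f₀ w z S) :
    ∃ A : GL (Fin (k ^ s)) F, IsTop (split X (π m)) f₀ (act (a m) w)
      (perm X π * pure X a * z * (perm X π * pure X a)⁻¹) (act A ∘ₗ S ∘ₗ act A⁻¹) := by
  refine ⟨perm (sub F k s) (restPerm m π) * pure (sub F k s) fun j => a (m.succAbove j), fun u v => ?_⟩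
  set A := perm (sub F k s) (restPerm m π) * pure (sub F k s) fun j => a (m.succAbove j) with hA
  set H := perm X π * pure X a with hH
  have h1 : ∀ β x, act H (pt (split X m) β x) = pt (split X (π m)) (act A β) (act (a m) x) :=
    fun β x => act_normal_split X m π a β x
  have h2 : act H⁻¹ (pt (split X (π m)) u v) = pt (split X m) (act A⁻¹ u) (act (a m)⁻¹ v) := act_injective H (by
    rw [act_act_inv, h1, act_act_inv, act_act_inv])
  rw [act_mul, act_mul, h2, h, map_add, map_smul, h1, h1, act_act_inv, act_act_inv]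
  congr 2
  conv_rhs => rw [← act_act_inv (a m) v, MaxCl.Unit.mem_uiso.1 ha]

/-- the conjugate of a group by a normal form -/
theorem good_conj {π : Equiv.Perm (Fin (s + 1))} {a : Fin (s + 1) → GL (Fin k) F}
    (P : PF X σ f f₀ c) (ha : ∀ m, a m ∈ uiso f₀) {M : Subgroup (GL ι F)} (G : Good X f f₀ M) :
    Good X f f₀ (M.comap (MulAut.conj (perm X π * pure X a)).toMonoidHom) := by
  have hU : perm X π * pure X a ∈ uiso f := mul_mem (P.perm_mem_uiso π) (P.pure_mem_uiso ha)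
  refine ⟨fun x hx => ?_, fun m b hb => ?_, fun m w hw0 hw z hz S hS => ?_⟩
  · have h1 : perm X π * pure X a * x * (perm X π * pure X a)⁻¹ ∈ uiso f := G.le hx
    have := mul_mem (mul_mem (inv_mem hU) h1) hU
    simpa [mul_assoc] using this
  · show perm X π * pure X a * slot X m b * (perm X π * pure X a)⁻¹ ∈ M
    rw [normal_slot]
    exact G.slot _ _ (su_conj (ha m) hb)
  · obtain ⟨A, hA⟩ := top_normal X P.h₀ (π := π) (ha m) hS
    have hw' : f₀ (act (a m) w) (act (a m) w) = 0 := by rw [MaxCl.Unit.mem_uiso.1 (ha m), hw]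
    obtain ⟨r, hr⟩ := G.top (π m) _ (fun e => hw0 (act_injective (a m) (e.trans (map_zero _).symm))) hw' _ hz _ hA
    refine ⟨r, fun u => act_injective A ?_⟩
    have := hr (act A u)
    simp only [LinearMap.comp_apply, act_inv_act] at this
    rw [this, map_smul]

theorem root_eq_slot (h₀ : Cfsg.Geo.IsUnitaryForm σ f₀) (i : Fin (s + 1)) (w : Fin k → F) (d : F) :
    root (split X i) h₀ w d = slot X i (utv h₀ w d) := gl_slot X i _

end

/-! ### the groups on the remaining factors -/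

variable {X : PS ι F k (t + 1 + 1)}

theorem gl_sub_slot (i : Fin (t + 1 + 1)) (j : Fin (t + 1)) (b : GL (Fin k) F) :
    gl (split X i) (slot (sub F k (t + 1)) j b) 1 = slot X (i.succAbove j) b := by
  rw [slot, gl_pure, slot]
  congr 1
  funext x
  rcases eq_or_ne x i with rfl | hx
  · rw [Fin.insertNth_apply_same, Pi.mulSingle_eq_of_ne (Fin.succAbove_ne x j).symm]
  · obtain ⟨l, rfl⟩ := Fin.exists_succAbove_eq hx
    rw [Fin.insertNth_apply_succAbove]
    rcases eq_or_ne l j with rfl | hl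
    · simp
    · rw [Pi.mulSingle_eq_of_ne hl, Pi.mulSingle_eq_of_ne fun e => hl (Fin.succAbove_right_injective e)]

/-- the group induced on the other factors -/
def barGroup (X : PS ι F k (t + 1 + 1)) (i : Fin (t + 1 + 1)) (σ : F ≃+* F)
    (f₀ : (Fin k → F) → (Fin k → F) → F) (M : Subgroup (GL ι F)) : Subgroup (GL (Fin (k ^ (t + 1))) F) where
  carrier := {A | A ∈ uiso (gramForm σ f₀ (t + 1)) ∧ ∃ b, gl (split X i) A b ∈ M}
  mul_mem' := fun {A B} hA hB => by
    obtain ⟨b, hb⟩ := hA.2; obtain ⟨b', hb'⟩ := hB.2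
    exact ⟨mul_mem hA.1 hB.1, b * b', by rw [← gl_mul]; exact M.mul_mem hb hb'⟩
  one_mem' := ⟨one_mem _, 1, by rw [gl_one]; exact M.one_mem⟩
  inv_mem' := fun {A} hA => by
    obtain ⟨b, hb⟩ := hA.2
    exact ⟨inv_mem hA.1, b⁻¹, by rw [← gl_inv]; exact M.inv_mem hb⟩

/-- the group of elements acting on the other factors only -/
def bareGroup (X : PS ι F k (t + 1 + 1)) (i : Fin (t + 1 + 1)) (σ : F ≃+* F)
    (f₀ : (Fin k → F) → (Fin k → F) → F) (M : Subgroup (GL ι F)) : Subgroup (GL (Fin (k ^ (t + 1))) F) where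
  carrier := {A | A ∈ uiso (gramForm σ f₀ (t + 1)) ∧ gl (split X i) A 1 ∈ M}
  mul_mem' := fun {A B} hA hB => ⟨mul_mem hA.1 hB.1, by
    rw [← one_mul (1 : GL (Fin k) F), ← gl_mul]; exact M.mul_mem hA.2 hB.2⟩
  one_mem' := ⟨one_mem _, by rw [gl_one]; exact M.one_mem⟩
  inv_mem' := fun {A} hA => ⟨inv_mem hA.1, by
    rw [← inv_one (G := GL (Fin k) F), ← gl_inv]; exact M.inv_mem hA.2⟩

variable [Fintype F] (P : PF X σ f f₀ c) {M : Subgroup (GL ι F)} (G : Good X f f₀ M)
include P G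

theorem bare_env (i : Fin (t + 1 + 1)) (j : Fin (t + 1)) :
    Env (split (sub F k (t + 1)) j) (gramForm σ f₀ (t + 1)) f₀ (bareGroup X i σ f₀ M) := by
  have CS := P.sub.toTF j
  refine ⟨fun A hA => hA.1, fun b hb => ?_, ?_⟩
  · rw [gl_slot]
    exact ⟨(P.sub.slot_mem_su j hb).1, by rw [gl_sub_slot]; exact G.slot _ b hb⟩
  intro w hw0 hw z hz S hS
  set J := i.succAbove j with hJ
  have CJ := P.toTF J
  obtain ⟨i', hi'⟩ : ∃ i', J.succAbove i' = i := Fin.exists_succAbove_eq (Fin.ne_succAbove i j)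
  have hfix : ∀ u v, f₀ v w = 0 → act (gl (split X i) z 1) (pt (split X J) u v) = pt (split X J) u v := by
    intro u v hv
    refine LinearMap.congr_fun (pv_ext (sub F k (t + 1)) (L := act (gl (split X i) z 1) ∘ₗ ptL (split X J) v)
      (L' := ptL (split X J) v) fun ys => ?_) u
    show act _ (pt _ _ v) = pt _ _ v
    rw [pt_pv, pv_split X i, act_gl_pt, act_one, pv_split (sub F k (t + 1)) j, hS]
    simp only [hJ, Fin.insertNth_apply_same, hv, zero_smul, add_zero]
  obtain ⟨S', hS'⟩ := CJ.exists_isTop hw0 hw (G.le hz.2) hfix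
  obtain ⟨m, hm⟩ := G.top J w hw0 hw _ hz.2 S' hS'
  refine ⟨m, fun β => ?_⟩
  have hze : z = slot (sub F k (t + 1)) j (utv P.h₀ w m) := by
    have e : gl (split X i) z 1 = gl (split X i) (slot (sub F k (t + 1)) j (utv P.h₀ w m)) 1 := by
      rw [gl_sub_slot, ← gl_slot]
      refine gl_ext_pt (split X J) fun u v => ?_
      rw [hS' u v, hm, act_gl_pt, act_one, MaxCl.Unit.act_utv P.h₀ hw, pt_add_right, pt_smul_left, pt_smul_right,
        smul_smul, mul_comm]
    refine gl_ext fun u => ?_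
    obtain ⟨x, hx⟩ : ∃ x : Fin k → F, x ≠ 0 := ⟨w, hw0⟩
    have e' := congrArg (fun g => act g (pt (split X i) u x)) e
    simp only [act_gl_pt, act_one] at e'
    have : pt (split X i) (act z u - act (slot (sub F k (t + 1)) j (utv P.h₀ w m)) u) x = 0 := by
      rw [MaxCl.Tens.pt_sub_left, e', sub_self]
    exact sub_eq_zero.1 (((pt_eq_zero _).1 this).resolve_right hx)
  obtain ⟨v, hv⟩ : ∃ v, f₀ v w = 1 := by
    obtain ⟨⟨x, hx⟩, -⟩ := P.h₀.nondegenerate w hw0
    exact ⟨(f₀ x w)⁻¹ • x, by rw [MaxCl.Unit.smul_left P.h₀, inv_mul_cancel₀ hx]⟩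
  have e := hS β v
  rw [hze, ← gl_slot, act_gl_pt, act_one, MaxCl.Unit.act_utv P.h₀ hw, hv, mul_one, one_smul, pt_add_right,
    pt_smul_right, ← pt_smul_left] at e
  have h2 : pt (split (sub F k (t + 1)) j) (S β - m • β) w = 0 := by
    rw [MaxCl.Tens.pt_sub_left, ← add_left_cancel e, sub_self]
  exact sub_eq_zero.1 (((pt_eq_zero _).1 h2).resolve_right hw0)

theorem bar_good (i : Fin (t + 1 + 1)) :
    Good (sub F k (t + 1)) (gramForm σ f₀ (t + 1)) f₀ (barGroup X i σ f₀ M) := by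
  refine ⟨fun A hA => hA.1, fun j b hb => ⟨(P.sub.slot_mem_su j hb).1, 1, by
    rw [gl_sub_slot]; exact G.slot _ b hb⟩, fun j w hw0 hw z hz S hS => ?_⟩
  have CS := P.sub.toTF j
  have hE := bare_env P G i j
  obtain ⟨θ, hθ0, hθ⟩ := MaxCl.Unit.exists_skew P.h₀.ne_refl P.h₀.involutive
  obtain ⟨b, hb⟩ := hz.2
  have hconj : ∀ A ∈ bareGroup X i σ f₀ M, z * A * z⁻¹ ∈ bareGroup X i σ f₀ M := by
    intro A hA
    refine ⟨mul_mem (mul_mem hz.1 hA.1) (inv_mem hz.1), ?_⟩
    have h := M.mul_mem (M.mul_mem hb hA.2) (M.inv_mem hb)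
    rwa [gl_inv, gl_mul, gl_mul, mul_one, mul_inv_cancel] at h
  have hcomm : z * root (split (sub F k (t + 1)) j) CS.h₀ w θ = root (split (sub F k (t + 1)) j) CS.h₀ w θ * z := by
    refine gl_ext_pt (split (sub F k (t + 1)) j) fun u v => ?_
    rw [act_mul, act_mul, root, act_gl_pt, act_one, hS, hS, map_add, map_smul, act_gl_pt, act_gl_pt, act_one,
      act_one, MaxCl.Unit.act_utv P.h₀ hw, MaxCl.Unit.act_utv P.h₀ hw, MaxCl.Unit.add_left P.h₀,
      MaxCl.Unit.smul_left P.h₀, hw]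
    simp
  obtain ⟨α, -, b', -, -, he⟩ := centralizer CS hE hE hz.1 hconj hw0 hw hθ0 hcomm
  obtain ⟨v, hv⟩ : ∃ v, f₀ v w = 1 := by
    obtain ⟨⟨x, hx⟩, -⟩ := P.h₀.nondegenerate w hw0
    exact ⟨(f₀ x w)⁻¹ • x, by rw [MaxCl.Unit.smul_left P.h₀, inv_mul_cancel₀ hx]⟩
  refine MaxCl.Tens.exists_scalar_of_eigen S fun u => ?_
  by_contra hu
  have hu0 : u ≠ 0 := fun e => hu (by rw [e, map_zero]; exact Submodule.zero_mem _)
  have hv0 : v ≠ 0 := fun e => by rw [e, MaxCl.Unit.zero_left P.h₀] at hv; exact zero_ne_one hv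
  have e := hS u v
  rw [hv, one_smul, he, act_gl_pt] at e
  obtain ⟨r, hr⟩ := Submodule.mem_span_singleton.1 (MaxCl.Tens.share _ e.symm hv0 hu0 hu)
  have e1 : f₀ (r • v) w = r := by rw [MaxCl.Unit.smul_left P.h₀, hv, mul_one]
  rw [hr, hw] at e1
  exact hw0 (by rw [← hr, ← e1, zero_smul])

omit G in
/-- the step of the induction -/
theorem mem_W_of_conj_root (IH : RigidAt σ f₀ t) {M' : Subgroup (GL ι F)} (GM : Good X f f₀ M)
    (GM' : Good X f f₀ M') {g : GL ι F} (hg : g ∈ uiso f) (hconj : ∀ x ∈ M, g * x * g⁻¹ ∈ M')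
    {i : Fin (t + 1 + 1)} {w : Fin k → F} (hw0 : w ≠ 0) (hw : f₀ w w = 0) {d₀ : F} (hd₀ : d₀ + σ d₀ = 0)
    (hd₀0 : d₀ ≠ 0) (h₁ : g * root (split X i) P.h₀ w d₀ * g⁻¹ ∈ W X)
    (h₃ : k = 3 → ∀ d, d + σ d = 0 → g * root (split X i) P.h₀ w d * g⁻¹ ∈ W X) :
    g ∈ W X := by
  classical
  have C := P.toTF i
  -- shapes of the conjugates
  have hy : ∀ d, d + σ d = 0 → d ≠ 0 → ∀ π a,
      g * root (split X i) P.h₀ w d * g⁻¹ = perm X π * pure X a →
      (∃ j u d', u ≠ 0 ∧ f₀ u u = 0 ∧ d' + σ d' = 0 ∧ d' ≠ 0 ∧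
        g * root (split X i) P.h₀ w d * g⁻¹ = root (split X j) P.h₀ u d') ∨ (k = 3 ∧ π.IsSwap) := by
    intro d hd hd0 π a he
    set y := g * root (split X i) P.h₀ w d * g⁻¹ with hydef
    let D : (ι → F) →ₗ[F] (ι → F) := act y - LinearMap.id
    have hD : ∀ x, D x = act g (d • pt (split X i) (MaxCl.Tens.proj (split X i) P.h₀ w (act g⁻¹ x)) w) := by
      intro x
      show act y x - x = _
      rw [hydef, act_mul, act_mul, act_root P.h₀ hw, map_add, act_act_inv]; abel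
    have hDD : ∀ x, D (D x) = 0 := by
      intro x
      rw [hD (D x), hD x, act_inv_act, map_smul (MaxCl.Tens.proj (split X i) P.h₀ w), MaxCl.Tens.proj_pt, hw,
        zero_smul, smul_zero, MaxCl.Tens.pt_zero_left, smul_zero, map_zero]
    have hq : ∀ x, act y (act y x) - (2 : F) • act y x + x = 0 := fun x => by
      have e : act y (act y x - x) - (act y x - x) = 0 := hDD x
      rw [map_sub] at e
      linear_combination (norm := module) e
    have hr : finrank F (LinearMap.range D) ≤ k ^ (t + 1) := by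
      have h1 : LinearMap.range D ≤ LinearMap.range (act g ∘ₗ ptL (split X i) w) := by
        rintro _ ⟨x, rfl⟩
        exact ⟨d • MaxCl.Tens.proj (split X i) P.h₀ w (act g⁻¹ x), by
          show act g (pt _ (d • _) w) = D x
          rw [hD, pt_smul_left]⟩
      exact (Submodule.finrank_mono h1).trans ((LinearMap.finrank_range_le _).trans_eq (Module.finrank_fin_fun F))
    have hyU : y ∈ uiso f := by
      refine mul_mem (mul_mem hg (GM.le ?_)) (inv_mem hg)
      rw [root_eq_slot]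
      exact GM.slot i _ (TF.utvGroup_le C (MaxCl.Unit.utv_mem_utvGroup P.h₀ hw hd))
    have hy1 : y ≠ 1 := by
      intro e
      rw [hydef, mul_inv_eq_one, mul_eq_left] at e
      obtain ⟨⟨x, hx⟩, -⟩ := P.h₀.nondegenerate w hw0
      obtain ⟨β, hβ⟩ : ∃ β : Fin (k ^ (t + 1)) → F, β ≠ 0 :=
        ⟨Pi.single ⟨0, C.pos⟩ 1, by simp⟩
      have := (C.root_fix_iff hw hw0 hd0 (x := pt (split X i) β x)).1 (by rw [e, act_one])
      rw [MaxCl.Tens.proj_pt, smul_eq_zero] at this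
      tauto
    rcases root_or_swap P he hyU hy1 hq hr with ⟨j, u, d', h⟩ | ⟨h3, hs, -⟩
    · exact Or.inl ⟨j, u, d', h⟩
    · exact Or.inr ⟨h3, hs⟩
  obtain ⟨d, hd, hd0, j, u, d', hu0, hu, hd', hd'0, he⟩ : ∃ d, d + σ d = 0 ∧ d ≠ 0 ∧ ∃ j u d',
      u ≠ 0 ∧ f₀ u u = 0 ∧ d' + σ d' = 0 ∧ d' ≠ 0 ∧
        g * root (split X i) P.h₀ w d * g⁻¹ = root (split X j) P.h₀ u d' := by
    obtain ⟨π, a, hπ⟩ := exists_normal X h₁
    rcases hy d₀ hd₀ hd₀0 π a hπ with ⟨j, u, d', h⟩ | ⟨h3, hs⟩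
    · exact ⟨d₀, hd₀, hd₀0, j, u, d', h⟩
    obtain ⟨x, hx, hx0, hx1⟩ := P.hex h3
    have hd₁ : (x - 1) * d₀ + σ ((x - 1) * d₀) = 0 := by
      rw [map_mul, map_sub, hx, map_one]; linear_combination (x - 1) * hd₀
    have hd₁0 : (x - 1) * d₀ ≠ 0 := mul_ne_zero (sub_ne_zero.2 hx1) hd₀0
    obtain ⟨π₁, a₁, hπ₁⟩ := exists_normal X (h₃ h3 _ hd₁)
    rcases hy _ hd₁ hd₁0 π₁ a₁ hπ₁ with ⟨j, u, d', h⟩ | ⟨-, hs₁⟩
    · exact ⟨_, hd₁, hd₁0, j, u, d', h⟩
    have hd₂ : x * d₀ + σ (x * d₀) = 0 := by rw [map_mul, hx]; linear_combination x * hd₀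
    have e2 : g * root (split X i) P.h₀ w (x * d₀) * g⁻¹ =
        perm X (π * π₁) * pure X ((fun l => a (π₁ l)) * a₁) := by
      rw [← normal_mul, ← hπ, ← hπ₁, show x * d₀ = d₀ + (x - 1) * d₀ by ring, ← MaxCl.Tens.root_mul P.h₀ hw]
      group
    rcases hy _ hd₂ (mul_ne_zero hx0 hd₀0) _ _ e2 with ⟨j, u, d', h⟩ | ⟨-, hs₂⟩
    · exact ⟨_, hd₂, mul_ne_zero hx0 hd₀0, j, u, d', h⟩
    · have e := hs₂.sign_eq
      rw [map_mul, hs.sign_eq, hs₁.sign_eq] at e
      exact absurd e (by decide)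
  -- move it back
  have ha : σ (d' / d) = d' / d := by
    rw [map_div₀, eq_neg_of_add_eq_zero_right hd, eq_neg_of_add_eq_zero_right hd', neg_div_neg_eq]
  obtain ⟨b, hb, l, hl, hbw⟩ := exists_move_norm P.h₀ hw0 hu0 hw hu P.three ha (div_ne_zero hd'0 hd0)
  have hbs := TF.utvGroup_le C hb
  set π := Equiv.swap i j with hπ
  set a : Fin (t + 1 + 1) → GL (Fin k) F := Pi.mulSingle i b with hadef
  have haU : ∀ m, a m ∈ uiso f₀ := fun m => by
    rcases eq_or_ne m i with rfl | hm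
    · rw [hadef, Pi.mulSingle_eq_same]; exact hbs.1
    · rw [hadef, Pi.mulSingle_eq_of_ne hm]; exact one_mem _
  obtain ⟨h, hh⟩ : ∃ h, h = perm X π * pure X a := ⟨_, rfl⟩
  have hW : h ∈ W X := hh ▸ mul_mem (perm_mem X _) (pure_mem X _)
  have hroot : h * root (split X i) P.h₀ w d * h⁻¹ = root (split X j) P.h₀ u d' := by
    rw [root_eq_slot, root_eq_slot, hh, normal_slot, hπ, Equiv.swap_apply_left, hadef, Pi.mulSingle_eq_same,
      MaxCl.Unit.conj_utv P.h₀ hbs.1 hw, hbw, MaxCl.Unit.utv_smul P.h₀ hu, hl, div_mul_cancel₀ _ hd0]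
  obtain ⟨g', hg'⟩ : ∃ g', g' = h⁻¹ * g := ⟨_, rfl⟩
  have hcomm : g' * root (split X i) P.h₀ w d = root (split X i) P.h₀ w d * g' := by
    rw [← mul_inv_eq_iff_eq_mul, hg', show h⁻¹ * g * root (split X i) P.h₀ w d * (h⁻¹ * g)⁻¹ =
      h⁻¹ * (g * root (split X i) P.h₀ w d * g⁻¹) * h by group, he, ← hroot]
    group
  have hM'' : Good X f f₀ (M'.comap (MulAut.conj h).toMonoidHom) := hh ▸ good_conj X P (π := π) haU GM'
  have hmem : ∀ x, x ∈ M'.comap (MulAut.conj h).toMonoidHom ↔ h * x * h⁻¹ ∈ M' := fun x => Iff.rfl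
  have hg'U : g' ∈ uiso f := by
    rw [hg', hh]; exact mul_mem (inv_mem (mul_mem (P.perm_mem_uiso π) (P.pure_mem_uiso haU))) hg
  obtain ⟨α, hα, β, -, -, hge⟩ := centralizer C (GM.env i) (hM''.env i) hg'U
    (fun x hx => by
      rw [hmem]
      rw [hg', show h * (h⁻¹ * g * x * (h⁻¹ * g)⁻¹) * h⁻¹ = g * x * g⁻¹ by group]
      exact hconj x hx) hw0 hw hd0 hcomm
  have hαW : α ∈ W (sub F k (t + 1)) :=
    IH (sub F k (t + 1)) _ 1 P.sub _ _ (bar_good P GM i) (bar_good P hM'' i) α hα fun A hA => by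
      obtain ⟨b', hb'⟩ := hA.2
      refine ⟨mul_mem (mul_mem hα hA.1) (inv_mem hα), β * b' * β⁻¹, ?_⟩
      have hc : h * (g' * gl (split X i) A b' * g'⁻¹) * h⁻¹ ∈ M' := by
        rw [hg', show h * (h⁻¹ * g * gl (split X i) A b' * (h⁻¹ * g)⁻¹) * h⁻¹ = g * gl (split X i) A b' * g⁻¹ by
          group]
        exact hconj _ hb'
      rw [hge, gl_inv, gl_mul, gl_mul] at hc
      exact (hmem _).2 hc
  have : g = h * g' := by rw [hg']; group
  rw [this, hge]
  exact mul_mem hW (gl_mem_W X i hαW β)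

end Cfsg.Agent.TPow
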