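/-
The subspaces `B ⊗ P` of a splitting at one factor, their intersections for one and for two factors.
-/
import Mathlib
import Cfsg.Agent.Lib.TPow.Ctx

set_option autoImplicit false

namespace Cfsg.Agent.TPow

open scoped MatrixGroups Matrix
open Module (finrank)
open MaxCl (act gl_ext act_mul act_one act_inv_act act_act_inv act_apply act_injective exists_dual)
open MaxCl.Unit (uiso flinU uperp)
open MaxCl.Tens (TSys pt pt_ext ptL ptR cR cR_pt proj proj_pt pt_eq_zero pt_smul_left pt_smul_right)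

variable {ι : Type} [Fintype ι] [DecidableEq ι] {F : Type*} [Field F] {N k t : ℕ}

section

variable (T : TSys ι F N k)

theorem cR_add (χ χ' : (Fin k → F) →ₗ[F] F) (x : ι → F) : cR T (χ + χ') x = cR T χ x + cR T χ' x := by
  funext i; simp [cR]

theorem cR_smul (r : F) (χ : (Fin k → F) →ₗ[F] F) (x : ι → F) : cR T (r • χ) x = r • cR T χ x := by
  funext i; simp [cR]

/-- `1 ⊗ e` -/
noncomputable def rT (e : (Fin k → F) →ₗ[F] (Fin k → F)) : (ι → F) →ₗ[F] (ι → F) :=
  ∑ j : Fin k, ptL T (e (Pi.single j 1)) ∘ₗ cR T (LinearMap.proj j)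

theorem rT_pt (e : (Fin k → F) →ₗ[F] (Fin k → F)) (u : Fin N → F) (v : Fin k → F) :
    rT T e (pt T u v) = pt T u (e v) := by
  simp only [rT, LinearMap.sum_apply, LinearMap.comp_apply, cR_pt]
  conv_rhs => rw [pi_eq_sum_univ' v, map_sum]
  rw [show pt T u (∑ j, e (v j • Pi.single j 1)) = ptR T u (∑ j, e (v j • Pi.single j 1)) from rfl, map_sum]
  refine Finset.sum_congr rfl fun j _ => ?_
  show pt T (v j • u) (e (Pi.single j 1)) = pt T u (e (v j • Pi.single j 1))
  rw [map_smul, pt_smul_left, pt_smul_right]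

theorem cR_rT (χ : (Fin k → F) →ₗ[F] F) (e : (Fin k → F) →ₗ[F] (Fin k → F)) (x : ι → F) :
    cR T χ (rT T e x) = cR T (χ ∘ₗ e) x :=
  LinearMap.congr_fun (pt_ext T (L := cR T χ ∘ₗ rT T e) (L' := cR T (χ ∘ₗ e)) fun u v => by
    simp [rT_pt, cR_pt]) x

theorem rT_comp (e e' : (Fin k → F) →ₗ[F] (Fin k → F)) (x : ι → F) :
    rT T e (rT T e' x) = rT T (e ∘ₗ e') x :=
  LinearMap.congr_fun (pt_ext T (L := rT T e ∘ₗ rT T e') (L' := rT T (e ∘ₗ e')) fun u v => by
    simp [rT_pt]) x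

/-- `B ⊗ P` -/
noncomputable def LT (P : Submodule F (Fin k → F)) : Submodule F (ι → F) where
  carrier := {x | ∀ χ : (Fin k → F) →ₗ[F] F, (∀ v ∈ P, χ v = 0) → cR T χ x = 0}
  zero_mem' := fun χ _ => map_zero _
  add_mem' := fun {x y} hx hy χ hχ => by rw [map_add, hx χ hχ, hy χ hχ, add_zero]
  smul_mem' := fun r x hx χ hχ => by rw [map_smul, hx χ hχ, smul_zero]

theorem pt_mem_LT {P : Submodule F (Fin k → F)} (u : Fin N → F) {v : Fin k → F} (hv : v ∈ P) :
    pt T u v ∈ LT T P := fun χ hχ => by rw [cR_pt, hχ v hv, zero_smul]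

theorem LT_mono {P Q : Submodule F (Fin k → F)} (h : P ≤ Q) : LT T P ≤ LT T Q :=
  fun _ hx χ hχ => hx χ fun v hv => hχ v (h hv)

theorem range_ptL_le_LT {P : Submodule F (Fin k → F)} {v : Fin k → F} (hv : v ∈ P) :
    LinearMap.range (ptL T v) ≤ LT T P := by
  rintro _ ⟨u, rfl⟩; exact pt_mem_LT T u hv

theorem eq_zero_of_LT_bot {x : ι → F} (hx : x ∈ LT T ⊥) : x = 0 :=
  MaxCl.Tens.eq_zero_of_cR T fun χ => hx χ fun v hv => by rw [(Submodule.mem_bot F).1 hv, map_zero]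

theorem rT_eq_self {P : Submodule F (Fin k → F)} {x : ι → F} (hx : x ∈ LT T P)
    {e : (Fin k → F) →ₗ[F] (Fin k → F)} (he : ∀ v ∈ P, e v = v) : rT T e x = x := by
  refine sub_eq_zero.1 (MaxCl.Tens.eq_zero_of_cR T fun χ => ?_)
  rw [map_sub, cR_rT, sub_eq_zero]
  have h := hx (χ ∘ₗ e - χ) fun v hv => by simp [he v hv]
  rw [show χ ∘ₗ e - χ = χ ∘ₗ e + (-1 : F) • χ by module, cR_add, cR_smul, neg_one_smul,
    add_neg_eq_zero] at h
  exact h

theorem mem_range_of_LT_span {v : Fin k → F} (hv : v ≠ 0) {x : ι → F} (hx : x ∈ LT T (F ∙ v)) :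
    x ∈ LinearMap.range (ptL T v) := by
  obtain ⟨χ, -, hχ⟩ := exists_dual (⊥ : Submodule F (Fin k → F)) (v := v) (by simpa using hv)
  refine ⟨cR T χ x, ?_⟩
  have h := rT_eq_self T hx (e := χ.smulRight v) fun u hu => by
    obtain ⟨r, rfl⟩ := Submodule.mem_span_singleton.1 hu
    simp [hχ]
  conv_rhs => rw [← h]
  exact (LinearMap.congr_fun (pt_ext T (L := rT T (χ.smulRight v)) (L' := ptL T v ∘ₗ cR T χ) fun u w => by
    simp only [LinearMap.comp_apply, rT_pt, cR_pt, LinearMap.smulRight_apply, MaxCl.Tens.ptL_apply, pt_smul_left,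
      pt_smul_right]) x).symm

theorem LT_inf {P Q : Submodule F (Fin k → F)} : LT T P ⊓ LT T Q ≤ LT T (P ⊓ Q) := by
  rintro x ⟨hP, hQ⟩ χ hχ
  have h : χ ∈ (P ⊓ Q).dualAnnihilator := (Submodule.mem_dualAnnihilator χ).2 hχ
  rw [Subspace.dualAnnihilator_inf_eq, Submodule.mem_sup] at h
  obtain ⟨χ₁, h1, χ₂, h2, rfl⟩ := h
  rw [cR_add, hP χ₁ ((Submodule.mem_dualAnnihilator _).1 h1), hQ χ₂ ((Submodule.mem_dualAnnihilator _).1 h2),
    add_zero]

theorem finrank_range_ptL {v : Fin k → F} (hv : v ≠ 0) : finrank F (LinearMap.range (ptL T v)) = N := by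
  rw [LinearMap.finrank_range_of_inj, Module.finrank_fin_fun]
  exact (injective_iff_map_eq_zero _).2 fun u hu => ((pt_eq_zero T).1 hu).resolve_right hv

theorem range_inf_eq_bot {v v' : Fin k → F} (hv' : v' ∉ F ∙ v) :
    LinearMap.range (ptL T v) ⊓ LinearMap.range (ptL T v') = ⊥ := by
  refine eq_bot_iff.2 fun x hx => ?_
  obtain ⟨⟨u, rfl⟩, u', hu'⟩ := hx
  rw [Submodule.mem_bot]
  rcases eq_or_ne u' 0 with rfl | h
  · rw [← hu', map_zero]
  · exact absurd (MaxCl.Tens.mem_span_of_pt_eq T hu' h) hv'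

variable {σ : F ≃+* F} {f : (ι → F) → (ι → F) → F}
variable {fB : (Fin N → F) → (Fin N → F) → F} {f₀ : (Fin k → F) → (Fin k → F) → F} {c : F}

variable {T}

/-- the orthogonal space of `B ⊗ w` -/
theorem TF.uperp_range (C : TF T σ f fB f₀ c) (w : Fin k → F) :
    uperp C.hU (LinearMap.range (ptL T w)) = LinearMap.ker (proj T C.h₀ w) := by
  ext x
  constructor
  · intro hx
    by_contra hne
    obtain ⟨z, hz⟩ := (C.hB.nondegenerate _ hne).2
    have h := hx _ (LinearMap.mem_range_self (ptL T w) z)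
    rw [MaxCl.Tens.ptL_apply, C.form_right, mul_eq_zero] at h
    exact hz (h.resolve_left C.c_ne)
  · rintro hx _ ⟨u, rfl⟩
    rw [MaxCl.Tens.ptL_apply, C.form_right, LinearMap.mem_ker.1 hx, MaxCl.Unit.zero_left C.hB, mul_zero]

theorem TF.proj_eq_zero_of_LT (C : TF T σ f fB f₀ c) {P : Submodule F (Fin k → F)} {p : Fin k → F}
    (hp : ∀ v ∈ P, f₀ v p = 0) {x : ι → F} (hx : x ∈ LT T P) : x ∈ LinearMap.ker (proj T C.h₀ p) :=
  LinearMap.mem_ker.2 (hx _ hp)

end

/-! ### two factors -/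

variable (X : PS ι F k (t + 1 + 1)) {i i' : Fin (t + 1 + 1)} {j j' : Fin (t + 1)}

theorem pt_pt_swap (hj : i.succAbove j = i') (hj' : i'.succAbove j' = i) (δ : Fin (k ^ t) → F)
    (a b : Fin k → F) :
    pt (split X i') (pt (split (sub F k (t + 1)) j') δ b) a =
      pt (split X i) (pt (split (sub F k (t + 1)) j) δ a) b := by
  refine LinearMap.congr_fun (pv_ext (sub F k t)
    (L := MaxCl.Tens.ptL (split X i') a ∘ₗ MaxCl.Tens.ptL (split (sub F k (t + 1)) j') b)
    (L' := MaxCl.Tens.ptL (split X i) b ∘ₗ MaxCl.Tens.ptL (split (sub F k (t + 1)) j) a) fun zs => ?_) δ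
  show pt _ (pt _ _ b) a = pt _ (pt _ _ a) b
  rw [pt_pv, pt_pv, pt_pv, pt_pv]
  congr 1
  funext m
  rcases eq_or_ne m i with rfl | hm
  · conv_lhs => rw [← hj', Fin.insertNth_apply_succAbove, Fin.insertNth_apply_same]
    rw [Fin.insertNth_apply_same]
  obtain ⟨l, rfl⟩ := Fin.exists_succAbove_eq hm
  rw [Fin.insertNth_apply_succAbove]
  rcases eq_or_ne l j with rfl | hl
  · rw [Fin.insertNth_apply_same, hj, Fin.insertNth_apply_same]
  obtain ⟨p, rfl⟩ := Fin.exists_succAbove_eq hl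
  rw [Fin.insertNth_apply_succAbove]
  have h1 : i.succAbove (j.succAbove p) = i'.succAbove (j'.succAbove p) := by
    subst hj
    rw [Fin.succAbove_right_injective (hj'.trans (Fin.succAbove_succAbove_predAbove i j).symm),
      Fin.succAbove_succAbove_succAbove_predAbove]
  rw [h1, Fin.insertNth_apply_succAbove, Fin.insertNth_apply_succAbove]

theorem cR_ptL (hj : i.succAbove j = i') (hj' : i'.succAbove j' = i) (χ : (Fin k → F) →ₗ[F] F) (v : Fin k → F)
    (γ : Fin (k ^ (t + 1)) → F) :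
    cR (split X i) χ (pt (split X i') γ v) =
      pt (split (sub F k (t + 1)) j) (cR (split (sub F k (t + 1)) j') χ γ) v :=
  LinearMap.congr_fun (pt_ext (split (sub F k (t + 1)) j')
    (L := cR (split X i) χ ∘ₗ ptL (split X i') v)
    (L' := ptL (split (sub F k (t + 1)) j) v ∘ₗ cR (split (sub F k (t + 1)) j') χ) fun δ b => by
    show cR _ χ (pt _ _ v) = pt _ (cR _ χ (pt _ δ b)) v
    rw [pt_pt_swap X hj hj', cR_pt, cR_pt, pt_smul_left]) γ

theorem exists_succ_pair (h : i ≠ i') : ∃ j j', i.succAbove j = i' ∧ i'.succAbove j' = i := by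
  obtain ⟨j, hj⟩ := Fin.exists_succAbove_eq h.symm
  obtain ⟨j', hj'⟩ := Fin.exists_succAbove_eq h
  exact ⟨j, j', hj, hj'⟩

/-- two factors: the common part has dimension at most `k ^ t` -/
theorem finrank_range_inf (h : i ≠ i') {z v : Fin k → F} (hz : z ≠ 0) (hv : v ≠ 0) :
    finrank F ↥(LinearMap.range (ptL (split X i) z) ⊓ LinearMap.range (ptL (split X i') v)) ≤ k ^ t := by
  obtain ⟨j, j', hj, hj'⟩ := exists_succ_pair h
  obtain ⟨χ, -, hχ⟩ := exists_dual (⊥ : Submodule F (Fin k → F)) (v := z) (by simpa using hz)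
  set S := LinearMap.range (ptL (split X i) z) ⊓ LinearMap.range (ptL (split X i') v) with hS
  let φ : S →ₗ[F] (Fin (k ^ (t + 1)) → F) := cR (split X i) χ ∘ₗ S.subtype
  have hinj : Function.Injective φ := (injective_iff_map_eq_zero _).2 fun x hx => by
    obtain ⟨β, hβ⟩ := x.2.1
    change cR (split X i) χ (x : ι → F) = 0 at hx
    rw [← hβ, MaxCl.Tens.ptL_apply, cR_pt, hχ, one_smul] at hx
    exact Subtype.ext (by rw [← hβ, hx, map_zero]; rfl)
  rw [← LinearMap.finrank_range_of_inj hinj, ← finrank_range_ptL (split (sub F k (t + 1)) j) hv]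
  refine Submodule.finrank_mono ?_
  rintro _ ⟨x, rfl⟩
  obtain ⟨γ, hγ⟩ := x.2.2
  refine ⟨cR (split (sub F k (t + 1)) j') χ γ, ?_⟩
  show pt _ _ v = cR (split X i) χ (x : ι → F)
  rw [← hγ, MaxCl.Tens.ptL_apply, cR_ptL X hj hj']

variable {σ : F ≃+* F} {f₀ : (Fin k → F) → (Fin k → F) → F}

/-- two factors: `B ⊗ v` meets the kernel of a contraction in codimension at most `k ^ t` -/
theorem le_finrank_range_inf_ker (h₀ : Cfsg.Geo.IsUnitaryForm σ f₀) (h : i ≠ i') {z v : Fin k → F} (hv : v ≠ 0) :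
    k ^ (t + 1) ≤ k ^ t +
      finrank F ↥(LinearMap.range (ptL (split X i') v) ⊓ LinearMap.ker (proj (split X i) h₀ z)) := by
  obtain ⟨j, j', hj, hj'⟩ := exists_succ_pair h
  let ψ : (Fin (k ^ (t + 1)) → F) →ₗ[F] (Fin (k ^ t) → F) := cR (split (sub F k (t + 1)) j') (flinU h₀ z)
  have h1 := LinearMap.finrank_range_add_finrank_ker ψ
  have h2 := Submodule.finrank_le (LinearMap.range ψ)
  rw [Module.finrank_fin_fun] at h1 h2
  have hinj : Function.Injective (ptL (split X i') v) :=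
    (injective_iff_map_eq_zero _).2 fun u hu => ((pt_eq_zero _).1 hu).resolve_right hv
  have h3 : (LinearMap.ker ψ).map (ptL (split X i') v) ≤
      LinearMap.range (ptL (split X i') v) ⊓ LinearMap.ker (proj (split X i) h₀ z) := by
    rintro _ ⟨γ, hγ, rfl⟩
    refine ⟨LinearMap.mem_range_self _ _, LinearMap.mem_ker.2 ?_⟩
    show cR _ _ (pt _ γ v) = 0
    rw [cR_ptL X hj hj', LinearMap.mem_ker.1 hγ, MaxCl.Tens.pt_zero_left]
  have h4 := Submodule.finrank_mono h3
  rw [← (Submodule.equivMapOfInjective _ hinj (LinearMap.ker ψ)).finrank_eq] at h4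
  omega

end Cfsg.Agent.TPow
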