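/-
Factors of dimension at least four: a group of isometries containing the special unitary group of each factor with
scalar top elements consists of elements of the wreath subgroup. The image `D` of `B ⊗ w` under an element outside
would meet no `K_z`, and then the image of `B ⊗ P` for a totally isotropic plane `P` forces a spread of planes.
-/
import Mathlib
import Cfsg.Agent.Lib.TPow.Rigid
import Cfsg.Agent.Lib.TPow.Subspaces
import Cfsg.Agent.Lib.MaxCl.FixedRootCore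

set_option autoImplicit false

namespace Cfsg.Agent.TPow

open scoped MatrixGroups Matrix
open Module (finrank)
open MaxCl (act gl_ext act_mul act_one act_inv_act act_act_inv act_apply act_injective exists_dual)
open MaxCl.Unit (uiso flinU utv uperp)
open MaxCl.Tens (pt gl gl_one ptL ptL_apply cR proj proj_pt root act_root pt_eq_zero)

variable {ι : Type} [Fintype ι] [DecidableEq ι] {F : Type*} [Field F] {k t : ℕ}
variable {σ : F ≃+* F} {f : (ι → F) → (ι → F) → F} {f₀ : (Fin k → F) → (Fin k → F) → F} {c : F}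

theorem rT_eq_zero {N : ℕ} (T : MaxCl.Tens.TSys ι F N k) {P : Submodule F (Fin k → F)} {x : ι → F}
    (hx : x ∈ LT T P) {e : (Fin k → F) →ₗ[F] (Fin k → F)} (he : ∀ v ∈ P, e v = 0) : rT T e x = 0 :=
  MaxCl.Tens.eq_zero_of_cR T fun χ => by
    rw [cR_rT]; exact hx _ fun v hv => by simp [he v hv]

variable [Fintype F]

/-- an isotropic vector orthogonal to two given ones -/
theorem exists_iso_perp_two (h₀ : Cfsg.Geo.IsUnitaryForm σ f₀) (hk : 4 ≤ k) (a b : Fin k → F) :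
    ∃ p, p ≠ 0 ∧ f₀ p p = 0 ∧ f₀ a p = 0 ∧ f₀ b p = 0 := by
  classical
  set P := Submodule.span F ({a, b} : Set (Fin k → F)) with hP
  have hPdim : finrank F P ≤ 2 := by
    refine (finrank_span_le_card ({a, b} : Set (Fin k → F))).trans ?_
    simp only [Set.toFinset_insert, Set.toFinset_singleton]
    exact Finset.card_le_two
  have h1 := MaxCl.Unit.finrank_uperp_ge h₀ P
  rw [Fintype.card_fin] at h1
  obtain ⟨x, hx, hx0⟩ := Submodule.exists_mem_ne_zero_of_ne_bot (p := uperp h₀ P) fun e => by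
    rw [e, finrank_bot] at h1; omega
  obtain ⟨y, hy, hyx⟩ := SetLike.not_le_iff_exists.1 (show ¬ uperp h₀ P ≤ F ∙ x by
    intro h; have := Submodule.finrank_mono h; rw [finrank_span_singleton hx0] at this; omega)
  obtain ⟨r, s, hrs, hiso⟩ := MaxCl.Unit.exists_isotropic_pair h₀ x y
  have hmem : r • x + s • y ∈ uperp h₀ P := add_mem (Submodule.smul_mem _ _ hx) (Submodule.smul_mem _ _ hy)
  refine ⟨_, ?_, hiso, MaxCl.Unit.eq_zero_symm h₀ (hmem a (Submodule.subset_span (by simp))),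
    MaxCl.Unit.eq_zero_symm h₀ (hmem b (Submodule.subset_span (by simp)))⟩
  intro e
  rcases eq_or_ne s 0 with rfl | hs
  · rw [zero_smul, add_zero, smul_eq_zero, or_iff_left hx0] at e
    exact (hrs.resolve_right (by simp)) e
  · exact hyx (Submodule.mem_span_singleton.2 ⟨-(s⁻¹ * r), by
      rw [neg_smul, mul_smul, eq_neg_of_add_eq_zero_left e, smul_neg, neg_neg, inv_smul_smul₀ hs]⟩)

/-- a subspace containing every isotropic vector is everything -/
theorem top_le_of_iso (h₀ : Cfsg.Geo.IsUnitaryForm σ f₀) (hk : 2 ≤ k) {Y : Submodule F (Fin k → F)}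
    (h : ∀ p, f₀ p p = 0 → p ∈ Y) : ⊤ ≤ Y := by
  have hTop : Cfsg.Geo.IsNondegenerateOn f₀ (⊤ : Submodule F (Fin k → F)) := fun v _ hv => by
    obtain ⟨⟨a, ha⟩, ⟨b, hb⟩⟩ := h₀.nondegenerate v hv
    exact ⟨⟨a, trivial, ha⟩, ⟨b, trivial, hb⟩⟩
  intro v _
  have := MaxCl.Unit.mem_span_iso h₀ hTop (by rw [finrank_top, Module.finrank_fin_fun]; exact hk)
    (Submodule.mem_top (x := v))
  exact Submodule.span_le.2 (fun p hp => h p hp.2) this

variable {X : PS ι F k (t + 1 + 1)} (P : PF X σ f f₀ c) {M : Subgroup (GL ι F)}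
include P

/-- an element outside the wreath subgroup moves `B ⊗ w` into no `K_z` -/
theorem not_le_ker (G : Good X f f₀ M) (IH : RigidAt σ f₀ t) {g : GL ι F} (hg : g ∈ M)
    (hgW : g ∉ W X) {i₀ : Fin (t + 1 + 1)} {w : Fin k → F} (hw0 : w ≠ 0) (hw : f₀ w w = 0)
    {j : Fin (t + 1 + 1)} {z : Fin k → F} (hz0 : z ≠ 0) (hz : f₀ z z = 0)
    (hD : ∀ u, proj (split X j) P.h₀ z (act g (pt (split X i₀) u w)) = 0) : False := by
  have C := P.toTF i₀
  have Cj := P.toTF j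
  obtain ⟨θ₀, hθ₀0, hθ₀⟩ := MaxCl.Unit.exists_skew P.h₀.ne_refl P.h₀.involutive
  suffices hall : ∀ θ, θ + σ θ = 0 → θ ≠ 0 → g * root (split X i₀) P.h₀ w θ * g⁻¹ ∈ W X by
    refine hgW (mem_W_of_conj_root P IH G G (G.le hg)
      (fun x hx => M.mul_mem (M.mul_mem hg hx) (M.inv_mem hg)) hw0 hw hθ₀ hθ₀0 (hall _ hθ₀ hθ₀0)
      fun _ e he => ?_)
    rcases eq_or_ne e 0 with rfl | he0
    · rw [root, MaxCl.Unit.utv_zero, gl_one, mul_one, mul_inv_cancel]; exact one_mem _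
    · exact hall e he he0
  intro θ hθ hθ0
  obtain ⟨s, hs⟩ : ∃ s, s = g * root (split X i₀) P.h₀ w θ * g⁻¹ := ⟨_, rfl⟩
  have hsM : s ∈ M := hs ▸ M.mul_mem (M.mul_mem hg (C.root_mem (G.env i₀) hw hθ)) (M.inv_mem hg)
  have hsx : ∀ x, act s x = x + act g (θ • pt (split X i₀) (proj (split X i₀) P.h₀ w (act g⁻¹ x)) w) := fun x => by
    rw [hs, act_mul, act_mul, act_root P.h₀ hw, map_add, act_act_inv]
  have hfix : ∀ β, act s (pt (split X j) β z) = pt (split X j) β z := by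
    intro β
    have h0 : proj (split X i₀) P.h₀ w (act g⁻¹ (pt (split X j) β z)) = 0 := by
      by_contra hne
      obtain ⟨u, hu⟩ := (C.hB.nondegenerate _ hne).2
      have e : f (act g⁻¹ (pt (split X j) β z)) (pt (split X i₀) u w) = 0 := by
        rw [← MaxCl.Unit.mem_uiso.1 (G.le hg), act_act_inv, MaxCl.Unit.eq_zero_symm P.hU]
        rw [Cj.form_right, hD, MaxCl.Unit.zero_left Cj.hB, mul_zero]
      rw [C.form_right, mul_eq_zero] at e
      exact hu (e.resolve_left C.c_ne)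
    rw [hsx, h0, MaxCl.Tens.pt_zero_left, smul_zero, map_zero, add_zero]
  have hcomm : ∀ e, s * root (split X j) P.h₀ z e * s⁻¹ = root (split X j) P.h₀ z e := fun e => by
    rw [mul_inv_eq_iff_eq_mul]
    refine gl_ext fun x => ?_
    have h1 : proj (split X j) P.h₀ z (act s x) = proj (split X j) P.h₀ z x := by
      rw [hsx, map_smul, map_add, map_smul, hD, smul_zero, add_zero]
    rw [act_mul, act_mul, act_root P.h₀ hz, act_root P.h₀ hz, map_add, map_smul, hfix, h1]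
  have hW : ∀ e, s * root (split X j) P.h₀ z e * s⁻¹ ∈ W X := fun e => by
    rw [hcomm, root_eq_slot]; exact slot_mem X _ _
  have hsW : s ∈ W X := mem_W_of_conj_root P IH G G (G.le hsM)
    (fun x hx => M.mul_mem (M.mul_mem hsM hx) (M.inv_mem hsM)) hz0 hz hθ hθ0 (hW θ) fun _ e _ => hW e
  exact hs ▸ hsW

/-- an element of `M` in the wreath subgroup agreeing with `g⁻¹` on `K_z ⊓ g K_w` -/
theorem exists_agree (G : Good X f f₀ M) (IH : RigidAt σ f₀ t) (hk : 4 ≤ k) {g : GL ι F} (hg : g ∈ M)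
    {i₀ : Fin (t + 1 + 1)} {w : Fin k → F} (hw0 : w ≠ 0) (hw : f₀ w w = 0)
    {i : Fin (t + 1 + 1)} {z : Fin k → F} (hz0 : z ≠ 0) (hz : f₀ z z = 0) :
    ∃ π a, perm X π * pure X a ∈ M ∧ ∀ x, proj (split X i) P.h₀ z x = 0 →
      proj (split X i₀) P.h₀ w (act g⁻¹ x) = 0 → act (perm X π * pure X a) x = act g⁻¹ x := by
  classical
  obtain ⟨θ, hθ0, hθ⟩ := MaxCl.Unit.exists_skew P.h₀.ne_refl P.h₀.involutive
  obtain ⟨p, hpC⟩ := CharP.exists F
  haveI := hpC
  haveI : Fact p.Prime := ⟨CharP.char_is_prime F p⟩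
  let R : Set (GL ι F) := {r | ∃ j v d, v ≠ 0 ∧ f₀ v v = 0 ∧ d + σ d = 0 ∧ d ≠ 0 ∧
    r = root (split X j) P.h₀ v d}
  let K : Subgroup (GL ι F) :=
    { carrier := {y | ∀ x, proj (split X i) P.h₀ z x = 0 → proj (split X i₀) P.h₀ w (act g⁻¹ x) = 0 → act y x = x}
      mul_mem' := fun {a b} ha hb x h1 h2 => by rw [act_mul, hb x h1 h2, ha x h1 h2]
      one_mem' := fun x _ _ => act_one x
      inv_mem' := fun {a} ha x h1 h2 => by conv_lhs => rw [← ha x h1 h2, act_inv_act] }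
  have hmem : ∀ j v d, f₀ v v = 0 → d + σ d = 0 → root (split X j) P.h₀ v d ∈ W X ⊓ M := fun j v d hv hd =>
    ⟨by rw [root_eq_slot]; exact slot_mem X _ _, (P.toTF j).root_mem (G.env j) hv hd⟩
  obtain ⟨h, hh, hhK⟩ := MaxCl.exists_mem_orbit_of_rigid (p := p) (M := M) (H := W X ⊓ M) inf_le_right R
    (by rintro _ ⟨j, v, d, -, hv, hd, -, rfl⟩; exact hmem j v d hv hd)
    (by
      rintro _ ⟨j, v, d, -, hv, -, -, rfl⟩
      refine ⟨1, ?_⟩
      rw [pow_one, MaxCl.Tens.root_pow P.h₀ hv, CharP.cast_eq_zero, zero_mul, root, MaxCl.Unit.utv_zero, gl_one])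
    (by
      rintro y hy _ ⟨j, v, d, hv0, hv, hd, hd0, rfl⟩ hyr
      exact ⟨mem_W_of_conj_root P IH G G (G.le hy) (fun x hx => M.mul_mem (M.mul_mem hy hx) (M.inv_mem hy))
        hv0 hv hd hd0 hyr.1 fun h3 => absurd h3 (by omega), hy⟩)
    K (g := g⁻¹) (r := root (split X i) P.h₀ z θ) (r' := root (split X i₀) P.h₀ w θ) (M.inv_mem hg)
    ⟨i, z, θ, hz0, hz, hθ, hθ0, rfl⟩ ⟨i₀, w, θ, hw0, hw, hθ, hθ0, rfl⟩
    (fun x h1 _ => ((P.toTF i).root_fix_iff hz hz0 hθ0).2 h1)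
    (fun x _ h2 => by
      rw [act_mul, act_mul, ((P.toTF i₀).root_fix_iff hw hw0 hθ0).2 h2, inv_inv, act_act_inv])
  obtain ⟨π, a, rfl⟩ := exists_normal X hh.1
  refine ⟨π, a, hh.2, fun x h1 h2 => act_injective (perm X π * pure X a)⁻¹ ?_⟩
  rw [act_inv_act]
  have := hhK x h1 h2
  rw [act_mul] at this
  exact this.symm

omit [Fintype F] in
/-- the factors of an isometric normal form are similitudes -/
theorem similitude_of_mem {π : Equiv.Perm (Fin (t + 1 + 1))} {a : Fin (t + 1 + 1) → GL (Fin k) F}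
    (h : perm X π * pure X a ∈ uiso f) (m : Fin (t + 1 + 1)) :
    ∃ κ : F, κ ≠ 0 ∧ ∀ x y, f₀ x y = κ * f₀ (act (a m) x) (act (a m) y) := by
  have C := P.toTF m
  have C' := P.toTF (π m)
  obtain ⟨u, u', hu⟩ := MaxCl.Tens.exists_ne_two C.hB C.pos
  obtain ⟨x₀, y₀, h0⟩ := MaxCl.Tens.exists_ne_two P.h₀ (by have := P.three; omega)
  obtain ⟨A, hA⟩ : ∃ A, A = perm (sub F k (t + 1)) (restPerm m π) *
    pure (sub F k (t + 1)) fun j => a (m.succAbove j) := ⟨_, rfl⟩
  have key : ∀ x y, f₀ x y = gramForm σ f₀ (t + 1) (act A u) (act A u') / gramForm σ f₀ (t + 1) u u' *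
      f₀ (act (a m) x) (act (a m) y) := fun x y => by
    have e := MaxCl.Unit.mem_uiso.1 h (pt (split X m) u x) (pt (split X m) u' y)
    rw [act_normal_split, act_normal_split, ← hA, C.form, C'.form] at e
    rw [div_mul_eq_mul_div, eq_div_iff hu, mul_left_cancel₀ P.c_ne e, mul_comm]
  refine ⟨_, fun e => ?_, key⟩
  rw [key, e, zero_mul] at h0
  exact h0 rfl

/-- groups with scalar top elements lie in the wreath subgroup -/
theorem le_W_of_four (G : Good X f f₀ M) (IH : RigidAt σ f₀ t) (hk : 4 ≤ k) : M ≤ W X := by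
  classical
  intro g hg
  by_contra hgW
  set N := k ^ (t + 1) with hN
  have hC : k ^ t * k = N := (pow_succ k t).symm
  have hpos : 0 < k ^ t := Nat.pow_pos (by omega)
  have hN0 : 0 < N := Nat.pow_pos (by omega)
  obtain ⟨i₀, w, hw0, hw⟩ : ∃ (_ : Fin (t + 1 + 1)) (w : Fin k → F), w ≠ 0 ∧ f₀ w w = 0 := by
    obtain ⟨w, hw0, hw, -, -⟩ := exists_iso_perp_two P.h₀ hk 0 0
    exact ⟨0, w, hw0, hw⟩
  have C := P.toTF i₀
  have hgU := G.le hg
  have hι : Fintype.card ι = N * k := by simpa using Fintype.card_congr (split X i₀).e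
  obtain ⟨D, hDdef⟩ : ∃ D, D = (LinearMap.range (ptL (split X i₀) w)).map (act g) := ⟨_, rfl⟩
  have hDdim : finrank F D = N := by
    rw [hDdef, ← (Submodule.equivMapOfInjective _ (act_injective g) _).finrank_eq, finrank_range_ptL _ hw0]
  have hDperp : uperp P.hU D = (LinearMap.ker (proj (split X i₀) P.h₀ w)).map (act g) := by
    rw [hDdef, ← C.uperp_range w, MaxCl.Unit.map_uperp P.hU hgU]
  -- `D` lies in no `K_z`
  have hA : ∀ j z, z ≠ 0 → f₀ z z = 0 → ¬ D ≤ LinearMap.ker (proj (split X j) P.h₀ z) := fun j z hz0 hz hle =>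
    not_le_ker P G IH hg hgW hw0 hw hz0 hz fun u => LinearMap.mem_ker.1
      (hle (hDdef ▸ Submodule.mem_map_of_mem (LinearMap.mem_range_self _ u)))
  -- the agreeing elements
  have horb : ∀ i z, z ≠ 0 → f₀ z z = 0 → ∃ i' v, v ≠ 0 ∧ f₀ v v = 0 ∧
      LinearMap.range (ptL (split X i') v) ≤ LinearMap.range (ptL (split X i) z) ⊔ D ∧
      D ⊓ LinearMap.ker (proj (split X i) P.h₀ z) ≤ LinearMap.range (ptL (split X i') v) ∧
      ∃ π a, perm X π * pure X a ∈ uiso f ∧ π i' = i₀ ∧ act (a i') v = w ∧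
        ∀ x, proj (split X i) P.h₀ z x = 0 → proj (split X i₀) P.h₀ w (act g⁻¹ x) = 0 →
          act (perm X π * pure X a) x = act g⁻¹ x := by
    intro i z hz0 hz
    obtain ⟨π, a, hM, hag⟩ := exists_agree P G IH hk hg (i₀ := i₀) hw0 hw (i := i) hz0 hz
    obtain ⟨i', hi'⟩ : ∃ i', π i' = i₀ := ⟨π.symm i₀, π.apply_symm_apply i₀⟩
    obtain ⟨v, hv⟩ : ∃ v, act (a i') v = w := ⟨act (a i')⁻¹ w, act_act_inv _ _⟩
    obtain ⟨κ, hκ, hsim⟩ := similitude_of_mem P (G.le hM) i'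
    have hv0 : v ≠ 0 := fun e => hw0 (by rw [← hv, e, map_zero])
    have hvv : f₀ v v = 0 := by rw [hsim, hv, hw, mul_zero]
    obtain ⟨A, hAdef⟩ : ∃ A, A = perm (sub F k (t + 1)) (restPerm i' π) *
      pure (sub F k (t + 1)) fun j => a (i'.succAbove j) := ⟨_, rfl⟩
    have himg : ∀ β, act (perm X π * pure X a) (pt (split X i') β v) = pt (split X i₀) (act A β) w := fun β => by
      rw [act_normal_split, hi', hv, ← hAdef]
    refine ⟨i', v, hv0, hvv, ?_, ?_, π, a, G.le hM, hi', hv, hag⟩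
    · have hS : uperp P.hU (LinearMap.range (ptL (split X i) z) ⊔ D) ≤
          uperp P.hU (LinearMap.range (ptL (split X i') v)) := by
        intro x hx
        have h1 : x ∈ LinearMap.ker (proj (split X i) P.h₀ z) := by
          rw [← (P.toTF i).uperp_range z]; exact fun y hy => hx y (Submodule.mem_sup_left hy)
        have h2 : x ∈ (LinearMap.ker (proj (split X i₀) P.h₀ w)).map (act g) := by
          rw [← hDperp]; exact fun y hy => hx y (Submodule.mem_sup_right hy)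
        obtain ⟨y, hy, rfl⟩ := h2
        have e := hag _ (LinearMap.mem_ker.1 h1) (by rw [act_inv_act]; exact LinearMap.mem_ker.1 hy)
        rw [act_inv_act] at e
        rintro _ ⟨β, rfl⟩
        rw [ptL_apply, ← MaxCl.Unit.mem_uiso.1 (G.le hM), e, himg, C.form_right, LinearMap.mem_ker.1 hy,
          MaxCl.Unit.zero_left C.hB, mul_zero]
      intro x hx
      rw [← MaxCl.Unit.uperp_uperp P.hU (LinearMap.range (ptL (split X i) z) ⊔ D)]
      exact fun y hy => MaxCl.Unit.eq_zero_symm P.hU (hS hy x hx)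
    · rintro x ⟨hxD, hxK⟩
      rw [SetLike.mem_coe, hDdef] at hxD
      obtain ⟨_, ⟨β, rfl⟩, rfl⟩ := hxD
      have e := hag _ (LinearMap.mem_ker.1 hxK) (by rw [act_inv_act, ptL_apply, proj_pt, hw, zero_smul])
      rw [act_inv_act] at e
      refine ⟨act A⁻¹ β, act_injective (perm X π * pure X a) ?_⟩
      rw [e, ptL_apply, himg, act_act_inv]; rfl
  -- the agreeing element fixes the factor and the line
  have hsame : ∀ i z, z ≠ 0 → f₀ z z = 0 → D ⊓ LinearMap.ker (proj (split X i) P.h₀ z) ≤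
      LinearMap.range (ptL (split X i) z) ∧ ∃ π a, perm X π * pure X a ∈ uiso f ∧ π i = i₀ ∧
        (∃ r : F, r • act (a i) z = w) ∧
        ∀ x, proj (split X i) P.h₀ z x = 0 → proj (split X i₀) P.h₀ w (act g⁻¹ x) = 0 →
          act (perm X π * pure X a) x = act g⁻¹ x := by
    have hplane : ∀ i z v, z ≠ 0 → f₀ z z = 0 → v ∉ F ∙ z →
        LinearMap.range (ptL (split X i) v) ≤ LinearMap.range (ptL (split X i) z) ⊔ D → False := by
      intro i z v hz0 hz hv hle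
      have hv0 : v ≠ 0 := fun e => hv (by rw [e]; exact Submodule.zero_mem _)
      have h2 : LinearMap.range (ptL (split X i) z) ⊔ LinearMap.range (ptL (split X i) v) =
          LinearMap.range (ptL (split X i) z) ⊔ D := by
        refine Submodule.eq_of_le_of_finrank_le (sup_le le_sup_left hle) ?_
        have e := Submodule.finrank_sup_add_finrank_inf_eq (LinearMap.range (ptL (split X i) z))
          (LinearMap.range (ptL (split X i) v))
        rw [range_inf_eq_bot _ hv, finrank_bot, finrank_range_ptL _ hz0, finrank_range_ptL _ hv0] at e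
        have e' := Submodule.finrank_add_le_finrank_add_finrank (LinearMap.range (ptL (split X i) z)) D
        rw [finrank_range_ptL _ hz0, hDdim] at e'
        omega
      obtain ⟨p, hp0, hp, hzp, hvp⟩ := exists_iso_perp_two P.h₀ hk z v
      refine hA i p hp0 hp ((le_sup_right.trans h2.ge).trans (sup_le ?_ ?_))
      · exact fun x hx => TF.proj_eq_zero_of_LT (P.toTF i) (P := F ∙ z) (fun y hy => by
          obtain ⟨r, rfl⟩ := Submodule.mem_span_singleton.1 hy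
          rw [MaxCl.Unit.smul_left P.h₀, hzp, mul_zero])
          (range_ptL_le_LT _ (Submodule.mem_span_singleton_self z) hx)
      · exact fun x hx => TF.proj_eq_zero_of_LT (P.toTF i) (P := F ∙ v) (fun y hy => by
          obtain ⟨r, rfl⟩ := Submodule.mem_span_singleton.1 hy
          rw [MaxCl.Unit.smul_left P.h₀, hvp, mul_zero])
          (range_ptL_le_LT _ (Submodule.mem_span_singleton_self v) hx)
    intro i z hz0 hz
    obtain ⟨i', v, hv0, hv, hle, hL, π, a, hU, hπ, hav, hag⟩ := horb i z hz0 hz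
    by_cases hi : i' = i
    · subst hi
      by_cases hvz : v ∈ F ∙ z
      · obtain ⟨r, rfl⟩ := Submodule.mem_span_singleton.1 hvz
        refine ⟨hL.trans ?_, π, a, hU, hπ, ⟨r, by rw [← map_smul, hav]⟩, hag⟩
        rintro _ ⟨β, rfl⟩
        exact ⟨r • β, by rw [ptL_apply, ptL_apply, MaxCl.Tens.pt_smul_comm]⟩
      · exact (hplane i' z v hz0 hz hvz hle).elim
    exfalso
    -- a second factor
    have hbig : N ≤ k ^ t + k ^ t + finrank F ↥(D ⊓ LinearMap.ker (proj (split X i) P.h₀ z)) := by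
      have h1 := le_finrank_range_inf_ker X P.h₀ (Ne.symm hi) (z := z) hv0
      have h2 : LinearMap.range (ptL (split X i') v) ⊓ LinearMap.ker (proj (split X i) P.h₀ z) ≤
          (LinearMap.range (ptL (split X i) z) ⊓ LinearMap.range (ptL (split X i') v)) ⊔
            (D ⊓ LinearMap.ker (proj (split X i) P.h₀ z)) := by
        rintro x ⟨hxv, hxK⟩
        obtain ⟨b, hb, l, hl, rfl⟩ := Submodule.mem_sup.1 (hle hxv)
        have hbK : b ∈ LinearMap.ker (proj (split X i) P.h₀ z) := by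
          obtain ⟨β, rfl⟩ := hb
          rw [LinearMap.mem_ker, ptL_apply, proj_pt, hz, zero_smul]
        have hlK : l ∈ D ⊓ LinearMap.ker (proj (split X i) P.h₀ z) :=
          ⟨hl, by simpa using Submodule.sub_mem _ hxK hbK⟩
        refine Submodule.add_mem_sup ⟨hb, ?_⟩ hlK
        simpa using Submodule.sub_mem _ hxv (hL hlK)
      have h3 := (Submodule.finrank_mono h2).trans
        (Submodule.finrank_add_le_finrank_add_finrank _ _)
      have h4 := finrank_range_inf X (Ne.symm hi) hz0 hv0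
      omega
    obtain ⟨v₂, hv₂, hv₂v, hv₂ne⟩ := exists_orth_iso P.h₀ hv0 hv hk
    have hv₂0 : v₂ ≠ 0 := fun e => hv₂ne (by rw [e]; exact Submodule.zero_mem _)
    obtain ⟨i₂, v₃, hv₃0, hv₃, hle₂, hL₂, -⟩ := horb i' v₂ hv₂0 hv₂
    have hLK : D ⊓ LinearMap.ker (proj (split X i) P.h₀ z) ≤
        LinearMap.range (ptL (split X i') v) ⊓ LinearMap.range (ptL (split X i₂) v₃) := by
      refine le_inf hL (le_trans (le_inf inf_le_left fun x hx => ?_) hL₂)
      obtain ⟨β, rfl⟩ := hL hx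
      rw [LinearMap.mem_ker, ptL_apply, proj_pt, MaxCl.Unit.eq_zero_symm P.h₀ hv₂v, zero_smul]
    have hk4 : k ^ t * 4 ≤ k ^ t * k := Nat.mul_le_mul_left _ hk
    by_cases hi₂ : i₂ = i'
    · subst hi₂
      by_cases h3 : v₃ ∈ F ∙ v₂
      · have hv3v : v₃ ∉ F ∙ v := by
          intro h
          obtain ⟨r, hr⟩ := Submodule.mem_span_singleton.1 h3
          obtain ⟨r', hr'⟩ := Submodule.mem_span_singleton.1 h
          have hr0 : r ≠ 0 := fun e => hv₃0 (by rw [← hr, e, zero_smul])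
          exact hv₂ne (Submodule.mem_span_singleton.2 ⟨r⁻¹ * r', by
            rw [mul_smul, hr', ← hr, inv_smul_smul₀ hr0]⟩)
        rw [range_inf_eq_bot _ hv3v] at hLK
        have := Submodule.finrank_mono hLK
        rw [finrank_bot] at this
        omega
      · exact hplane i₂ v₂ v₃ hv₂0 hv₂ h3 hle₂
    · have := (Submodule.finrank_mono hLK).trans (finrank_range_inf X (Ne.symm hi₂) hv0 hv₃0)
      omega
  -- `D` meets no `K_z`
  have hD0 : ∀ i z, z ≠ 0 → f₀ z z = 0 → ∀ x ∈ D, proj (split X i) P.h₀ z x = 0 → x = 0 := by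
    intro i z hz0 hz x hxD hx
    obtain ⟨z₂, hz₂, hz₂z, hz₂ne⟩ := exists_orth_iso P.h₀ hz0 hz hk
    have hz₂0 : z₂ ≠ 0 := fun e => hz₂ne (by rw [e]; exact Submodule.zero_mem _)
    have h1 := (hsame i z hz0 hz).1 ⟨hxD, LinearMap.mem_ker.2 hx⟩
    obtain ⟨β, hβ⟩ := h1
    have h2 := (hsame i z₂ hz₂0 hz₂).1 (show x ∈ D ⊓ LinearMap.ker (proj (split X i) P.h₀ z₂) from
      ⟨hxD, by rw [SetLike.mem_coe, LinearMap.mem_ker, ← hβ, ptL_apply, proj_pt,
        MaxCl.Unit.eq_zero_symm P.h₀ hz₂z, zero_smul]⟩)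
    have h3 : x ∈ LinearMap.range (ptL (split X i) z) ⊓ LinearMap.range (ptL (split X i) z₂) := ⟨⟨β, hβ⟩, h2⟩
    rw [range_inf_eq_bot _ hz₂ne] at h3
    exact (Submodule.mem_bot F).1 h3
  -- the image of a totally isotropic plane
  obtain ⟨u, hu, huw, hune⟩ := exists_orth_iso P.h₀ hw0 hw hk
  have hu0 : u ≠ 0 := fun e => hune (by rw [e]; exact Submodule.zero_mem _)
  obtain ⟨I, hIdef⟩ : ∃ I, I = (LinearMap.range (ptL (split X i₀) w) ⊔
    LinearMap.range (ptL (split X i₀) u)).map (act g) := ⟨_, rfl⟩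
  have hIdim : finrank F I = 2 * N := by
    rw [hIdef, ← (Submodule.equivMapOfInjective _ (act_injective g) _).finrank_eq]
    have e := Submodule.finrank_sup_add_finrank_inf_eq (LinearMap.range (ptL (split X i₀) w))
      (LinearMap.range (ptL (split X i₀) u))
    rw [range_inf_eq_bot _ hune, finrank_bot, finrank_range_ptL _ hw0, finrank_range_ptL _ hu0] at e
    omega
  have hDI : D ≤ I := by rw [hDdef, hIdef]; exact Submodule.map_mono le_sup_left
  obtain ⟨P₀, hP₀⟩ : ∃ P₀ : Submodule F (Fin k → F), P₀ = (F ∙ w) ⊔ (F ∙ u) := ⟨_, rfl⟩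
  have hwP : w ∈ P₀ := hP₀ ▸ Submodule.mem_sup_left (Submodule.mem_span_singleton_self w)
  have huP : u ∈ P₀ := hP₀ ▸ Submodule.mem_sup_right (Submodule.mem_span_singleton_self u)
  have hIP : ∀ x ∈ I, act g⁻¹ x ∈ LT (split X i₀) P₀ := by
    intro x hx
    rw [hIdef] at hx
    obtain ⟨y, hy, rfl⟩ := hx
    rw [act_inv_act]
    exact sup_le (range_ptL_le_LT _ hwP) (range_ptL_le_LT _ huP) hy
  have hP₀perp : ∀ x ∈ P₀, ∀ y ∈ P₀, f₀ x y = 0 := by
    intro x hx y hy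
    rw [hP₀, ← Submodule.span_union, Set.singleton_union, Submodule.mem_span_pair] at hx hy
    obtain ⟨r, s, rfl⟩ := hx; obtain ⟨r', s', rfl⟩ := hy
    simp only [MaxCl.Unit.add_left P.h₀, MaxCl.Unit.add_right P.h₀, MaxCl.Unit.smul_left P.h₀,
      MaxCl.Unit.smul_right P.h₀, hw, hu, huw, MaxCl.Unit.eq_zero_symm P.h₀ huw]
    ring
  have hIK : ∀ x ∈ I, proj (split X i₀) P.h₀ w (act g⁻¹ x) = 0 := fun x hx =>
    LinearMap.mem_ker.1 (C.proj_eq_zero_of_LT (fun v hv => hP₀perp v hv w hwP) (hIP x hx))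
  -- no isotropic line of the factor meets it
  have hIp : ∀ p, p ≠ 0 → f₀ p p = 0 → ∀ x ∈ I, x ∈ LT (split X i₀) (F ∙ p) → x = 0 := by
    intro p hp0 hp x hx hxp
    obtain ⟨-, π, a, -, hπ, ⟨r, hr⟩, hag⟩ := hsame i₀ p hp0 hp
    obtain ⟨β, hβ⟩ := mem_range_of_LT_span _ hp0 hxp
    have hxK : proj (split X i₀) P.h₀ p x = 0 := by rw [← hβ, ptL_apply, proj_pt, hp, zero_smul]
    refine hD0 i₀ p hp0 hp x ?_ hxK
    have e := hag x hxK (hIK x hx)
    rw [← hβ, ptL_apply, act_normal_split, hπ] at e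
    have hr0 : r ≠ 0 := fun e => hw0 (by rw [← hr, e, zero_smul])
    rw [hDdef, ← act_act_inv g x]
    refine Submodule.mem_map_of_mem ?_
    rw [← hβ, ptL_apply, ← e, ← inv_smul_smul₀ hr0 (act (a i₀) p), hr, MaxCl.Tens.pt_smul_right,
      ← MaxCl.Tens.pt_smul_left]
    exact LinearMap.mem_range_self _ _
  -- the planes
  have hPl : ∀ z, z ≠ 0 → f₀ z z = 0 → ∃ Q : Submodule F (Fin k → F), z ∈ Q ∧ finrank F Q = 2 ∧
      (∀ x ∈ Q, ∀ y ∈ Q, f₀ x y = 0) ∧
      ∀ x ∈ I, proj (split X i₀) P.h₀ z x = 0 → x ∈ LT (split X i₀) Q := by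
    intro z hz0 hz
    obtain ⟨-, π, a, hU, hπ, ⟨r, hr⟩, hag⟩ := hsame i₀ z hz0 hz
    obtain ⟨κ, hκ, hsim⟩ := similitude_of_mem P hU i₀
    refine ⟨P₀.map (act (a i₀)⁻¹), ?_, ?_, ?_, fun x hxI hxK => ?_⟩
    · have hr0 : r ≠ 0 := fun e => hw0 (by rw [← hr, e, zero_smul])
      exact ⟨r⁻¹ • w, Submodule.smul_mem _ _ hwP, by rw [← hr, inv_smul_smul₀ hr0, act_inv_act]⟩
    · rw [← (Submodule.equivMapOfInjective _ (act_injective (a i₀)⁻¹) _).finrank_eq, hP₀,
        Submodule.finrank_sup_span_singleton hune, finrank_span_singleton hw0]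
    · rintro _ ⟨x, hx, rfl⟩ _ ⟨y, hy, rfl⟩
      rw [hsim, act_act_inv, act_act_inv, hP₀perp x hx y hy, mul_zero]
    · obtain ⟨A, hAdef⟩ : ∃ A, A = perm (sub F k (t + 1)) (restPerm i₀ π) *
        pure (sub F k (t + 1)) fun j => a (i₀.succAbove j) := ⟨_, rfl⟩
      have hback : ∀ β v, act (perm X π * pure X a)⁻¹ (pt (split X i₀) β v) =
          pt (split X i₀) (act A⁻¹ β) (act (a i₀)⁻¹ v) := fun β v => act_injective (perm X π * pure X a) (by
        rw [act_act_inv, act_normal_split, hπ, ← hAdef, act_act_inv, act_act_inv])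
      have hxI' := hxI
      rw [hIdef] at hxI'
      obtain ⟨y, hy, rfl⟩ := hxI'
      have e := hag _ hxK (hIK _ hxI)
      rw [act_inv_act] at e
      rw [← act_inv_act (perm X π * pure X a) (act g y), e]
      obtain ⟨_, ⟨β, rfl⟩, _, ⟨β', rfl⟩, rfl⟩ := Submodule.mem_sup.1 hy
      rw [map_add, ptL_apply, ptL_apply, hback, hback]
      exact add_mem (pt_mem_LT _ _ (Submodule.mem_map_of_mem hwP)) (pt_mem_LT _ _ (Submodule.mem_map_of_mem huP))
  have hTdim : ∀ z, z ≠ 0 → f₀ z z = 0 →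
      finrank F ↥(I ⊓ LinearMap.ker (proj (split X i₀) P.h₀ z)) = N := by
    intro z hz0 hz
    have h1 := Submodule.finrank_sup_add_finrank_inf_eq I (LinearMap.ker (proj (split X i₀) P.h₀ z))
    have h2 := Submodule.finrank_le (I ⊔ LinearMap.ker (proj (split X i₀) P.h₀ z))
    have h3 := MaxCl.Unit.finrank_uperp P.hU (LinearMap.range (ptL (split X i₀) z))
    rw [C.uperp_range z, finrank_range_ptL _ hz0] at h3
    rw [Module.finrank_pi] at h2
    have h4 : D ⊓ (I ⊓ LinearMap.ker (proj (split X i₀) P.h₀ z)) = ⊥ :=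
      eq_bot_iff.2 fun x hx => (Submodule.mem_bot F).2 (hD0 i₀ z hz0 hz x hx.1 (LinearMap.mem_ker.1 hx.2.2))
    have h5 := Submodule.finrank_sup_add_finrank_inf_eq D (I ⊓ LinearMap.ker (proj (split X i₀) P.h₀ z))
    have h6 := Submodule.finrank_mono (sup_le hDI (inf_le_left (b := LinearMap.ker (proj (split X i₀) P.h₀ z))))
    rw [h4, finrank_bot, hDdim] at h5
    omega
  choose Q hQz hQ2 hQperp hQT using hPl
  -- two planes with a common line
  have hmeet : ∀ z (hz0 : z ≠ 0) (hz : f₀ z z = 0) z' (hz'0 : z' ≠ 0) (hz' : f₀ z' z' = 0),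
      Q z hz0 hz ≠ Q z' hz'0 hz' → Q z hz0 hz ⊓ Q z' hz'0 hz' = ⊥ ∧
      ∀ x ∈ I, ∃ a b, a ∈ I ⊓ LinearMap.ker (proj (split X i₀) P.h₀ z) ∧
        b ∈ I ⊓ LinearMap.ker (proj (split X i₀) P.h₀ z') ∧ a + b = x := by
    intro z hz0 hz z' hz'0 hz' hne
    set T := I ⊓ LinearMap.ker (proj (split X i₀) P.h₀ z) with hT
    set T' := I ⊓ LinearMap.ker (proj (split X i₀) P.h₀ z') with hT'
    have hline : ∀ p ∈ Q z hz0 hz ⊓ Q z' hz'0 hz', p ≠ 0 → Q z hz0 hz ⊓ Q z' hz'0 hz' ≤ F ∙ p := by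
      intro p hp hp0
      refine (Submodule.eq_of_le_of_finrank_le ((Submodule.span_singleton_le_iff_mem _ _).2 hp) ?_).ge
      rw [finrank_span_singleton hp0]
      by_contra h
      exact hne (Submodule.eq_of_le_of_finrank_eq
        (inf_eq_left.1 (Submodule.eq_of_le_of_finrank_le inf_le_left (by rw [hQ2]; omega)))
        (by rw [hQ2, hQ2]))
    have hinf : T ⊓ T' = ⊥ := by
      refine eq_bot_iff.2 fun x hx => (Submodule.mem_bot F).2 ?_
      have hxQ : x ∈ LT (split X i₀) (Q z hz0 hz ⊓ Q z' hz'0 hz') :=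
        LT_inf _ ⟨hQT z hz0 hz x hx.1.1 (LinearMap.mem_ker.1 hx.1.2),
          hQT z' hz'0 hz' x hx.2.1 (LinearMap.mem_ker.1 hx.2.2)⟩
      by_cases hb : Q z hz0 hz ⊓ Q z' hz'0 hz' = ⊥
      · rw [hb] at hxQ; exact eq_zero_of_LT_bot _ hxQ
      obtain ⟨p, hp, hp0⟩ := Submodule.exists_mem_ne_zero_of_ne_bot hb
      exact hIp p hp0 (hQperp z hz0 hz p hp.1 p hp.1) x hx.1.1 (LT_mono _ (hline p hp hp0) hxQ)
    have hsup : T ⊔ T' = I := by
      refine Submodule.eq_of_le_of_finrank_le (sup_le inf_le_left inf_le_left) ?_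
      have := Submodule.finrank_sup_add_finrank_inf_eq T T'
      rw [hinf, finrank_bot, hTdim z hz0 hz, hTdim z' hz'0 hz'] at this
      omega
    refine ⟨?_, fun x hx => ?_⟩
    · by_contra hb
      obtain ⟨p, hp, hp0⟩ := Submodule.exists_mem_ne_zero_of_ne_bot hb
      refine hA i₀ p hp0 (hQperp z hz0 hz p hp.1 p hp.1) (hDI.trans (hsup ▸ sup_le ?_ ?_))
      · exact fun x hx => C.proj_eq_zero_of_LT (fun v hv => hQperp z hz0 hz v hv p hp.1)
          (hQT z hz0 hz x hx.1 (LinearMap.mem_ker.1 hx.2))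
      · exact fun x hx => C.proj_eq_zero_of_LT (fun v hv => hQperp z' hz'0 hz' v hv p hp.2)
          (hQT z' hz'0 hz' x hx.1 (LinearMap.mem_ker.1 hx.2))
    · obtain ⟨a, ha, b, hb, rfl⟩ := Submodule.mem_sup.1 (hsup.ge hx)
      exact ⟨a, b, ha, hb, rfl⟩
  obtain ⟨z', hz'0, hz', hne⟩ : ∃ z' hz'0 hz', Q w hw0 hw ≠ Q z' hz'0 hz' := by
    by_contra h
    push Not at h
    have := Submodule.finrank_mono (top_le_of_iso P.h₀ (by omega) (Y := Q w hw0 hw) fun p hp => by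
      rcases eq_or_ne p 0 with rfl | hp0
      · exact Submodule.zero_mem _
      · rw [h p hp0 hp]; exact hQz p hp0 hp)
    rw [finrank_top, Module.finrank_fin_fun, hQ2] at this
    omega
  obtain ⟨hQQ, hsplit⟩ := hmeet w hw0 hw z' hz'0 hz' hne
  set Q₁ := Q w hw0 hw with hQ₁
  set Q₂ := Q z' hz'0 hz' with hQ₂
  have hIS : ∀ x ∈ I, x ∈ LT (split X i₀) (Q₁ ⊔ Q₂) := by
    intro x hx
    obtain ⟨a, b, ha, hb, rfl⟩ := hsplit x hx
    exact add_mem (LT_mono _ le_sup_left (hQT w hw0 hw a ha.1 (LinearMap.mem_ker.1 ha.2)))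
      (LT_mono _ le_sup_right (hQT z' hz'0 hz' b hb.1 (LinearMap.mem_ker.1 hb.2)))
  have hall : ⊤ ≤ Q₁ ⊔ Q₂ := by
    refine top_le_of_iso P.h₀ (by omega) fun p hp => ?_
    rcases eq_or_ne p 0 with rfl | hp0
    · exact Submodule.zero_mem _
    by_contra hpS
    obtain ⟨x, hx, hx0⟩ := Submodule.exists_mem_ne_zero_of_ne_bot
      (p := I ⊓ LinearMap.ker (proj (split X i₀) P.h₀ p)) fun e => by
        have := hTdim p hp0 hp
        rw [e, finrank_bot] at this
        omega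
    have hxQ : x ∈ LT (split X i₀) (Q p hp0 hp ⊓ (Q₁ ⊔ Q₂)) :=
      LT_inf _ ⟨hQT p hp0 hp x hx.1 (LinearMap.mem_ker.1 hx.2), hIS x hx.1⟩
    apply hx0
    by_cases hb : Q p hp0 hp ⊓ (Q₁ ⊔ Q₂) = ⊥
    · rw [hb] at hxQ; exact eq_zero_of_LT_bot _ hxQ
    obtain ⟨q, hq, hq0⟩ := Submodule.exists_mem_ne_zero_of_ne_bot hb
    refine hIp q hq0 (hQperp p hp0 hp q hq.1 q hq.1) x hx.1 (LT_mono _ (Eq.ge ?_) hxQ)
    refine Submodule.eq_of_le_of_finrank_le ((Submodule.span_singleton_le_iff_mem _ _).2 hq) ?_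
    rw [finrank_span_singleton hq0]
    by_contra h
    exact hpS ((inf_eq_left.1 (Submodule.eq_of_le_of_finrank_le inf_le_left (by rw [hQ2]; omega))) (hQz p hp0 hp))
  have hk4 : k = 4 := by
    have h1 := Submodule.finrank_mono hall
    have h2 := Submodule.finrank_sup_add_finrank_inf_eq Q₁ Q₂
    rw [finrank_top, Module.finrank_fin_fun] at h1
    rw [hQQ, finrank_bot, hQ₁, hQ₂, hQ2, hQ2] at h2
    rw [hQ₁, hQ₂] at h1
    omega
  have hcompl : IsCompl Q₁ Q₂ := ⟨disjoint_iff.2 hQQ, codisjoint_iff.2 (top_le_iff.1 hall)⟩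
  let e₁ : (Fin k → F) →ₗ[F] (Fin k → F) := LinearMap.ofIsCompl hcompl Q₁.subtype 0
  let e₂ : (Fin k → F) →ₗ[F] (Fin k → F) := LinearMap.ofIsCompl hcompl 0 Q₂.subtype
  have e11 : ∀ v ∈ Q₁, e₁ v = v := fun v hv => LinearMap.ofIsCompl_apply_left hcompl ⟨v, hv⟩
  have e12 : ∀ v ∈ Q₂, e₁ v = 0 := fun v hv => LinearMap.ofIsCompl_apply_right hcompl ⟨v, hv⟩
  have e21 : ∀ v ∈ Q₁, e₂ v = 0 := fun v hv => LinearMap.ofIsCompl_apply_left hcompl ⟨v, hv⟩
  have e22 : ∀ v ∈ Q₂, e₂ v = v := fun v hv => LinearMap.ofIsCompl_apply_right hcompl ⟨v, hv⟩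
  have esum : ∀ v, e₁ v ∈ Q₁ ∧ e₂ v ∈ Q₂ ∧ e₁ v + e₂ v = v := by
    intro v
    obtain ⟨a, ha, b, hb, rfl⟩ := Submodule.mem_sup.1 (hall (Submodule.mem_top (x := v)))
    simp [map_add, e11 a ha, e12 b hb, e21 a ha, e22 b hb, ha, hb]
  set T₁ := I ⊓ LinearMap.ker (proj (split X i₀) P.h₀ w) with hT₁
  -- graphs
  have hgraph : ∀ z (hz0 : z ≠ 0) (hz : f₀ z z = 0), z ∉ Q₁ → z ∉ Q₂ →
      ∃ φ : (Fin k → F) →ₗ[F] (Fin k → F), (∀ v, φ v ∈ Q₂) ∧ (∀ v ∈ Q₂, φ v = 0) ∧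
        φ (e₁ z) = e₂ z ∧ (∀ a ∈ T₁, rT (split X i₀) φ a ∈ I) ∧
        ∀ x ∈ Q₁, f₀ (x + φ x) z = 0 := by
    intro z hz0 hz hz1 hz2
    set Qz := Q z hz0 hz with hQz'
    have d1 : Qz ⊓ Q₂ = ⊥ := (hmeet z hz0 hz z' hz'0 hz' fun e => hz2 (by rw [hQ₂, ← e]; exact hQz z hz0 hz)).1
    have hinj : Function.Injective (e₁ ∘ₗ Qz.subtype) := (injective_iff_map_eq_zero _).2 fun v hv => by
      change e₁ v = 0 at hv
      have h := (esum v).2.2
      rw [hv, zero_add] at h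
      have : (v : Fin k → F) ∈ Qz ⊓ Q₂ := ⟨v.2, h ▸ (esum v).2.1⟩
      rw [d1] at this
      exact Subtype.ext ((Submodule.mem_bot F).1 this)
    obtain ⟨ρ, hρ⟩ := LinearMap.exists_leftInverse_of_injective _ (LinearMap.ker_eq_bot.2 hinj)
    let φ : (Fin k → F) →ₗ[F] (Fin k → F) := e₂ ∘ₗ Qz.subtype ∘ₗ ρ ∘ₗ e₁
    have e1e1 : ∀ v, e₁ (e₁ v) = e₁ v := fun v => e11 _ (esum v).1
    have hφz : ∀ v ∈ Qz, φ v = e₂ v := fun v hv => by
      show e₂ (ρ (e₁ v) : Qz) = e₂ v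
      rw [show ρ (e₁ v) = ⟨v, hv⟩ from LinearMap.congr_fun hρ ⟨v, hv⟩]
    have hφe : ∀ v, φ (e₁ v) = φ v := fun v => by
      show e₂ (ρ (e₁ (e₁ v)) : Qz) = e₂ (ρ (e₁ v) : Qz)
      rw [e1e1]
    refine ⟨φ, fun v => (esum _).2.1, fun v hv => by rw [← hφe, e12 v hv, map_zero], ?_, ?_, ?_⟩
    · rw [hφe]; exact hφz z (hQz z hz0 hz)
    · intro a ha
      have hsub : (I ⊓ LinearMap.ker (proj (split X i₀) P.h₀ z)).map (rT (split X i₀) e₁) = T₁ := by
        refine Submodule.eq_of_le_of_finrank_le ?_ ?_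
        · rintro _ ⟨x, hx, rfl⟩
          obtain ⟨p, q, hp, hq, hpq⟩ := hsplit x hx.1
          rw [← hpq, map_add, rT_eq_self _ (hQT w hw0 hw p hp.1 (LinearMap.mem_ker.1 hp.2)) e11,
            rT_eq_zero _ (hQT z' hz'0 hz' q hq.1 (LinearMap.mem_ker.1 hq.2)) e12, add_zero]
          exact hp
        · rw [hTdim w hw0 hw, ← hTdim z hz0 hz]
          let L := rT (split X i₀) e₁ ∘ₗ (I ⊓ LinearMap.ker (proj (split X i₀) P.h₀ z)).subtype
          have hLinj : Function.Injective L := (injective_iff_map_eq_zero _).2 fun x hx => by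
            change rT (split X i₀) e₁ (x : ι → F) = 0 at hx
            refine Subtype.ext (MaxCl.Tens.eq_zero_of_cR (split X i₀) fun χ => ?_)
            have h1 := hQT z hz0 hz (x : ι → F) x.2.1 (LinearMap.mem_ker.1 x.2.2)
              (χ - χ ∘ₗ Qz.subtype ∘ₗ ρ ∘ₗ e₁) fun v hv => by
                show χ v - χ (ρ (e₁ v) : Qz) = 0
                rw [show ρ (e₁ v) = ⟨v, hv⟩ from LinearMap.congr_fun hρ ⟨v, hv⟩, sub_self]
            have h2 : cR (split X i₀) (χ ∘ₗ Qz.subtype ∘ₗ ρ ∘ₗ e₁) (x : ι → F) = 0 := by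
              rw [show χ ∘ₗ Qz.subtype ∘ₗ ρ ∘ₗ e₁ = (χ ∘ₗ Qz.subtype ∘ₗ ρ) ∘ₗ e₁ from rfl, ← cR_rT, hx, map_zero]
            have h3 := cR_add (split X i₀) (χ - χ ∘ₗ Qz.subtype ∘ₗ ρ ∘ₗ e₁) (χ ∘ₗ Qz.subtype ∘ₗ ρ ∘ₗ e₁) (x : ι → F)
            rwa [sub_add_cancel, h1, h2, add_zero] at h3
          rw [← LinearMap.finrank_range_of_inj hLinj, LinearMap.range_comp, Submodule.range_subtype]
      rw [← hsub] at ha
      obtain ⟨x, hx, rfl⟩ := ha
      suffices rT (split X i₀) φ (rT (split X i₀) e₁ x) = rT (split X i₀) e₂ x by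
        rw [this]
        obtain ⟨p, q, hp, hq, hpq⟩ := hsplit x hx.1
        rw [← hpq, map_add, rT_eq_zero _ (hQT w hw0 hw p hp.1 (LinearMap.mem_ker.1 hp.2)) e21,
          rT_eq_self _ (hQT z' hz'0 hz' q hq.1 (LinearMap.mem_ker.1 hq.2)) e22, zero_add]
        exact hq.1
      refine sub_eq_zero.1 (MaxCl.Tens.eq_zero_of_cR (split X i₀) fun χ => ?_)
      rw [rT_comp, map_sub, cR_rT, cR_rT, sub_eq_zero]
      have h1 := hQT z hz0 hz x hx.1 (LinearMap.mem_ker.1 hx.2) (χ ∘ₗ (φ ∘ₗ e₁) - χ ∘ₗ e₂) fun v hv => by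
        show χ (φ (e₁ v)) - χ (e₂ v) = 0
        rw [hφe, hφz v hv, sub_self]
      have h3 := cR_add (split X i₀) (χ ∘ₗ (φ ∘ₗ e₁) - χ ∘ₗ e₂) (χ ∘ₗ e₂) x
      rwa [sub_add_cancel, h1, zero_add] at h3
    · intro x hx
      have hmap : Qz.map e₁ = Q₁ := by
        refine Submodule.eq_of_le_of_finrank_le (by rintro _ ⟨v, -, rfl⟩; exact (esum v).1) ?_
        have h := LinearMap.finrank_range_of_inj hinj
        rw [LinearMap.range_comp, Submodule.range_subtype] at h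
        rw [h, hQ₁, hQ2, hQz', hQ2]
      rw [← hmap] at hx
      obtain ⟨v, hv, rfl⟩ := hx
      rw [hφe, hφz v hv, (esum v).2.2]
      exact hQperp z hz0 hz v hv z (hQz z hz0 hz)
  obtain ⟨p, hp, hp0⟩ := Submodule.exists_mem_ne_zero_of_ne_bot (p := Q₁) fun e => by
    have := hQ2 w hw0 hw
    rw [← hQ₁, e, finrank_bot] at this
    omega
  obtain ⟨q, hq, hq0, hqp⟩ : ∃ q ∈ Q₂, q ≠ 0 ∧ f₀ q p = 0 := by
    obtain ⟨q, hq, hq0⟩ := Submodule.exists_mem_ne_zero_of_ne_bot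
      (p := Q₂ ⊓ LinearMap.ker (flinU P.h₀ p)) fun e => by
        have h1 := Submodule.finrank_sup_add_finrank_inf_eq Q₂ (LinearMap.ker (flinU P.h₀ p))
        have h2 := Submodule.finrank_le (Q₂ ⊔ LinearMap.ker (flinU P.h₀ p))
        have h3 := LinearMap.finrank_range_add_finrank_ker (flinU P.h₀ p)
        have h4 := Submodule.finrank_le (LinearMap.range (flinU P.h₀ p))
        rw [Module.finrank_self] at h4
        rw [Module.finrank_fin_fun] at h2 h3
        rw [e, finrank_bot, hQ₂, hQ2] at h1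
        rw [hQ₂] at h2
        omega
    exact ⟨q, hq.1, hq0, LinearMap.mem_ker.1 hq.2⟩
  obtain ⟨l, hl⟩ := MaxCl.Unit.exists_moved P.h₀.ne_refl
  have hl0 : l ≠ 0 := fun e => hl (by rw [e, map_zero])
  have hpp : f₀ p p = 0 := hQperp w hw0 hw p hp p hp
  have hqq : f₀ q q = 0 := hQperp z' hz'0 hz' q hq q hq
  have hmk : ∀ r : F, r ≠ 0 → p + r • q ≠ 0 ∧ f₀ (p + r • q) (p + r • q) = 0 ∧ p + r • q ∉ Q₁ ∧ p + r • q ∉ Q₂ := by
    intro r hr
    have n1 : p + r • q ∉ Q₁ := fun h => by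
      have h' : r • q ∈ Q₁ ⊓ Q₂ := ⟨by simpa using Submodule.sub_mem _ h hp, Submodule.smul_mem _ _ hq⟩
      rw [hQQ, Submodule.mem_bot, smul_eq_zero] at h'
      tauto
    refine ⟨fun e => n1 (by rw [e]; exact Submodule.zero_mem _), ?_, n1, fun h => ?_⟩
    · simp only [MaxCl.Unit.add_left P.h₀, MaxCl.Unit.add_right P.h₀, MaxCl.Unit.smul_left P.h₀,
        MaxCl.Unit.smul_right P.h₀, hpp, hqq, hqp, MaxCl.Unit.eq_zero_symm P.h₀ hqp]
      ring
    · have h' : p ∈ Q₁ ⊓ Q₂ := ⟨hp, by simpa using Submodule.sub_mem _ h (Submodule.smul_mem _ r hq)⟩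
      rw [hQQ, Submodule.mem_bot] at h'
      exact hp0 h'
  have he : ∀ r : F, e₁ (p + r • q) = p ∧ e₂ (p + r • q) = r • q := fun r => by
    simp [map_add, map_smul, e11 p hp, e12 q hq, e21 p hp, e22 q hq]
  obtain ⟨n1, i1, a1, b1⟩ := hmk 1 one_ne_zero
  obtain ⟨n2, i2, a2, b2⟩ := hmk l hl0
  obtain ⟨φ, hφQ, hφ0, hφp, hφT, hφperp⟩ := hgraph _ n1 i1 a1 b1
  obtain ⟨ψ, hψQ, hψ0, hψp, hψT, hψperp⟩ := hgraph _ n2 i2 a2 b2
  rw [(he _).1, (he _).2, one_smul] at hφp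
  rw [(he _).1, (he _).2] at hψp
  -- the two graphs are proportional
  have hprop : ∀ x ∈ Q₁, ψ x = l • φ x := by
    intro x hx
    by_contra hne
    obtain ⟨δ, hδdef⟩ : ∃ δ, δ = ψ - l • φ := ⟨_, rfl⟩
    have hδp : δ p = 0 := by simp [hδdef, hφp, hψp]
    obtain ⟨b, hb⟩ : ∃ b, b = δ x := ⟨_, rfl⟩
    have hb0 : b ≠ 0 := by rw [hb, hδdef]; simpa using sub_ne_zero.2 hne
    have hxp : x ∉ F ∙ p := fun h => hb0 (by
      obtain ⟨r, rfl⟩ := Submodule.mem_span_singleton.1 h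
      rw [hb, map_smul, hδp, smul_zero])
    have hQ₁sp : ∀ v ∈ Q₁, ∃ r s : F, r • p + s • x = v := by
      have : (F ∙ p) ⊔ (F ∙ x) = Q₁ := Submodule.eq_of_le_of_finrank_le
        (sup_le ((Submodule.span_singleton_le_iff_mem _ _).2 hp) ((Submodule.span_singleton_le_iff_mem _ _).2 hx))
        (by rw [Submodule.finrank_sup_span_singleton hxp, finrank_span_singleton hp0, hQ₁, hQ2])
      intro v hv
      rw [← this, ← Submodule.span_union, Set.singleton_union, Submodule.mem_span_pair] at hv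
      exact hv
    have hδQ₂ : ∀ v ∈ Q₂, δ v = 0 := fun v hv => by simp [hδdef, hφ0 v hv, hψ0 v hv]
    have hδline : ∀ v, δ v ∈ F ∙ b := fun v => by
      obtain ⟨r, s, hrs⟩ := hQ₁sp _ (esum v).1
      rw [← (esum v).2.2, map_add, hδQ₂ _ (esum v).2.1, add_zero, ← hrs, map_add, map_smul, map_smul, hδp,
        smul_zero, zero_add, hb]
      exact Submodule.smul_mem _ _ (Submodule.mem_span_singleton_self _)
    have hbb : f₀ b b = 0 := by
      have : b ∈ Q₂ := by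
        rw [hb, hδdef]; exact Submodule.sub_mem _ (hψQ x) (Submodule.smul_mem _ _ (hφQ x))
      exact hQperp z' hz'0 hz' b this b this
    obtain ⟨χb, -, hχb⟩ := exists_dual (⊥ : Submodule F (Fin k → F)) (v := b) (by simpa using hb0)
    obtain ⟨a, ha, ha0⟩ := Submodule.exists_mem_ne_zero_of_ne_bot (p := T₁) fun e => by
      have := hTdim w hw0 hw
      rw [← hT₁, e, finrank_bot] at this
      omega
    apply ha0
    refine hIp p hp0 hpp a ha.1 fun χ hχ => ?_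
    have haQ := hQT w hw0 hw a ha.1 (LinearMap.mem_ker.1 ha.2)
    have hδa : rT (split X i₀) δ a = 0 := by
      refine hIp b hb0 hbb _ ?_ fun χ' hχ' => ?_
      · have : rT (split X i₀) δ a = rT (split X i₀) ψ a - l • rT (split X i₀) φ a :=
          LinearMap.congr_fun (MaxCl.Tens.pt_ext (split X i₀) (L := rT (split X i₀) δ)
            (L' := rT (split X i₀) ψ - l • rT (split X i₀) φ) fun u v => by
              simp [hδdef, rT_pt, MaxCl.Tens.pt_sub_right, MaxCl.Tens.pt_smul_right]) a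
        rw [this]
        exact Submodule.sub_mem _ (hψT a ha) (Submodule.smul_mem _ _ (hφT a ha))
      · rw [cR_rT]
        exact haQ _ fun v _ => hχ' _ (hδline v)
    have h1 := haQ (χ - χ x • (χb ∘ₗ δ)) fun v hv => by
      obtain ⟨r, s, rfl⟩ := hQ₁sp v hv
      simp [map_add, map_smul, hδp, hχ p (Submodule.mem_span_singleton_self p), ← hb, hχb, mul_comm]
    have h3 := cR_add (split X i₀) (χ - χ x • (χb ∘ₗ δ)) (χ x • (χb ∘ₗ δ)) a
    rwa [sub_add_cancel, h1, cR_smul, ← cR_rT, hδa, map_zero, smul_zero, add_zero] at h3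
  -- a contradiction with the skewness
  apply hq0
  by_contra hne
  obtain ⟨y, hy⟩ := (P.h₀.nondegenerate q hne).1
  have key : ∀ v ∈ Q₁, f₀ v q = 0 := by
    intro v hv
    have h1 := hφperp v hv
    have h2 := hψperp v hv
    rw [one_smul] at h1
    rw [hprop v hv] at h2
    have e1 : f₀ v p = 0 := hQperp w hw0 hw v hv p hp
    have e2 : f₀ (φ v) q = 0 := hQperp z' hz'0 hz' _ (hφQ v) q hq
    simp only [MaxCl.Unit.add_left P.h₀, MaxCl.Unit.add_right P.h₀, MaxCl.Unit.smul_left P.h₀,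
      MaxCl.Unit.smul_right P.h₀, e1, e2] at h1 h2
    have : (σ l - l) * f₀ v q = 0 := by linear_combination h2 - l * h1
    exact (mul_eq_zero.1 this).resolve_left (sub_ne_zero.2 hl)
  apply hy
  rw [← (esum y).2.2, MaxCl.Unit.add_left P.h₀, key _ (esum y).1,
    hQperp z' hz'0 hz' _ (esum y).2.1 q hq, add_zero]

end Cfsg.Agent.TPow
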