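/-
Two root groups of opposite totally isotropic subspaces act on their span through `SL(2, R)`, `R` the ring generated
by the fixed scalars and one self-adjoint endomorphism; when it is nilpotent the generated group is a `p`-group.
-/
import Mathlib
import Cfsg.Agent.Lib.MaxCl.Unitary

set_option autoImplicit false

namespace Cfsg.Agent.TPow

open scoped MatrixGroups Matrix IsMulCommutative
open MaxCl (act gl_ext act_mul act_one act_inv_act act_act_inv)
open MaxCl.Unit (uiso)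

variable {ι : Type} [Fintype ι] [DecidableEq ι] {F : Type*} [Field F] {N : ℕ}

theorem isNilpotent_smul {R A : Type*} [CommRing R] [Ring A] [Algebra R A] {r : R} (B : A) (h : IsNilpotent r) :
    IsNilpotent (r • B) := by
  obtain ⟨n, hn⟩ := h
  exact ⟨n, by rw [smul_pow, hn, zero_smul]⟩

/-- lower unitriangular matrices modulo a nil ideal have `p`-power order -/
theorem exists_pow_eq_one_of_lower {R : Type*} [CommRing R] (p : ℕ) [Fact p.Prime] [CharP R p] (I : Ideal R)
    (hI : ∀ e ∈ I, IsNilpotent e) (y : SL(2, R)) (h01 : y 0 1 ∈ I) (h00 : y 0 0 - 1 ∈ I) (h11 : y 1 1 - 1 ∈ I) :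
    ∃ n : ℕ, y ^ p ^ n = 1 := by
  haveI : CharP (Matrix (Fin 2) (Fin 2) R) p := Matrix.charP p
  obtain ⟨A, hA⟩ : ∃ A : Matrix (Fin 2) (Fin 2) R, A = (y : Matrix (Fin 2) (Fin 2) R) - 1 := ⟨_, rfl⟩
  have e00 : A 0 0 ∈ I := by simpa [hA] using h00
  have e11 : A 1 1 ∈ I := by simpa [hA] using h11
  have e01 : A 0 1 ∈ I := by simpa [hA] using h01
  have hA2 : A * A = (A 0 0 + A 1 1) • A - (A 0 0 * A 1 1 - A 0 1 * A 1 0) • 1 := by
    ext i j
    fin_cases i <;> fin_cases j <;> simp [Matrix.mul_apply, Fin.sum_univ_two] <;> ring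
  have hAA : IsNilpotent (A * A) := by
    rw [hA2]
    refine Commute.isNilpotent_sub ?_ (isNilpotent_smul _ (hI _ (I.add_mem e00 e11)))
      (isNilpotent_smul _ (hI _ (I.sub_mem (I.mul_mem_right _ e00) (I.mul_mem_right _ e01))))
    exact ((Commute.one_right A).smul_left _).smul_right _
  obtain ⟨n, hn⟩ := hAA
  refine ⟨2 * n, Subtype.ext ?_⟩
  rw [Matrix.SpecialLinearGroup.coe_pow, Matrix.SpecialLinearGroup.coe_one,
    show (y : Matrix (Fin 2) (Fin 2) R) = 1 + A by rw [hA]; abel,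
    add_pow_char_pow_of_commute p (2 * n) (Commute.one_left A), one_pow,
    pow_eq_zero_of_le (Nat.lt_pow_self (n := 2 * n) (Nat.Prime.one_lt Fact.out)).le
      (show A ^ (2 * n) = 0 by rw [pow_mul, pow_two, hn]), add_zero]

/-- the data of two root groups -/
structure PairData (ι : Type) [Fintype ι] [DecidableEq ι] (F : Type*) [Field F] (N : ℕ) where
  /-- the field automorphism -/
  σ : F ≃+* F
  /-- the form -/
  f : (ι → F) → (ι → F) → F
  /-- the form on the parameters -/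
  fB : (Fin N → F) → (Fin N → F) → F
  /-- the scalar -/
  c : F
  /-- a skew scalar -/
  θ : F
  /-- the first subspace -/
  jz : (Fin N → F) →ₗ[F] (ι → F)
  /-- the second subspace -/
  jD : (Fin N → F) →ₗ[F] (ι → F)
  /-- the contraction against the first subspace -/
  pz : (ι → F) →ₗ[F] (Fin N → F)
  /-- the contraction against the second subspace -/
  pD : (ι → F) →ₗ[F] (Fin N → F)
  /-- the first root group -/
  r : F → GL ι F
  /-- the second root group -/
  s : F → GL ι F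
  hU : Cfsg.Geo.IsUnitaryForm σ f
  hB : Cfsg.Geo.IsUnitaryForm σ fB
  c_ne : c ≠ 0
  hpz : ∀ v u, f v (jz u) = c * fB (pz v) u
  hpD : ∀ v u, f v (jD u) = c * fB (pD v) u
  hzz : ∀ a, pz (jz a) = 0
  hDD : ∀ a, pD (jD a) = 0
  hc : σ c = c
  hθ : θ + σ θ = 0
  θ_ne : θ ≠ 0
  act_r : ∀ b v, act (r b) v = v + b • jz (pz v)
  act_s : ∀ b v, act (s b) v = v + b • jD (pD v)

namespace PairData

variable (d : PairData ι F N)

/-- the pairing of the two subspaces -/
def X : (Fin N → F) →ₗ[F] (Fin N → F) := d.pD ∘ₗ d.jz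

/-- the product of the pairing with its adjoint -/
def Y : Module.End F (Fin N → F) := d.pz ∘ₗ d.jD ∘ₗ d.pD ∘ₗ d.jz

theorem Y_apply (a : Fin N → F) : d.Y a = d.pz (d.jD (d.X a)) := rfl

/-- the generators of the ring -/
def gens : Set (Module.End F (Fin N → F)) :=
  insert d.Y {E | ∃ a : F, d.σ a = a ∧ E = a • (1 : Module.End F (Fin N → F))}

theorem gens_comm : ∀ x ∈ d.gens, ∀ y ∈ d.gens, x * y = y * x := by
  rintro x (rfl | ⟨a, -, rfl⟩) y (rfl | ⟨b, -, rfl⟩)
  · rfl
  · simp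
  · simp
  · simp [smul_smul, mul_comm]

/-- the ring of the pairing -/
abbrev R : Subring (Module.End F (Fin N → F)) := Subring.closure d.gens

instance : IsMulCommutative d.R := Subring.isMulCommutative_closure d.gens_comm

/-- the pairing as an element of the ring -/
def Yr : d.R := ⟨d.Y, Subring.subset_closure (Set.mem_insert _ _)⟩

/-- a fixed scalar as an element of the ring -/
def sc (a : F) (ha : d.σ a = a) : d.R :=
  ⟨a • 1, Subring.subset_closure (Set.mem_insert_of_mem _ ⟨a, ha, rfl⟩)⟩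

theorem fB_X (a b : Fin N → F) : d.c * d.fB (d.X a) b = d.f (d.jz a) (d.jD b) := (d.hpD _ _).symm

theorem Y_adjoint (a b : Fin N → F) : d.fB (d.Y a) b = d.fB a (d.Y b) := by
  have key : ∀ a b, d.fB (d.Y a) b = d.fB (d.X a) (d.X b) := fun a b => by
    apply mul_left_cancel₀ d.c_ne
    rw [Y_apply, ← d.hpz, ← MaxCl.Unit.herm' d.hU, ← fB_X, map_mul, d.hc, MaxCl.Unit.herm' d.hB]
  rw [key, ← MaxCl.Unit.herm' d.hB (d.Y b) a, key, MaxCl.Unit.herm' d.hB]

/-- the elements of the ring are self-adjoint -/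
theorem R_adjoint (e : d.R) (a b : Fin N → F) :
    d.fB ((e : Module.End F (Fin N → F)) a) b = d.fB a ((e : Module.End F (Fin N → F)) b) := by
  obtain ⟨E, hE⟩ := e
  show d.fB (E a) b = d.fB a (E b)
  induction hE using Subring.closure_induction generalizing a b with
  | mem x hx =>
    rcases hx with rfl | ⟨r, hr, rfl⟩
    · exact d.Y_adjoint a b
    · show d.fB (r • a) b = d.fB a (r • b)
      rw [MaxCl.Unit.smul_left d.hB, MaxCl.Unit.smul_right d.hB, hr]
  | zero => simp [MaxCl.Unit.zero_left d.hB, MaxCl.Unit.zero_right d.hB]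
  | one => rfl
  | add x y _ _ hx hy =>
    show d.fB (x a + y a) b = d.fB a (x b + y b)
    rw [MaxCl.Unit.add_left d.hB, MaxCl.Unit.add_right d.hB, hx, hy]
  | neg x _ hx =>
    show d.fB (-x a) b = d.fB a (-x b)
    rw [← neg_one_smul F (x a), ← neg_one_smul F (x b), MaxCl.Unit.smul_left d.hB, MaxCl.Unit.smul_right d.hB,
      hx, map_neg, map_one]
  | mul x y hx' hy' hx hy =>
    have hxy : y * x = x * y := congrArg Subtype.val (mul_comm (⟨y, hy'⟩ : d.R) ⟨x, hx'⟩)
    show d.fB (x (y a)) b = d.fB a (x (y b))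
    rw [hx, hy]
    congr 1
    exact LinearMap.congr_fun hxy b

/-- the span map -/
def J (a b : Fin N → F) : ι → F := d.jz a + d.θ • d.jD (d.X b)

/-- the range of the span map -/
def RJ : Submodule F (ι → F) := LinearMap.range d.jz ⊔ LinearMap.range (d.jD ∘ₗ d.X)

/-- the span of the two subspaces -/
def WV : Submodule F (ι → F) := LinearMap.range d.jz ⊔ LinearMap.range d.jD

theorem mem_RJ {v : ι → F} : v ∈ d.RJ ↔ ∃ a b, v = d.J a b := by
  rw [RJ, Submodule.mem_sup]
  constructor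
  · rintro ⟨_, ⟨a, rfl⟩, _, ⟨b, rfl⟩, rfl⟩
    refine ⟨a, d.θ⁻¹ • b, ?_⟩
    rw [J, map_smul, map_smul, smul_smul, mul_inv_cancel₀ d.θ_ne, one_smul]; rfl
  · rintro ⟨a, b, rfl⟩
    exact ⟨_, LinearMap.mem_range_self _ a, _, LinearMap.mem_range_self _ (d.θ • b), by
      rw [J, LinearMap.comp_apply, map_smul, map_smul]⟩

theorem RJ_le : d.RJ ≤ d.WV := sup_le le_sup_left ((LinearMap.range_comp_le_range _ _).trans le_sup_right)

theorem fixed_up {β : F} (hβ : β + d.σ β = 0) : d.σ (β * d.θ) = β * d.θ := by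
  rw [map_mul, eq_neg_of_add_eq_zero_right hβ, eq_neg_of_add_eq_zero_right d.hθ, neg_mul_neg]

theorem fixed_low {α : F} (hα : α + d.σ α = 0) : d.σ (α / d.θ) = α / d.θ := by
  rw [map_div₀, eq_neg_of_add_eq_zero_right hα, eq_neg_of_add_eq_zero_right d.hθ, neg_div_neg_eq]

/-- the upper unitriangular element -/
def up (β : F) (hβ : β + d.σ β = 0) : SL(2, d.R) :=
  ⟨!![1, d.sc _ (d.fixed_up hβ) * d.Yr; 0, 1], by simp [Matrix.det_fin_two]⟩

/-- the lower unitriangular element -/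
def low (α : F) (hα : α + d.σ α = 0) : SL(2, d.R) :=
  ⟨!![1, 0; d.sc _ (d.fixed_low hα), 1], by simp [Matrix.det_fin_two]⟩

/-- the group generated by the two root groups, with its action on the span -/
def GG : Subgroup (GL ι F × SL(2, d.R)) :=
  Subgroup.closure ({y | ∃ β, ∃ h : β + d.σ β = 0, y = (d.r β, d.up β h)} ∪
    {y | ∃ α, ∃ h : α + d.σ α = 0, y = (d.s α, d.low α h)})

theorem r_mem {β : F} (h : β + d.σ β = 0) : (d.r β, d.up β h) ∈ d.GG :=
  Subgroup.subset_closure (Or.inl ⟨β, h, rfl⟩)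

theorem s_mem {α : F} (h : α + d.σ α = 0) : (d.s α, d.low α h) ∈ d.GG :=
  Subgroup.subset_closure (Or.inr ⟨α, h, rfl⟩)

/-- compatibility of the two components -/
def Compat (y : GL ι F × SL(2, d.R)) : Prop :=
  ∀ a b, act y.1 (d.J a b) =
    d.J ((y.2 0 0 : Module.End F (Fin N → F)) a + (y.2 0 1 : Module.End F (Fin N → F)) b)
      ((y.2 1 0 : Module.End F (Fin N → F)) a + (y.2 1 1 : Module.End F (Fin N → F)) b)

/-- the properties of the elements of the group -/
structure Nice (y : GL ι F × SL(2, d.R)) : Prop where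
  compat : d.Compat y
  fix : ∀ v, d.pz v = 0 → d.pD v = 0 → act y.1 v = v
  wv : ∀ v, act y.1 v - v ∈ d.WV
  rj : ∀ b, act y.1 (d.jD b) - d.jD b ∈ d.RJ

theorem nice_one : d.Nice 1 := by
  refine ⟨fun a b => ?_, fun v _ _ => act_one v, fun v => by simp [act_one], fun b => by simp [act_one]⟩
  simp [act_one]

theorem nice_mul {x y : GL ι F × SL(2, d.R)} (hx : d.Nice x) (hy : d.Nice y) : d.Nice (x * y) := by
  have hwv : ∀ v ∈ d.WV, act x.1 v ∈ d.WV := fun v hv => by
    have := d.WV.add_mem (hx.wv v) hv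
    rwa [sub_add_cancel] at this
  have hrj : ∀ v ∈ d.RJ, act x.1 v ∈ d.RJ := fun v hv => by
    obtain ⟨a, b, rfl⟩ := d.mem_RJ.1 hv
    exact d.mem_RJ.2 ⟨_, _, hx.compat a b⟩
  refine ⟨fun a b => ?_, fun v h1 h2 => ?_, fun v => ?_, fun b => ?_⟩
  · show act (x.1 * y.1) _ = _
    rw [act_mul, hy.compat, hx.compat]
    simp only [Prod.snd_mul, Matrix.SpecialLinearGroup.coe_mul, Matrix.mul_apply, Fin.sum_univ_two, Subring.coe_add,
      Subring.coe_mul, LinearMap.add_apply, Module.End.mul_apply, map_add]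
    congr 1 <;> abel
  · show act (x.1 * y.1) v = v
    rw [act_mul, hy.fix v h1 h2, hx.fix v h1 h2]
  · show act (x.1 * y.1) v - v ∈ _
    rw [act_mul, show act x.1 (act y.1 v) - v = act x.1 (act y.1 v - v) + (act x.1 v - v) by rw [map_sub]; abel]
    exact d.WV.add_mem (hwv _ (hy.wv v)) (hx.wv v)
  · show act (x.1 * y.1) _ - _ ∈ _
    rw [act_mul, show act x.1 (act y.1 (d.jD b)) - d.jD b =
      act x.1 (act y.1 (d.jD b) - d.jD b) + (act x.1 (d.jD b) - d.jD b) by rw [map_sub]; abel]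
    exact d.RJ.add_mem (hrj _ (hy.rj b)) (hx.rj b)

theorem nice_r {β : F} (h : β + d.σ β = 0) : d.Nice (d.r β, d.up β h) := by
  refine ⟨fun a b => ?_, fun v h1 _ => ?_, fun v => ?_, fun b => ?_⟩
  · show act (d.r β) _ = _
    rw [d.act_r]
    simp [J, up, sc, Yr, Y_apply, d.hzz, map_add, map_smul, smul_smul]
    abel
  · show act (d.r β) v = v
    rw [d.act_r, h1, map_zero, smul_zero, add_zero]
  · show act (d.r β) v - v ∈ _
    rw [d.act_r, add_sub_cancel_left]
    exact Submodule.smul_mem _ _ (Submodule.mem_sup_left (LinearMap.mem_range_self _ _))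
  · show act (d.r β) _ - _ ∈ _
    rw [d.act_r, add_sub_cancel_left]
    exact Submodule.smul_mem _ _ (Submodule.mem_sup_left (LinearMap.mem_range_self _ _))

theorem nice_s {α : F} (h : α + d.σ α = 0) : d.Nice (d.s α, d.low α h) := by
  refine ⟨fun a b => ?_, fun v _ h2 => ?_, fun v => ?_, fun b => ?_⟩
  · show act (d.s α) _ = _
    rw [d.act_s]
    simp [J, low, sc, X, d.hDD, map_add, map_smul, smul_smul, mul_div_cancel₀ _ d.θ_ne]
    abel
  · show act (d.s α) v = v
    rw [d.act_s, h2, map_zero, smul_zero, add_zero]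
  · show act (d.s α) v - v ∈ _
    rw [d.act_s, add_sub_cancel_left]
    exact Submodule.smul_mem _ _ (Submodule.mem_sup_right (LinearMap.mem_range_self _ _))
  · show act (d.s α) _ - _ ∈ _
    rw [d.act_s, d.hDD, map_zero, smul_zero, add_zero, sub_self]
    exact d.RJ.zero_mem

variable [Fintype F]

instance finite_R : Finite d.R :=
  Finite.of_injective (fun (e : d.R) (v : Fin N → F) => (e : Module.End F (Fin N → F)) v) fun a b h =>
    Subtype.ext (LinearMap.ext fun v => congrFun h v)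

instance finite_SL : Finite SL(2, d.R) :=
  Finite.of_injective (fun A : SL(2, d.R) => fun i j => A i j) fun A B h =>
    Subtype.ext (Matrix.ext fun i j => congrFun (congrFun h i) j)

theorem nice {y : GL ι F × SL(2, d.R)} (hy : y ∈ d.GG) : d.Nice y := by
  induction hy using Subgroup.closure_induction with
  | mem x hx =>
    rcases hx with ⟨β, h, rfl⟩ | ⟨α, h, rfl⟩
    · exact d.nice_r h
    · exact d.nice_s h
  | one => exact d.nice_one
  | mul x z _ _ hx hz => exact d.nice_mul hx hz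
  | inv x _ hx =>
    have hpow : ∀ n : ℕ, d.Nice (x ^ n) := fun n => by
      induction n with
      | zero => rw [pow_zero]; exact d.nice_one
      | succ n ih => rw [pow_succ]; exact d.nice_mul ih hx
    have h1 := orderOf_pos x
    have e : x ^ (orderOf x - 1) = x⁻¹ := eq_inv_of_mul_eq_one_left (by
      rw [← pow_succ, Nat.sub_add_cancel h1, pow_orderOf_eq_one])
    exact e ▸ hpow _

/-- an element acting trivially on the span -/
theorem pow_eq_one_of_snd (p : ℕ) [Fact p.Prime] [CharP F p] {y : GL ι F × SL(2, d.R)} (hy : y ∈ d.GG)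
    (h1 : y.2 = 1) : y.1 ^ p ^ 2 = 1 := by
  have hn := d.nice hy
  have hRJ : ∀ v ∈ d.RJ, act y.1 v = v := fun v hv => by
    obtain ⟨a, b, rfl⟩ := d.mem_RJ.1 hv
    rw [hn.compat, h1]
    simp
  have hW2 : ∀ v ∈ d.WV, act y.1 v - v ∈ d.RJ := by
    intro v hv
    obtain ⟨_, ⟨a, rfl⟩, _, ⟨b, rfl⟩, rfl⟩ := Submodule.mem_sup.1 hv
    rw [map_add, hRJ _ (Submodule.mem_sup_left (LinearMap.mem_range_self _ a)), add_sub_add_left_eq_sub]
    exact hn.rj b
  rcases isEmpty_or_nonempty ι with hι | hι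
  · exact gl_ext fun x => funext fun i => isEmptyElim i
  haveI : CharP (Matrix ι ι F) p := Matrix.charP p
  obtain ⟨M, hM⟩ : ∃ M : Matrix ι ι F, M = (y.1 : Matrix ι ι F) - 1 := ⟨_, rfl⟩
  have hMv : ∀ v, M *ᵥ v = act y.1 v - v := fun v => by
    rw [hM, Matrix.sub_mulVec, Matrix.one_mulVec, MaxCl.act_apply]
  have h3 : M ^ 3 = 0 := by
    refine Matrix.toLin'.injective (LinearMap.ext fun v => ?_)
    rw [map_zero, LinearMap.zero_apply, Matrix.toLin'_apply, pow_succ, pow_two, ← Matrix.mulVec_mulVec,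
      ← Matrix.mulVec_mulVec, hMv (v := v), hMv (v := act y.1 v - v)]
    rw [hMv, hRJ _ (hW2 _ (hn.wv v)), sub_self]
  apply Units.ext
  have hg : (y.1 : Matrix ι ι F) = 1 + M := by rw [hM]; abel
  rw [Units.val_pow_eq_pow_val, hg, add_pow_char_pow_of_commute p 2 (Commute.one_left M), one_pow,
    pow_eq_zero_of_le (le_trans (Nat.lt_pow_self (n := 2) (Nat.Prime.one_lt Fact.out) |>.nat_succ_le) le_rfl) h3,
    add_zero]
  rfl

/-- a nilpotent pairing gives a `p`-group -/
theorem isPGroup_of_nilpotent (p : ℕ) [Fact p.Prime] [CharP F p] (hN : 0 < N) (hY : IsNilpotent d.Yr) :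
    IsPGroup p d.GG := by
  classical
  have hI : ∀ e ∈ Ideal.span {d.Yr}, IsNilpotent e := fun e he => by
    obtain ⟨r, rfl⟩ := Ideal.mem_span_singleton'.1 he
    exact (Commute.all r d.Yr).isNilpotent_mul_left hY
  have hlow : ∀ y ∈ d.GG, y.2 0 1 ∈ Ideal.span {d.Yr} ∧ y.2 0 0 - 1 ∈ Ideal.span {d.Yr} ∧
      y.2 1 1 - 1 ∈ Ideal.span {d.Yr} := by
    intro y hy
    set I := Ideal.span {d.Yr} with hI'
    have hmul : ∀ A B : SL(2, d.R), (A 0 1 ∈ I ∧ A 0 0 - 1 ∈ I ∧ A 1 1 - 1 ∈ I) →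
        (B 0 1 ∈ I ∧ B 0 0 - 1 ∈ I ∧ B 1 1 - 1 ∈ I) →
        ((A * B) 0 1 ∈ I ∧ (A * B) 0 0 - 1 ∈ I ∧ (A * B) 1 1 - 1 ∈ I) := by
      rintro A B ⟨a1, a2, a3⟩ ⟨b1, b2, b3⟩
      simp only [Matrix.SpecialLinearGroup.coe_mul, Matrix.mul_apply, Fin.sum_univ_two]
      refine ⟨I.add_mem (I.mul_mem_left _ b1) (I.mul_mem_right _ a1), ?_, ?_⟩
      · rw [show A 0 0 * B 0 0 + A 0 1 * B 1 0 - 1 = (A 0 0 - 1) * B 0 0 + (B 0 0 - 1) + A 0 1 * B 1 0 by ring]
        exact I.add_mem (I.add_mem (I.mul_mem_right _ a2) b2) (I.mul_mem_right _ a1)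
      · rw [show A 1 0 * B 0 1 + A 1 1 * B 1 1 - 1 = (A 1 1 - 1) * B 1 1 + (B 1 1 - 1) + A 1 0 * B 0 1 by ring]
        exact I.add_mem (I.add_mem (I.mul_mem_right _ a3) b3) (I.mul_mem_left _ b1)
    induction hy using Subgroup.closure_induction with
    | mem x hx =>
      rcases hx with ⟨β, h, rfl⟩ | ⟨α, h, rfl⟩
      · simp [up]
        exact I.mul_mem_left _ (Ideal.mem_span_singleton_self _)
      · simp [low]
    | one => simp
    | mul x z _ _ hx hz => exact hmul _ _ hx hz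
    | inv x _ hx =>
      show x.2⁻¹ 0 1 ∈ I ∧ x.2⁻¹ 0 0 - 1 ∈ I ∧ x.2⁻¹ 1 1 - 1 ∈ I
      rw [Matrix.SpecialLinearGroup.coe_inv, Matrix.adjugate_fin_two]
      simpa using ⟨hx.1, hx.2.2, hx.2.1⟩
  haveI : Nonempty (Fin N) := ⟨⟨0, hN⟩⟩
  haveI : CharP (Module.End F (Fin N → F)) p :=
    charP_of_injective_algebraMap (RingHom.injective (algebraMap F (Module.End F (Fin N → F)))) p
  haveI : CharP d.R p := CharP.subring (Module.End F (Fin N → F)) p d.R
  rintro ⟨y, hy⟩
  obtain ⟨h01, h00, h11⟩ := hlow y hy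
  obtain ⟨n, hpow⟩ := exists_pow_eq_one_of_lower p _ hI y.2 h01 h00 h11
  refine ⟨n + 2, Subtype.ext ?_⟩
  show y ^ p ^ (n + 2) = 1
  have h2 := d.pow_eq_one_of_snd p (pow_mem hy (p ^ n)) hpow
  refine Prod.ext ?_ ?_
  · rw [pow_add, pow_mul]; exact h2
  · rw [pow_add, pow_mul, Prod.pow_snd, Prod.pow_snd, hpow, one_pow]; rfl

end PairData

end Cfsg.Agent.TPow
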