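/-
Finite subgroups of `SL(2, K)` with non-trivial upper and lower unitriangular elements: the order is even, and in
characteristic two the upper triangular elements are not all unipotent when two upper unitriangular parameters occur.
-/
import Cfsg.Agent.Lib.MaxCl.SLTwoSub

set_option autoImplicit false

namespace Cfsg.Agent.TPow.SLTwo

open Matrix Cfsg.Agent.MaxCl
open scoped MatrixGroups

variable {K : Type*} [Field K]

/-- the upper unitriangular element of parameter `a` lies in `G` -/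
def Upper (G : Subgroup SL(2, K)) (a : K) : Prop :=
  ∃ x ∈ G, x 0 0 = 1 ∧ x 1 0 = 0 ∧ x 1 1 = 1 ∧ x 0 1 = a

/-- the lower unitriangular element of parameter `a` lies in `G` -/
def Lower (G : Subgroup SL(2, K)) (a : K) : Prop :=
  ∃ x ∈ G, x 0 0 = 1 ∧ x 0 1 = 0 ∧ x 1 1 = 1 ∧ x 1 0 = a

theorem upper_iff {G : Subgroup SL(2, K)} {a : K} : Upper G a ↔ MaxCl.SLTwo.ux a ∈ G := by
  refine ⟨?_, fun h => ⟨_, h, by simp, by simp, by simp, by simp⟩⟩
  rintro ⟨x, hx, h00, h10, h11, h01⟩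
  rwa [show MaxCl.SLTwo.ux a = x by apply MaxCl.SLTwo.ext2 <;> simp [h00, h01, h10, h11]]

theorem two_dvd_card (G : Subgroup SL(2, K)) [Finite G] {a b : K} (ha : a ≠ 0) (hU : Upper G a) (hb : b ≠ 0)
    (hL : Lower G b) : 2 ∣ Nat.card G := by
  obtain ⟨g₀, hg₀, -, -, -, h10⟩ := hL
  have hu := upper_iff.1 hU
  by_cases h2 : (2 : K) = 0
  · have ho : orderOf (⟨_, hu⟩ : G) = 2 := by
      refine orderOf_eq_prime ?_ fun e => ha (MaxCl.SLTwo.ux_injective ?_)
      · refine Subtype.ext ?_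
        rw [pow_two, Subgroup.coe_mul, MaxCl.SLTwo.ux_add, show a + a = 0 by linear_combination a * h2,
          MaxCl.SLTwo.ux_zero]
        rfl
      · rw [MaxCl.SLTwo.ux_zero]
        exact congrArg Subtype.val e
    exact (dvd_of_eq ho.symm).trans (orderOf_dvd_natCard _)
  have hneg := MaxCl.SLTwo.neg_one_mem h2 G ha hu hg₀ (h10 ▸ hb)
  have ho : orderOf (⟨_, hneg⟩ : G) = 2 := by
    refine orderOf_eq_prime (Subtype.ext (by simp [pow_two])) fun e => h2 ?_
    have e' := congrArg (fun g : G => (g : SL(2, K)) 0 0) e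
    simp at e'
    linear_combination -e'
  exact (dvd_of_eq ho.symm).trans (orderOf_dvd_natCard _)

theorem not_borel_unipotent (G : Subgroup SL(2, K)) [Finite G] (h2 : (2 : K) = 0) {a a' b : K} (ha : a ≠ 0)
    (ha' : a' ≠ 0) (hne : a ≠ a') (hU : Upper G a) (hU' : Upper G a') (hb : b ≠ 0) (hL : Lower G b)
    (hB : ∀ x ∈ G, x 1 0 = 0 → x 0 0 = 1) : False := by
  obtain ⟨g₀, hg₀, -, -, -, h10⟩ := hL
  obtain ⟨d, hd, hd10, hd'⟩ :=
    MaxCl.SLTwo.exists_borel h2 G ha (upper_iff.1 hU) hg₀ (h10 ▸ hb) (upper_iff.1 hU') ha'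
  rw [hB d hd hd10, one_mul, one_mul] at hd'
  exact hne hd'

end Cfsg.Agent.TPow.SLTwo
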