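/-
When the pairing is not nilpotent, the two root groups generate, through a field image of `SL(2, R)`, a non-trivial
involution in odd characteristic, and in characteristic two an element of odd order normalising a 2-group with a
parameter other than one.
-/
import Cfsg.Agent.Lib.TPow.PairGroup
import Cfsg.Agent.Lib.TPow.SLTwoCount

set_option autoImplicit false
set_option maxHeartbeats 1000000
set_option synthInstance.maxHeartbeats 200000

namespace Cfsg.Agent.TPow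

open scoped MatrixGroups Matrix IsMulCommutative
open MaxCl (act gl_ext act_mul act_one)

variable {ι : Type} [Fintype ι] [DecidableEq ι] {F : Type*} [Field F] {N : ℕ}

theorem slExt {R : Type*} [CommRing R] {A B : SL(2, R)} (h00 : A 0 0 = B 0 0) (h01 : A 0 1 = B 0 1)
    (h10 : A 1 0 = B 1 0) (h11 : A 1 1 = B 1 1) : A = B :=
  Subtype.ext (by ext i j; fin_cases i <;> fin_cases j <;> assumption)

theorem frob_eq_one {K : Type*} [Field K] (h2 : (2 : K) = 0) : ∀ (a : ℕ) (x : K), x ^ 2 ^ a = 1 → x = 1 := by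
  intro a
  induction a with
  | zero => intro x hx; simpa using hx
  | succ a ih =>
    intro x hx
    rw [pow_succ', pow_mul] at hx
    have h1 := ih _ hx
    have : (x - 1) * (x - 1) = 0 := by linear_combination h1 + (1 - x) * h2
    exact sub_eq_zero.1 (mul_self_eq_zero.1 this)

/-- products of upper unitriangular matrices -/
theorem uni_mul {R : Type*} [CommRing R] {A B C : SL(2, R)} (a00 : A 0 0 = 1) (a10 : A 1 0 = 0) (a11 : A 1 1 = 1)
    (b00 : B 0 0 = 1) (b10 : B 1 0 = 0) (b11 : B 1 1 = 1) (c00 : C 0 0 = 1) (c10 : C 1 0 = 0) (c11 : C 1 1 = 1)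
    (h : A 0 1 + B 0 1 = C 0 1) : A * B = C :=
  slExt (by simp [Matrix.mul_apply, Fin.sum_univ_two, a00, b00, b10, c00])
    (by simp [Matrix.mul_apply, Fin.sum_univ_two, a00, b11, ← h, add_comm])
    (by simp [Matrix.mul_apply, Fin.sum_univ_two, a10, a11, b10, c10])
    (by simp [Matrix.mul_apply, Fin.sum_univ_two, a10, a11, b11, c11])

/-- an upper unitriangular matrix without parameter -/
theorem uni_one {R : Type*} [CommRing R] {A : SL(2, R)} (a00 : A 0 0 = 1) (a01 : A 0 1 = 0) (a10 : A 1 0 = 0)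
    (a11 : A 1 1 = 1) : A = 1 :=
  slExt (by simp [a00]) (by simp [a01]) (by simp [a10]) (by simp [a11])

namespace PairData

variable (d : PairData ι F N)

theorem sc_add (a b : F) (ha : d.σ a = a) (hb : d.σ b = b) :
    d.sc a ha + d.sc b hb = d.sc (a + b) (by rw [map_add, ha, hb]) :=
  Subtype.ext (add_smul a b (1 : Module.End F (Fin N → F))).symm

theorem sc_eq (a b : F) (ha : d.σ a = a) (hb : d.σ b = b) (h : a = b) : d.sc a ha = d.sc b hb := by
  subst h; rfl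

theorem sc_zero : d.sc 0 (map_zero d.σ) = 0 := Subtype.ext (zero_smul F (1 : Module.End F (Fin N → F)))

theorem sc_one : d.sc 1 (map_one d.σ) = 1 := Subtype.ext (one_smul F (1 : Module.End F (Fin N → F)))

theorem r_mul (b b' : F) : d.r b * d.r b' = d.r (b + b') := gl_ext fun v => by
  rw [act_mul, d.act_r, d.act_r, d.act_r, map_add, map_smul, d.hzz, smul_zero, add_zero, add_smul]
  abel

theorem r_zero : d.r 0 = 1 := gl_ext fun v => by rw [d.act_r, act_one, zero_smul, add_zero]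

theorem up_zero : d.up 0 (by simp) = 1 :=
  uni_one rfl (by
    show d.sc (0 * d.θ) _ * d.Yr = 0
    rw [sc_eq d (0 * d.θ) 0 _ (map_zero d.σ) (zero_mul _), sc_zero, zero_mul]) rfl rfl

theorem r_pair_mul {β β' : F} (h : β + d.σ β = 0) (h' : β' + d.σ β' = 0) :
    (d.r β, d.up β h) * (d.r β', d.up β' h') =
      (d.r (β + β'), d.up (β + β') (by rw [map_add]; linear_combination h + h')) := by
  refine Prod.ext (d.r_mul β β') (uni_mul rfl rfl rfl rfl rfl rfl rfl rfl rfl ?_)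
  show d.sc _ _ * d.Yr + d.sc _ _ * d.Yr = d.sc _ _ * d.Yr
  rw [← add_mul, sc_add, sc_eq d _ ((β + β') * d.θ) _ _ (by ring)]

theorem r_pair_zero : (d.r 0, d.up 0 (by simp)) = 1 := Prod.ext d.r_zero d.up_zero

theorem not_map_sc_zero {K : Type*} [Field K] (φ : d.R →+* K) (a : F) (ha : d.σ a = a) (ha0 : a ≠ 0) :
    φ (d.sc a ha) ≠ 0 := by
  intro e
  have h1 : d.sc a ha * d.sc a⁻¹ (show d.σ a⁻¹ = a⁻¹ by rw [map_inv₀, ha]) = 1 := Subtype.ext (by
    show (a • (1 : Module.End F (Fin N → F))) * (a⁻¹ • (1 : Module.End F (Fin N → F))) = 1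
    rw [smul_mul_assoc, one_mul, smul_smul, mul_inv_cancel₀ ha0, one_smul])
  have h2 := congrArg φ h1
  rw [map_mul, e, zero_mul, map_one] at h2
  exact zero_ne_one h2

/-- the map to `SL(2)` over a field -/
def toSL {K : Type*} [Field K] (φ : d.R →+* K) : GL ι F × SL(2, d.R) →* SL(2, K) :=
  (Matrix.SpecialLinearGroup.map φ).comp (MonoidHom.snd (GL ι F) SL(2, d.R))

theorem toSL_apply {K : Type*} [Field K] (φ : d.R →+* K) (y : GL ι F × SL(2, d.R)) (i j : Fin 2) :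
    d.toSL φ y i j = φ (y.2 i j) := rfl

theorem upper_image {K : Type*} [Field K] (φ : d.R →+* K) {β : F} (h : β + d.σ β = 0) :
    SLTwo.Upper (d.GG.map (d.toSL φ)) (φ (d.sc (β * d.θ) (d.fixed_up h)) * φ d.Yr) :=
  ⟨d.toSL φ (d.r β, d.up β h), ⟨_, d.r_mem h, rfl⟩, by simp [toSL_apply, up], by simp [toSL_apply, up],
    by simp [toSL_apply, up], by simp [toSL_apply, up]⟩

theorem lower_image {K : Type*} [Field K] (φ : d.R →+* K) {α : F} (h : α + d.σ α = 0) :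
    SLTwo.Lower (d.GG.map (d.toSL φ)) (φ (d.sc (α / d.θ) (d.fixed_low h))) :=
  ⟨d.toSL φ (d.s α, d.low α h), ⟨_, d.s_mem h, rfl⟩, by simp [toSL_apply, low], by simp [toSL_apply, low],
    by simp [toSL_apply, low], by simp [toSL_apply, low]⟩

variable [Fintype F]

theorem exists_field_hom (hY : ¬ IsNilpotent d.Yr) :
    ∃ Jp : Ideal d.R, ∃ _ : Jp.IsPrime,
      algebraMap (d.R ⧸ Jp) (FractionRing (d.R ⧸ Jp)) (Ideal.Quotient.mk Jp d.Yr) ≠ 0 := by
  rw [nilpotent_iff_mem_prime] at hY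
  push Not at hY
  obtain ⟨Jp, hJp, hYJ⟩ := hY
  haveI := hJp
  refine ⟨Jp, hJp, ?_⟩
  rw [Ne, map_eq_zero_iff _ (IsFractionRing.injective (d.R ⧸ Jp) _), Ideal.Quotient.eq_zero_iff_mem]
  exact hYJ

/-- odd characteristic: a non-trivial involution with scalar second component -/
theorem exists_involution (h2 : (2 : F) ≠ 0) (hY : ¬ IsNilpotent d.Yr) :
    ∃ y ∈ d.GG, y ≠ 1 ∧ y * y = 1 ∧ y.2 0 1 = 0 ∧ y.2 1 0 = 0 ∧ y.2 0 0 = y.2 1 1 := by
  obtain ⟨Jp, hJp, hφY⟩ := d.exists_field_hom hY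
  haveI := hJp
  set φ : d.R →+* FractionRing (d.R ⧸ Jp) :=
    (algebraMap (d.R ⧸ Jp) (FractionRing (d.R ⧸ Jp))).comp (Ideal.Quotient.mk Jp) with hφ
  have hdvd : 2 ∣ Nat.card d.GG := by
    haveI : Finite (d.GG.map (d.toSL φ)) :=
      Finite.of_surjective (fun y : d.GG => (⟨d.toSL φ y.1, y.1, y.2, rfl⟩ : d.GG.map (d.toSL φ))) (by
        rintro ⟨_, y, hy, rfl⟩; exact ⟨⟨y, hy⟩, rfl⟩)
    exact (SLTwo.two_dvd_card _ (mul_ne_zero (d.not_map_sc_zero φ _ _ (mul_ne_zero d.θ_ne d.θ_ne)) hφY)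
      (d.upper_image φ d.hθ) (d.not_map_sc_zero φ _ _ (div_ne_zero d.θ_ne d.θ_ne)) (d.lower_image φ d.hθ)).trans
        (Subgroup.card_map_dvd _ _)
  haveI : Fact (2 : ℕ).Prime := ⟨Nat.prime_two⟩
  obtain ⟨⟨y, hy⟩, hy2⟩ := exists_prime_orderOf_dvd_card' 2 hdvd
  have hyy : y * y = 1 := by
    have := pow_orderOf_eq_one (⟨y, hy⟩ : d.GG)
    rw [hy2, pow_two] at this
    exact congrArg Subtype.val this
  have hy1 : y ≠ 1 := fun e => by
    have : orderOf (⟨y, hy⟩ : d.GG) = 1 := orderOf_eq_one_iff.2 (Subtype.ext e)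
    omega
  have hm : y.2 * y.2 = 1 := congrArg Prod.snd hyy
  have hmi : (y.2 : Matrix (Fin 2) (Fin 2) d.R) = Matrix.adjugate (y.2 : Matrix (Fin 2) (Fin 2) d.R) := by
    rw [← Matrix.SpecialLinearGroup.coe_inv, inv_eq_of_mul_eq_one_left hm]
  have half : ∀ e : d.R, e = -e → e = 0 := fun e he => by
    have h : (2 : F) • (e : Module.End F (Fin N → F)) = 0 := by
      rw [two_smul]; nth_rewrite 2 [he]; simp
    exact Subtype.ext ((smul_eq_zero.1 h).resolve_left h2)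
  rw [Matrix.adjugate_fin_two] at hmi
  exact ⟨y, hy, hy1, hyy, half _ (by simpa using congrFun (congrFun hmi 0) 1),
    half _ (by simpa using congrFun (congrFun hmi 1) 0), by simpa using congrFun (congrFun hmi 0) 0⟩

/-- the elements whose lower parameter vanishes in the field -/
def Bor {K : Type*} [Field K] (φ : d.R →+* K) : Subgroup (GL ι F × SL(2, d.R)) where
  carrier := {y | y ∈ d.GG ∧ φ (y.2 1 0) = 0}
  mul_mem' := fun {a b} ha hb => ⟨mul_mem ha.1 hb.1, by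
    simp [Matrix.mul_apply, Fin.sum_univ_two, map_add, map_mul, ha.2, hb.2]⟩
  one_mem' := ⟨one_mem _, by simp⟩
  inv_mem' := fun {a} ha => ⟨inv_mem ha.1, by
    simp [Matrix.SpecialLinearGroup.coe_inv, Matrix.adjugate_fin_two, ha.2]⟩

/-- the upper diagonal parameter -/
def borChar {K : Type*} [Field K] (φ : d.R →+* K) : d.Bor φ →* K where
  toFun y := φ (y.1.2 0 0)
  map_one' := by simp
  map_mul' a b := by simp [Matrix.mul_apply, Fin.sum_univ_two, map_add, map_mul, b.2.2]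

/-- the first root group inside -/
def upGroup {K : Type*} [Field K] (φ : d.R →+* K) (h2 : (2 : F) = 0) : Subgroup (d.borChar φ).ker where
  carrier := {y | ∃ β, ∃ h : β + d.σ β = 0, (y : d.Bor φ).1 = (d.r β, d.up β h)}
  mul_mem' := fun {a b} ha hb => by
    obtain ⟨β, h, ha⟩ := ha; obtain ⟨β', h', hb⟩ := hb
    exact ⟨β + β', _, by show (a : d.Bor φ).1 * (b : d.Bor φ).1 = _; rw [ha, hb, d.r_pair_mul h h']⟩
  one_mem' := ⟨0, _, d.r_pair_zero.symm⟩
  inv_mem' := fun {a} ha => by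
    obtain ⟨β, h, ha⟩ := ha
    refine ⟨β, h, ?_⟩
    show (a : d.Bor φ).1⁻¹ = _
    rw [ha, inv_eq_iff_mul_eq_one, d.r_pair_mul h h, ← d.r_pair_zero]
    have : β + β = 0 := by linear_combination β * h2
    simp [this]

/-- characteristic two: an element of odd order normalising a 2-group, with non-trivial parameter -/
theorem exists_odd_element (h2 : (2 : F) = 0) {lam : F} (hlam : d.σ lam = lam) (hlam0 : lam ≠ 0) (hlam1 : lam ≠ 1)
    (hN : 0 < N) (hY : ¬ IsNilpotent d.Yr) :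
    ∃ y ∈ d.GG, (∃ m, Odd m ∧ y ^ m = 1) ∧ d.Yr * (y.2 0 0 - 1) ≠ 0 ∧
      ∃ H : Subgroup (GL ι F), IsPGroup 2 H ∧ H ≤ d.GG.map (MonoidHom.fst (GL ι F) SL(2, d.R)) ∧
        ∀ β, β + d.σ β = 0 → d.r β ∈ H ∧ y.1 * d.r β * y.1⁻¹ ∈ H := by
  classical
  obtain ⟨Jp, hJp, hφY⟩ := d.exists_field_hom hY
  haveI := hJp
  set φ : d.R →+* FractionRing (d.R ⧸ Jp) :=
    (algebraMap (d.R ⧸ Jp) (FractionRing (d.R ⧸ Jp))).comp (Ideal.Quotient.mk Jp) with hφ
  have h2' : (2 : FractionRing (d.R ⧸ Jp)) = 0 := by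
    have : (2 : d.R) = 0 := by
      rw [← one_add_one_eq_two, ← sc_one, sc_add, sc_eq d (1 + 1) 0 _ (map_zero d.σ) (one_add_one_eq_two.trans h2),
        sc_zero]
    rw [← map_ofNat φ 2, this, map_zero]
  have hθ' : (lam * d.θ) + d.σ (lam * d.θ) = 0 := by rw [map_mul, hlam]; linear_combination lam * d.hθ
  haveI : Finite (d.GG.map (d.toSL φ)) :=
    Finite.of_surjective (fun y : d.GG => (⟨d.toSL φ y.1, y.1, y.2, rfl⟩ : d.GG.map (d.toSL φ))) (by
      rintro ⟨_, y, hy, rfl⟩; exact ⟨⟨y, hy⟩, rfl⟩)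
  obtain ⟨y₀, hy₀, h10, h00⟩ : ∃ y ∈ d.GG, φ (y.2 1 0) = 0 ∧ φ (y.2 0 0) ≠ 1 := by
    by_contra hno
    push Not at hno
    refine SLTwo.not_borel_unipotent (d.GG.map (d.toSL φ)) h2'
      (mul_ne_zero (d.not_map_sc_zero φ _ _ (mul_ne_zero d.θ_ne d.θ_ne)) hφY)
      (mul_ne_zero (d.not_map_sc_zero φ _ _ (mul_ne_zero (mul_ne_zero hlam0 d.θ_ne) d.θ_ne)) hφY) ?_
      (d.upper_image φ d.hθ) (d.upper_image φ hθ')
      (d.not_map_sc_zero φ _ _ (div_ne_zero d.θ_ne d.θ_ne)) (d.lower_image φ d.hθ) ?_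
    · intro e
      have e' := mul_right_cancel₀ hφY e
      rw [← sub_eq_zero, ← map_sub] at e'
      refine d.not_map_sc_zero φ (d.θ * d.θ - lam * d.θ * d.θ)
        (by rw [map_sub, d.fixed_up d.hθ, d.fixed_up hθ']) ?_ ?_
      · rw [show d.θ * d.θ - lam * d.θ * d.θ = (1 - lam) * (d.θ * d.θ) by ring]
        exact mul_ne_zero (sub_ne_zero.2 (Ne.symm hlam1)) (mul_ne_zero d.θ_ne d.θ_ne)
      · refine Eq.trans ?_ e'
        congr 1
        exact Subtype.ext (sub_smul (d.θ * d.θ) (lam * d.θ * d.θ) (1 : Module.End F (Fin N → F)))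
    · rintro _ ⟨y, hy, rfl⟩ h
      exact hno y hy h
  haveI : Finite (d.Bor φ) := Finite.of_injective _ Subtype.val_injective
  have hU2 : IsPGroup 2 (d.upGroup φ h2) := by
    rintro ⟨a, ha⟩
    refine ⟨1, Subtype.ext ?_⟩
    show a ^ (2 ^ 1) = 1
    rw [pow_one, pow_two]
    obtain ⟨β, h, e⟩ := ha
    refine Subtype.ext (Subtype.ext ?_)
    show (a : d.Bor φ).1 * (a : d.Bor φ).1 = 1
    rw [e, d.r_pair_mul h h, ← d.r_pair_zero]
    have : β + β = 0 := by linear_combination β * h2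
    simp [this]
  haveI : Fact (2 : ℕ).Prime := ⟨Nat.prime_two⟩
  obtain ⟨S, hS⟩ := hU2.exists_le_sylow
  obtain ⟨n, hn, l, hl, hnl⟩ := Subgroup.mem_sup_of_normal_right.1
    ((Sylow.normalizer_sup_eq_top S).ge (Subgroup.mem_top (⟨y₀, hy₀, h10⟩ : d.Bor φ)))
  obtain ⟨a, m, hmodd, hord⟩ := Nat.exists_eq_two_pow_mul_odd (orderOf_pos n).ne'
  have hχn : d.borChar φ n ≠ 1 := fun e => h00 (by
    show d.borChar φ ⟨y₀, hy₀, h10⟩ = 1
    rw [← hnl, map_mul, MonoidHom.mem_ker.1 hl, e, mul_one])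
  obtain ⟨n', hn'⟩ : ∃ n', n' = n ^ 2 ^ a := ⟨_, rfl⟩
  have hn'm : n' ^ m = 1 := by rw [hn', ← pow_mul, ← hord, pow_orderOf_eq_one]
  refine ⟨n'.1, n'.2.1, ⟨m, hmodd, congrArg Subtype.val hn'm⟩, fun e => ?_,
    (S : Subgroup (d.borChar φ).ker).map
      ((MonoidHom.fst (GL ι F) SL(2, d.R)).comp ((d.Bor φ).subtype.comp (d.borChar φ).ker.subtype)),
    S.isPGroup'.map _, ?_, fun β hβ => ?_⟩
  · apply hχn
    refine frob_eq_one h2' a _ ?_
    rw [← map_pow, ← hn']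
    show φ (n'.1.2 0 0) = 1
    have e' := congrArg φ e
    rw [map_mul, map_zero, map_sub, map_one, mul_eq_zero, sub_eq_zero] at e'
    exact e'.resolve_left hφY
  · rintro _ ⟨s, -, rfl⟩
    exact ⟨_, (s : d.Bor φ).2.1, rfl⟩
  · have hb : (d.r β, d.up β hβ) ∈ d.Bor φ := ⟨d.r_mem hβ, by simp [up]⟩
    have hk : (⟨_, hb⟩ : d.Bor φ) ∈ (d.borChar φ).ker := MonoidHom.mem_ker.2 (by
      show φ ((d.up β hβ) 0 0) = 1
      simp [up])
    have hmem : (⟨⟨_, hb⟩, hk⟩ : (d.borChar φ).ker) ∈ (S : Subgroup (d.borChar φ).ker) := hS ⟨β, hβ, rfl⟩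
    refine ⟨⟨_, hmem, rfl⟩, ?_⟩
    have hn'N : n' ∈ Subgroup.normalizer
        (((S : Subgroup (d.borChar φ).ker).map (d.borChar φ).ker.subtype : Subgroup (d.Bor φ)) : Set (d.Bor φ)) :=
      hn' ▸ pow_mem hn _
    obtain ⟨s, hs, hse⟩ := (Subgroup.mem_normalizer_iff.1 hn'N ⟨_, hb⟩).1 ⟨_, hmem, rfl⟩
    refine ⟨s, hs, ?_⟩
    show ((d.Bor φ).subtype ((d.borChar φ).ker.subtype s)).1 = _
    rw [hse]; rfl

end PairData

end Cfsg.Agent.TPow
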