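/-
Factors of dimension three: two root groups with no common plane generate a group acting through `SL(2)` over a
commutative ring; its involutions, or its elements of odd order normalising a Sylow 2-subgroup, are trivial.
-/
import Mathlib
import Cfsg.Agent.Lib.TPow.Linear
import Cfsg.Agent.Lib.TPow.PairField

set_option autoImplicit false

namespace Cfsg.Agent.TPow

open scoped MatrixGroups Matrix IsMulCommutative
open Module (finrank)
open MaxCl (act gl_ext act_mul act_one act_inv_act act_act_inv act_apply act_injective exists_dual)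
open MaxCl.Unit (uiso flinU utv uperp)
open MaxCl.Tens (pt gl gl_one ptL ptL_apply cR cR_pt proj proj_pt root act_root root_mul pt_eq_zero)

variable {ι : Type} [Fintype ι] [DecidableEq ι] {F : Type*} [Field F] {k t : ℕ}

/-- three factors in dimension three: more than twice `k ^ (t + 1)` -/
theorem three_factors (hk : k = 3) (X : PS ι F k (t + 1 + 1)) {i i₁ i₂ : Fin (t + 1 + 1)} (h1 : i₁ ≠ i) (h2 : i₂ ≠ i)
    (h12 : i₁ ≠ i₂) {z z₁ z₂ : Fin k → F} (hz : z ≠ 0) (hz₁ : z₁ ≠ 0) (hz₂ : z₂ ≠ 0) {W : Submodule F (ι → F)}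
    (hW : LinearMap.range (ptL (split X i) z) ≤ W) (hW₁ : LinearMap.range (ptL (split X i₁) z₁) ≤ W)
    (hW₂ : LinearMap.range (ptL (split X i₂) z₂) ≤ W) : 2 * k ^ (t + 1) < finrank F W := by
  rcases t with _ | t
  · exfalso
    have := Fin.val_ne_of_ne h1; have := Fin.val_ne_of_ne h2; have := Fin.val_ne_of_ne h12
    have := i.isLt; have := i₁.isLt; have := i₂.isLt
    omega
  obtain ⟨j₁, j₁', hj₁, hj₁'⟩ := exists_succ_pair h1.symm
  obtain ⟨j₂, j₂', hj₂, hj₂'⟩ := exists_succ_pair h2.symm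
  have hj : j₁ ≠ j₂ := fun e => h12 (by rw [← hj₁, ← hj₂, e])
  obtain ⟨e₁, he₁⟩ : ∃ e, e ∉ F ∙ z := by
    obtain ⟨e, he, -⟩ := exists_off_lines (by omega : 2 ≤ k) z z
    exact ⟨e, he⟩
  obtain ⟨e₂, he₂⟩ : ∃ e, e ∉ F ∙ z ⊔ F ∙ e₁ := by
    by_contra h; push Not at h
    have h1 : finrank F (⊤ : Submodule F (Fin k → F)) ≤ finrank F ↥(F ∙ z ⊔ F ∙ e₁) :=
      Submodule.finrank_mono fun x _ => h x
    rw [finrank_top, Module.finrank_fin_fun, Submodule.finrank_sup_span_singleton he₁,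
      finrank_span_singleton hz] at h1
    omega
  obtain ⟨χ₂, hχ₂0, hχ₂⟩ := exists_dual _ he₂
  obtain ⟨χ₁, hχ₁0, hχ₁⟩ := exists_dual (F ∙ z ⊔ F ∙ e₂) (v := e₁) (by
    intro h
    obtain ⟨x, hx, y, hy, e⟩ := Submodule.mem_sup.1 h
    obtain ⟨r, rfl⟩ := Submodule.mem_span_singleton.1 hy
    rcases eq_or_ne r 0 with rfl | hr
    · exact he₁ (by rw [← e, zero_smul, add_zero]; exact hx)
    · refine he₂ ((Submodule.smul_mem_iff _ hr).1 ?_)
      rw [show r • e₂ = e₁ - x by rw [← e]; abel]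
      exact Submodule.sub_mem _ (Submodule.mem_sup_right (Submodule.mem_span_singleton_self _))
        (Submodule.mem_sup_left hx))
  let Φ : (ι → F) →ₗ[F] (Fin (k ^ (t + 1 + 1)) → F) × (Fin (k ^ (t + 1 + 1)) → F) :=
    (cR (split X i) χ₁).prod (cR (split X i) χ₂)
  set S := LinearMap.range (ptL (split (sub F k (t + 1 + 1)) j₁) z₁) ⊔
    LinearMap.range (ptL (split (sub F k (t + 1 + 1)) j₂) z₂) with hS
  have key : ∀ i' j j' v, i.succAbove j = i' → i'.succAbove j' = i →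
      LinearMap.range (ptL (split X i') v) ≤ W → ∀ u ∈ LinearMap.range (ptL (split (sub F k (t + 1 + 1)) j) v),
        ((u, 0) : _ × (Fin (k ^ (t + 1 + 1)) → F)) ∈ W.map Φ ∧
        ((0, u) : (Fin (k ^ (t + 1 + 1)) → F) × _) ∈ W.map Φ := by
    rintro i' j j' v hj hj' hle _ ⟨δ, rfl⟩
    constructor
    · refine ⟨pt (split X i') (pt (split (sub F k (t + 1 + 1)) j') δ e₁) v, hle ⟨_, rfl⟩, Prod.ext ?_ ?_⟩
      · show cR (split X i) χ₁ _ = _
        rw [cR_ptL X hj hj', cR_pt, hχ₁, one_smul, ptL_apply]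
      · show cR (split X i) χ₂ _ = _
        rw [cR_ptL X hj hj', cR_pt, hχ₂0 e₁ (Submodule.mem_sup_right (Submodule.mem_span_singleton_self _)),
          zero_smul, MaxCl.Tens.pt_zero_left]
    · refine ⟨pt (split X i') (pt (split (sub F k (t + 1 + 1)) j') δ e₂) v, hle ⟨_, rfl⟩, Prod.ext ?_ ?_⟩
      · show cR (split X i) χ₁ _ = _
        rw [cR_ptL X hj hj', cR_pt, hχ₁0 e₂ (Submodule.mem_sup_right (Submodule.mem_span_singleton_self _)),
          zero_smul, MaxCl.Tens.pt_zero_left]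
      · show cR (split X i) χ₂ _ = _
        rw [cR_ptL X hj hj', cR_pt, hχ₂, one_smul, ptL_apply]
  have hSS : LinearMap.range (S.subtype.prodMap S.subtype) ≤ W.map Φ := by
    rintro _ ⟨⟨a, b⟩, rfl⟩
    have ha : S ≤ (W.map Φ).comap (LinearMap.inl F _ _) := sup_le
      (fun u hu => (key i₁ j₁ j₁' z₁ hj₁ hj₁' hW₁ u hu).1) (fun u hu => (key i₂ j₂ j₂' z₂ hj₂ hj₂' hW₂ u hu).1)
    have hb : S ≤ (W.map Φ).comap (LinearMap.inr F _ _) := sup_le
      (fun u hu => (key i₁ j₁ j₁' z₁ hj₁ hj₁' hW₁ u hu).2) (fun u hu => (key i₂ j₂ j₂' z₂ hj₂ hj₂' hW₂ u hu).2)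
    have := (W.map Φ).add_mem (ha a.2) (hb b.2)
    simpa [LinearMap.inl_apply, LinearMap.inr_apply] using this
  have d1 := Submodule.finrank_mono hSS
  rw [LinearMap.finrank_range_of_inj (Function.Injective.prodMap S.injective_subtype S.injective_subtype),
    Module.finrank_prod] at d1
  have hker : (LinearMap.range (ptL (split X i) z)).comap W.subtype ≤ LinearMap.ker (Φ ∘ₗ W.subtype) := by
    rintro x ⟨u, hu⟩
    refine LinearMap.mem_ker.2 ?_
    show Φ (W.subtype x) = 0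
    rw [← hu, ptL_apply]
    show (cR (split X i) χ₁ _, cR (split X i) χ₂ _) = 0
    rw [cR_pt, cR_pt, hχ₁0 z (Submodule.mem_sup_left (Submodule.mem_span_singleton_self _)),
      hχ₂0 z (Submodule.mem_sup_left (Submodule.mem_span_singleton_self _)), zero_smul]
    rfl
  have d2 := Submodule.finrank_mono hker
  rw [(Submodule.comapSubtypeEquivOfLe hW).finrank_eq, finrank_range_ptL _ hz] at d2
  have d3 := LinearMap.finrank_range_add_finrank_ker (Φ ∘ₗ W.subtype)
  rw [LinearMap.range_comp, Submodule.range_subtype] at d3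
  have d4 := Submodule.finrank_sup_add_finrank_inf_eq
    (LinearMap.range (ptL (split (sub F k (t + 1 + 1)) j₁) z₁))
    (LinearMap.range (ptL (split (sub F k (t + 1 + 1)) j₂) z₂))
  have d5 := finrank_range_inf (sub F k (t + 1 + 1)) hj hz₁ hz₂
  rw [finrank_range_ptL _ hz₁, finrank_range_ptL _ hz₂, ← hS] at d4
  have hpos : 0 < k ^ t := Nat.pow_pos (by omega)
  have p1 : k ^ (t + 1) = k ^ t * 3 := by rw [pow_succ, hk]
  have p2 : k ^ (t + 1 + 1) = k ^ t * 3 * 3 := by rw [pow_succ, pow_succ, hk]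
  omega

variable {σ : F ≃+* F} {f : (ι → F) → (ι → F) → F} {f₀ : (Fin k → F) → (Fin k → F) → F} {c : F}
variable [Fintype F]

/-- powers of a normal form -/
theorem normal_pow (X : PS ι F k t) (π : Equiv.Perm (Fin t)) (a : Fin t → GL (Fin k) F) :
    ∀ n : ℕ, ∃ b, (perm X π * pure X a) ^ n = perm X (π ^ n) * pure X b
  | 0 => ⟨1, by rw [pow_zero, pow_zero, perm_one, pure_one, one_mul]⟩
  | n + 1 => by
    obtain ⟨b, hb⟩ := normal_pow X π a n
    exact ⟨_, by rw [pow_succ, hb, normal_mul, ← pow_succ]⟩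

variable {X : PS ι F k (t + 1 + 1)} (P : PF X σ f f₀ c) {M : Subgroup (GL ι F)}
include P

/-- a `p`-subgroup of `M` containing the root group of a factor lies in the wreath subgroup -/
theorem pgroup_le_W (G : Good X f f₀ M) (IH : RigidAt σ f₀ t) {p : ℕ} [Fact p.Prime] {H : Subgroup (GL ι F)}
    (hH : IsPGroup p H) (hHM : H ≤ M) {i : Fin (t + 1 + 1)} {z : Fin k → F} (hz0 : z ≠ 0) (hz : f₀ z z = 0)
    (hroots : ∀ β, β + σ β = 0 → root (split X i) P.h₀ z β ∈ H) : H ≤ W X := by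
  obtain ⟨θ, hθ0, hθ⟩ := MaxCl.Unit.exists_skew P.h₀.ne_refl P.h₀.involutive
  set T : Subgroup H := (W X).subgroupOf H with hT
  by_contra hle
  have hne : T ≠ ⊤ := fun e => hle (Subgroup.subgroupOf_eq_top.1 e)
  haveI : Group.IsNilpotent H := hH.isNilpotent
  have hlt := Group.normalizerCondition_of_isNilpotent T (lt_top_iff_ne_top.2 hne)
  obtain ⟨y, hyN, hyT⟩ := SetLike.exists_of_lt hlt
  apply hyT
  show (y : GL ι F) ∈ W X
  have hconj : ∀ β, β + σ β = 0 → (y : GL ι F) * root (split X i) P.h₀ z β * (y : GL ι F)⁻¹ ∈ W X := fun β hβ =>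
    (Subgroup.mem_normalizer_iff.1 hyN ⟨_, hroots β hβ⟩).1
      (show root (split X i) P.h₀ z β ∈ W X by rw [root_eq_slot]; exact slot_mem X _ _)
  exact mem_W_of_conj_root P IH G G (G.le (hHM y.2))
    (fun x hx => M.mul_mem (M.mul_mem (hHM y.2) hx) (M.inv_mem (hHM y.2))) hz0 hz hθ hθ0 (hconj θ hθ)
    fun _ e he => hconj e he

/-- a line with `D` in none of its planes -/
theorem exists_good_line (G : Good X f f₀ M) (IH : RigidAt σ f₀ t) (hk : k = 3) {g : GL ι F} (hg : g ∈ M)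
    (hgW : g ∉ W X) {i₀ : Fin (t + 1 + 1)} {w : Fin k → F} (hw0 : w ≠ 0) (hw : f₀ w w = 0) :
    ∃ z, z ≠ 0 ∧ f₀ z z = 0 ∧ ∀ v, ¬ (LinearMap.range (ptL (split X i₀) w)).map (act g) ≤
      LT (split X i₀) (F ∙ z ⊔ F ∙ v) := by
  set T := split X i₀ with hT
  have C := P.toTF i₀
  have hgU := G.le hg
  have hN0 : 0 < k ^ (t + 1) := Nat.pow_pos (by omega)
  obtain ⟨D, hDdef⟩ : ∃ D, D = (LinearMap.range (ptL T w)).map (act g) := ⟨_, rfl⟩
  rw [← hDdef]
  have hDdim : finrank F D = k ^ (t + 1) := by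
    rw [hDdef, ← (Submodule.equivMapOfInjective _ (act_injective g) _).finrank_eq, finrank_range_ptL _ hw0]
  by_contra h
  push Not at h
  obtain ⟨v₁, hv₁⟩ := h w hw0 hw
  set P₁ := F ∙ w ⊔ F ∙ v₁ with hP₁
  have hP2 : ∀ a b : Fin k → F, finrank F ↥(F ∙ a ⊔ F ∙ b) ≤ 2 := fun a b => by
    refine (Submodule.finrank_add_le_finrank_add_finrank _ _).trans ?_
    have h1 : finrank F (F ∙ a) ≤ 1 := (finrank_span_le_card _).trans (by simp)
    have h2 : finrank F (F ∙ b) ≤ 1 := (finrank_span_le_card _).trans (by simp)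
    omega
  obtain ⟨z, hz, hzP⟩ : ∃ z, f₀ z z = 0 ∧ z ∉ P₁ := by
    by_contra h'
    push Not at h'
    have := Submodule.finrank_mono (top_le_of_iso P.h₀ (by omega) (Y := P₁) h')
    rw [finrank_top, Module.finrank_fin_fun] at this
    have := hP2 w v₁
    rw [← hP₁] at this
    omega
  have hz0 : z ≠ 0 := fun e => hzP (by rw [e]; exact Submodule.zero_mem _)
  obtain ⟨v₂, hv₂⟩ := h z hz0 hz
  set P₂ := F ∙ z ⊔ F ∙ v₂ with hP₂
  have hD : D ≤ LT T (P₁ ⊓ P₂) := le_trans (le_inf hv₁ hv₂) (LT_inf T)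
  by_cases hb : P₁ ⊓ P₂ = ⊥
  · rw [hb] at hD
    have := Submodule.finrank_mono (hD.trans fun x hx => (Submodule.mem_bot F).2 (eq_zero_of_LT_bot T hx))
    rw [hDdim, finrank_bot] at this
    omega
  obtain ⟨q, hq, hq0⟩ := Submodule.exists_mem_ne_zero_of_ne_bot hb
  have hline : P₁ ⊓ P₂ ≤ F ∙ q := by
    refine (Submodule.eq_of_le_of_finrank_le ((Submodule.span_singleton_le_iff_mem _ _).2 hq) ?_).ge
    rw [finrank_span_singleton hq0]
    by_contra hgt
    have h2 : P₁ ⊓ P₂ = P₂ := Submodule.eq_of_le_of_finrank_le inf_le_right (by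
      have := hP2 z v₂; rw [← hP₂] at this; omega)
    exact hzP (inf_eq_right.1 h2 (Submodule.mem_sup_left (Submodule.mem_span_singleton_self z)))
  have hDq : D ≤ LinearMap.range (ptL T q) := fun x hx =>
    mem_range_of_LT_span T hq0 (LT_mono T hline (hD hx))
  have hDe := Submodule.eq_of_le_of_finrank_le hDq (by rw [finrank_range_ptL _ hq0, hDdim])
  have hqq : f₀ q q = 0 := by
    obtain ⟨u, u', hu⟩ := MaxCl.Tens.exists_ne_two C.hB C.pos
    have m1 : pt T u q ∈ D := hDe ▸ LinearMap.mem_range_self (ptL T q) u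
    have m2 : pt T u' q ∈ D := hDe ▸ LinearMap.mem_range_self (ptL T q) u'
    rw [hDdef] at m1 m2
    obtain ⟨_, ⟨a, rfl⟩, e1⟩ := m1
    obtain ⟨_, ⟨b, rfl⟩, e2⟩ := m2
    have e : f (pt T u q) (pt T u' q) = 0 := by
      rw [← e1, ← e2, MaxCl.Unit.mem_uiso.1 hgU, ptL_apply, ptL_apply, C.form, hw, mul_zero, mul_zero]
    rw [C.form, mul_eq_zero, mul_eq_zero] at e
    exact (e.resolve_left C.c_ne).resolve_left hu
  refine not_le_ker P G IH hg hgW hw0 hw (i₀ := i₀) (j := i₀) hq0 hqq fun u => ?_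
  obtain ⟨a, ha⟩ := hDq (hDdef ▸ Submodule.mem_map_of_mem (LinearMap.mem_range_self (ptL T w) u))
  rw [show act g (pt T u w) = pt T a q from ha.symm, proj_pt, hqq, zero_smul]

/-- the data of the root groups at `z` and at the image of `w` -/
noncomputable def pairData {g : GL ι F} (hgU : g ∈ uiso f) (i₀ : Fin (t + 1 + 1)) {z w : Fin k → F}
    (hz : f₀ z z = 0) (hw : f₀ w w = 0) {θ : F} (hθ0 : θ ≠ 0) (hθ : θ + σ θ = 0) :
    PairData ι F (k ^ (t + 1)) where
  σ := σ
  f := f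
  fB := gramForm σ f₀ (t + 1)
  c := c
  θ := θ
  jz := ptL (split X i₀) z
  jD := act g ∘ₗ ptL (split X i₀) w
  pz := proj (split X i₀) P.h₀ z
  pD := proj (split X i₀) P.h₀ w ∘ₗ act g⁻¹
  r b := root (split X i₀) P.h₀ z b
  s b := g * root (split X i₀) P.h₀ w b * g⁻¹
  hU := P.hU
  hB := (P.toTF i₀).hB
  c_ne := P.c_ne
  hc := (P.toTF i₀).c_fixed
  hpz v u := (P.toTF i₀).form_right v u z
  hpD v u := by
    show f v (act g (pt (split X i₀) u w)) = _
    conv_lhs => rw [← act_act_inv g v, MaxCl.Unit.mem_uiso.1 hgU]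
    exact (P.toTF i₀).form_right _ u w
  hzz a := by rw [ptL_apply, proj_pt, hz, zero_smul]
  hDD a := by
    show proj (split X i₀) P.h₀ w (act g⁻¹ (act g (pt (split X i₀) a w))) = 0
    rw [act_inv_act, proj_pt, hw, zero_smul]
  hθ := hθ
  θ_ne := hθ0
  act_r b v := act_root P.h₀ hz b v
  act_s b v := by
    show act (g * root (split X i₀) P.h₀ w b * g⁻¹) v =
      v + b • act g (pt (split X i₀) (proj (split X i₀) P.h₀ w (act g⁻¹ v)) w)
    rw [act_mul, act_mul, act_root P.h₀ hw, map_add, map_smul, act_act_inv]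

/-- an element `A ⊗ b` fixing the line `z`, trivial on `K_z` modulo `B ⊗ z`, moving only into `W` -/
theorem quadratic_of_line (hk : k = 3) {i₀ : Fin (t + 1 + 1)} {z : Fin k → F} (hz0 : z ≠ 0) (hz : f₀ z z = 0)
    {Wv : Submodule F (ι → F)}
    (hplane : ∀ v, v ∉ F ∙ z → ¬ LinearMap.range (ptL (split X i₀) v) ≤ Wv) {x : GL ι F} (hx : x ∈ uiso f)
    (hmv : ∀ v, act x v - v ∈ Wv) {A : GL (Fin (k ^ (t + 1))) F} {b : GL (Fin k) F}
    (hxe : x = gl (split X i₀) A b) (hl : ∃ l : F, act b z = l • z)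
    (hK : ∀ v, proj (split X i₀) P.h₀ z v = 0 → act x v - v ∈ LinearMap.range (ptL (split X i₀) z)) :
    ∀ v, act x (act x v - v) - (act x v - v) = 0 := by
  obtain ⟨l, hl⟩ := hl
  set T := split X i₀ with hT
  have C := P.toTF i₀
  -- the other factors are scalar
  obtain ⟨v₀, hv₀, hv₀ne⟩ : ∃ v, f₀ v z = 0 ∧ v ∉ F ∙ z := by
    by_contra h
    push Not at h
    have h1 : LinearMap.ker (flinU P.h₀ z) ≤ F ∙ z := fun x hx => h x hx
    have h2 := Submodule.finrank_mono h1
    have h3 := LinearMap.finrank_range_add_finrank_ker (flinU P.h₀ z)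
    have h4 := Submodule.finrank_le (LinearMap.range (flinU P.h₀ z))
    rw [Module.finrank_self] at h4
    rw [Module.finrank_fin_fun] at h3
    rw [finrank_span_singleton hz0] at h2
    omega
  obtain ⟨χ, hχ0, hχ⟩ := exists_dual _ hv₀ne
  have hA : ∀ u, χ (act b v₀) • act A u = u := by
    intro u
    obtain ⟨a, ha⟩ := hK (pt T u v₀) (by rw [proj_pt, hv₀, zero_smul])
    have e := congrArg (cR T χ) ha
    rw [hxe, MaxCl.Tens.act_gl_pt, ptL_apply, map_sub, cR_pt, cR_pt, cR_pt,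
      hχ0 z (Submodule.mem_span_singleton_self z), hχ, zero_smul, one_smul] at e
    exact sub_eq_zero.1 e.symm
  obtain ⟨u₀, hu₀⟩ : ∃ u : Fin (k ^ (t + 1)) → F, u ≠ 0 := ⟨Pi.single ⟨0, C.pos⟩ 1, by simp⟩
  have hs0 : χ (act b v₀) ≠ 0 := fun e => hu₀ (by rw [← hA u₀, e, zero_smul])
  let B : (Fin k → F) →ₗ[F] (Fin k → F) := (χ (act b v₀))⁻¹ • act b - LinearMap.id
  have hB : ∀ u y, act x (pt T u y) - pt T u y = pt T u (B y) := fun u y => by
    rw [hxe, MaxCl.Tens.act_gl_pt]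
    show _ = pt T u ((χ (act b v₀))⁻¹ • act b y - y)
    rw [MaxCl.Tens.pt_sub_right, ← MaxCl.Tens.pt_smul_comm]
    congr 2
    rw [eq_inv_smul_iff₀ hs0, hA]
  have hBz : ∀ y, B y ∈ F ∙ z := fun y => by
    by_contra hy
    refine hplane _ hy ?_
    rintro _ ⟨u, rfl⟩
    rw [ptL_apply, ← hB]
    exact hmv _
  obtain ⟨μ, hμ⟩ : ∃ μ, B z = μ • z := ⟨(χ (act b v₀))⁻¹ * l - 1, by
    show (χ (act b v₀))⁻¹ • act b z - z = _
    rw [hl, smul_smul, sub_smul, one_smul]⟩
  have hμ0 : μ = 0 := by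
    obtain ⟨u, u', hu⟩ := MaxCl.Tens.exists_ne_two C.hB C.pos
    obtain ⟨y, hy⟩ := (P.h₀.nondegenerate z hz0).2
    obtain ⟨r, hr⟩ := Submodule.mem_span_singleton.1 (hBz y)
    have e := MaxCl.Unit.mem_uiso.1 hx (pt T u z) (pt T u' y)
    have ea : ∀ u y, act x (pt T u y) = pt T u (y + B y) := fun u y => by
      rw [MaxCl.Tens.pt_add_right, ← hB]; abel
    rw [ea, ea, C.form, C.form, hμ, ← hr] at e
    have e' := mul_left_cancel₀ hu (mul_left_cancel₀ P.c_ne e)
    simp only [MaxCl.Unit.add_left P.h₀, MaxCl.Unit.add_right P.h₀, MaxCl.Unit.smul_left P.h₀,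
      MaxCl.Unit.smul_right P.h₀, hz] at e'
    have : μ * f₀ z y = 0 := by linear_combination e'
    exact (mul_eq_zero.1 this).resolve_right hy
  intro v
  let L : (ι → F) →ₗ[F] (ι → F) := act x - LinearMap.id
  have : L ∘ₗ L = 0 := MaxCl.Tens.pt_ext T fun u y => by
    show act x (act x (pt T u y) - pt T u y) - (act x (pt T u y) - pt T u y) = 0
    rw [hB, hB]
    obtain ⟨r, hr⟩ := Submodule.mem_span_singleton.1 (hBz y)
    rw [← hr, map_smul, hμ, hμ0, zero_smul, smul_zero, MaxCl.Tens.pt_zero_right]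
  exact LinearMap.congr_fun this v

/-- an element moving into a small span containing `B ⊗ z` and normalising the root group up to `W` fixes the line -/
theorem factor_fixed (hk : k = 3) {i₀ : Fin (t + 1 + 1)} {z : Fin k → F} (hz0 : z ≠ 0)
    {Wv : Submodule F (ι → F)} (hWdim : finrank F Wv ≤ 2 * k ^ (t + 1))
    (hLW : LinearMap.range (ptL (split X i₀) z) ≤ Wv)
    (hplane : ∀ v, v ∉ F ∙ z → ¬ LinearMap.range (ptL (split X i₀) v) ≤ Wv) {x : GL ι F}
    (hinv : ∀ v ∈ Wv, act x v ∈ Wv) (hxW : x ∈ W X) {m : ℕ} (hmodd : Odd m) (hxm : x ^ m = 1) :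
    ∃ A b, x = gl (split X i₀) A b ∧ ∃ l : F, act b z = l • z := by
  obtain ⟨π, av, hπe⟩ := exists_normal X hxW
  have hpowW : ∀ j, ∀ v ∈ Wv, act (x ^ j) v ∈ Wv := by
    intro j
    induction j with
    | zero => intro v hv; rwa [pow_zero, act_one]
    | succ j ih => intro v hv; rw [pow_succ, act_mul]; exact ih _ (hinv v hv)
  have himg : ∀ j, ∃ z', z' ≠ 0 ∧ LinearMap.range (ptL (split X ((π ^ j) i₀)) z') ≤ Wv := by
    intro j
    obtain ⟨b, hb⟩ := normal_pow X π av j
    refine ⟨act (b i₀) z, fun e => hz0 (act_injective (b i₀) (e.trans (map_zero _).symm)), ?_⟩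
    rintro _ ⟨u, rfl⟩
    have h := hpowW j _ (hLW (LinearMap.mem_range_self (ptL (split X i₀) z)
      (act (perm (sub F k (t + 1)) (restPerm i₀ (π ^ j)) *
        pure (sub F k (t + 1)) fun l => b (i₀.succAbove l))⁻¹ u)))
    rw [hπe, hb, ptL_apply, act_normal_split, act_act_inv] at h
    exact h
  obtain ⟨bm, hbm⟩ := normal_pow X π av m
  have hπm : π ^ m = 1 := (normal_eq_one X (by omega) (by rw [← hbm, ← hπe, hxm])).1
  have hπi : π i₀ = i₀ := by
    by_contra hne
    obtain ⟨e, he⟩ := hmodd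
    have h2ne : π (π i₀) ≠ i₀ := by
      intro h
      have hp : ∀ j, (π ^ (2 * j)) i₀ = i₀ := fun j => by
        induction j with
        | zero => simp
        | succ j ih =>
          rw [mul_add, pow_add, Equiv.Perm.mul_apply, show (π ^ (2 * 1)) i₀ = i₀ by simpa [pow_two] using h, ih]
      apply hne
      have := congrArg (fun q : Equiv.Perm _ => q i₀) hπm
      rw [he, pow_succ'] at this
      simpa [hp e] using this
    obtain ⟨z₁, hz₁, hW₁⟩ := himg 1
    obtain ⟨z₂, hz₂, hW₂⟩ := himg 2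
    rw [pow_one] at hW₁
    rw [show (π ^ 2) i₀ = π (π i₀) by simp [pow_two]] at hW₂
    have := three_factors hk X (i := i₀) hne h2ne (fun e => hne (π.injective e).symm) hz0 hz₁ hz₂ hLW hW₁ hW₂
    omega
  obtain ⟨A, hA⟩ : ∃ A, A = perm (sub F k (t + 1)) (restPerm i₀ π) *
    pure (sub F k (t + 1)) fun l => av (i₀.succAbove l) := ⟨_, rfl⟩
  have hact : ∀ u v, act x (pt (split X i₀) u v) = pt (split X i₀) (act A u) (act (av i₀) v) := fun u v => by
    rw [hπe, act_normal_split, hπi, hA]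
  refine ⟨A, av i₀, MaxCl.Tens.gl_ext_pt _ fun u v => by rw [hact, MaxCl.Tens.act_gl_pt], ?_⟩
  suffices h : act (av i₀) z ∈ F ∙ z by
    obtain ⟨l, hl⟩ := Submodule.mem_span_singleton.1 h
    exact ⟨l, hl.symm⟩
  by_contra hne
  refine hplane _ hne ?_
  rintro _ ⟨u, rfl⟩
  have h := hinv _ (hLW (LinearMap.mem_range_self (ptL (split X i₀) z) (act A⁻¹ u)))
  rw [ptL_apply, hact, act_act_inv] at h
  exact h

set_option maxHeartbeats 1000000 in
/-- groups with scalar top elements lie in the wreath subgroup: factors of dimension three -/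
theorem le_W_of_three (G : Good X f f₀ M) (IH : RigidAt σ f₀ t) (hk : k = 3) : M ≤ W X := by
  classical
  intro g hg
  by_contra hgW
  have hgU := G.le hg
  obtain ⟨p, hpC⟩ := CharP.exists F
  haveI := hpC
  haveI : Fact p.Prime := ⟨CharP.char_is_prime F p⟩
  obtain ⟨i₀, w, hw0, hw⟩ : ∃ (_ : Fin (t + 1 + 1)) (w : Fin k → F), w ≠ 0 ∧ f₀ w w = 0 := by
    by_contra h
    push Not at h
    have := Submodule.finrank_mono (top_le_of_iso P.h₀ (by omega) (Y := ⊥) fun v hv => by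
      rw [Submodule.mem_bot]
      by_contra hv0
      exact h 0 v hv0 hv)
    rw [finrank_top, Module.finrank_fin_fun, finrank_bot] at this
    omega
  obtain ⟨z, hz0, hz, hplane⟩ := exists_good_line P G IH hk hg hgW (i₀ := i₀) hw0 hw
  obtain ⟨θ, hθ0, hθ⟩ := MaxCl.Unit.exists_skew P.h₀.ne_refl P.h₀.involutive
  obtain ⟨lam, hlam, hlam0, hlam1⟩ := P.hex hk
  set d := pairData P hgU i₀ hz hw hθ0 hθ with hd
  have C := P.toTF i₀
  have hN0 : 0 < k ^ (t + 1) := C.pos
  have hmemM : ∀ y ∈ d.GG, y.1 ∈ M := by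
    intro y hy
    induction hy using Subgroup.closure_induction with
    | mem x hx =>
      rcases hx with ⟨β, h, rfl⟩ | ⟨α, h, rfl⟩
      · exact C.root_mem (G.env i₀) hz h
      · exact M.mul_mem (M.mul_mem hg (C.root_mem (G.env i₀) hw h)) (M.inv_mem hg)
    | one => exact M.one_mem
    | mul x y _ _ hx hy => exact M.mul_mem hx hy
    | inv x _ hx => exact M.inv_mem hx
  by_cases hY : IsNilpotent d.Yr
  · -- a `p`-group
    have hp := (d.isPGroup_of_nilpotent p hN0 hY).map (MonoidHom.fst (GL ι F) SL(2, d.R))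
    have hle := pgroup_le_W P G IH hp (by rintro _ ⟨y, hy, rfl⟩; exact hmemM y hy) hz0 hz (i := i₀)
      fun β hβ => ⟨_, d.r_mem hβ, rfl⟩
    exact hgW (mem_W_of_conj_root P IH G G hgU
      (fun x hx => M.mul_mem (M.mul_mem hg hx) (M.inv_mem hg)) hw0 hw hθ hθ0 (hle ⟨_, d.s_mem hθ, rfl⟩)
      fun _ e he => hle ⟨_, d.s_mem he, rfl⟩)
  -- the span
  set L₀ := LinearMap.range (ptL (split X i₀) z) with hL₀
  have hWdim : finrank F d.WV ≤ 2 * k ^ (t + 1) := by
    refine (Submodule.finrank_add_le_finrank_add_finrank (LinearMap.range d.jz) (LinearMap.range d.jD)).trans ?_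
    have h1 := LinearMap.finrank_range_le d.jz
    have h2 := LinearMap.finrank_range_le d.jD
    rw [Module.finrank_fin_fun] at h1 h2
    omega
  have hLW : L₀ ≤ d.WV := le_sup_left (a := LinearMap.range d.jz)
  have hDW : (LinearMap.range (ptL (split X i₀) w)).map (act g) ≤ d.WV :=
    (LinearMap.range_comp (ptL (split X i₀) w) (act g)).ge.trans (le_sup_right (b := LinearMap.range d.jD))
  have hplane' : ∀ v, v ∉ F ∙ z → ¬ LinearMap.range (ptL (split X i₀) v) ≤ d.WV := by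
    intro v hv hle
    have hv0 : v ≠ 0 := fun e => hv (by rw [e]; exact Submodule.zero_mem _)
    have e1 := Submodule.finrank_sup_add_finrank_inf_eq L₀ (LinearMap.range (ptL (split X i₀) v))
    rw [hL₀, range_inf_eq_bot _ hv, finrank_bot, finrank_range_ptL _ hz0, finrank_range_ptL _ hv0, ← hL₀] at e1
    have e2 : L₀ ⊔ LinearMap.range (ptL (split X i₀) v) = d.WV :=
      Submodule.eq_of_le_of_finrank_le (sup_le hLW hle) (by omega)
    refine hplane v (hDW.trans (e2.ge.trans (sup_le ?_ ?_)))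
    · exact range_ptL_le_LT _ (Submodule.mem_sup_left (Submodule.mem_span_singleton_self z))
    · exact range_ptL_le_LT _ (Submodule.mem_sup_right (Submodule.mem_span_singleton_self v))
  have hWinv : ∀ y ∈ d.GG, ∀ v ∈ d.WV, act y.1 v ∈ d.WV := fun y hy v hv => by
    have := d.WV.add_mem ((d.nice hy).wv v) hv
    rwa [sub_add_cancel] at this
  have hK2 : ∀ y ∈ d.GG, (∀ u ∈ L₀, act y.1 u ∈ L₀) → ∀ v, proj (split X i₀) P.h₀ z v = 0 →
      act y.1 (act y.1 v - v) - (act y.1 v - v) ∈ L₀ := by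
    intro y hy hL v hv
    have heq : L₀.map (act y.1) = L₀ := by
      refine Submodule.eq_of_le_of_finrank_le (by rintro _ ⟨u, hu, rfl⟩; exact hL u hu) ?_
      rw [← (Submodule.equivMapOfInjective _ (act_injective y.1) _).finrank_eq]
    have hv' : proj (split X i₀) P.h₀ z (act y.1 v) = 0 := by
      have h1 : v ∈ uperp P.hU L₀ := by rw [hL₀, C.uperp_range z]; exact hv
      have h2 : act y.1 v ∈ (uperp P.hU L₀).map (act y.1) := Submodule.mem_map_of_mem h1
      rw [MaxCl.Unit.map_uperp P.hU (G.le (hmemM y hy)), heq, hL₀, C.uperp_range z] at h2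
      exact h2
    have hn := d.nice hy
    obtain ⟨_, ⟨a, rfl⟩, _, ⟨b, rfl⟩, e⟩ := Submodule.mem_sup.1 (hn.wv v)
    have hb : d.pz (d.jD b) = 0 := by
      have e' := congrArg d.pz e
      rw [map_add, d.hzz, zero_add, map_sub] at e'
      rw [e']
      show proj (split X i₀) P.h₀ z (act y.1 v) - proj (split X i₀) P.h₀ z v = 0
      rw [hv', hv, sub_zero]
    rw [← e, map_add, hn.fix (d.jD b) hb (d.hDD b), add_sub_add_right_eq_sub]
    have ha : d.jz a ∈ L₀ := LinearMap.mem_range_self (ptL (split X i₀) z) a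
    exact L₀.sub_mem (hL _ ha) ha
  have hJ0 : ∀ y ∈ d.GG, ∀ a, act y.1 (pt (split X i₀) a z) =
      d.J ((y.2 0 0 : Module.End F (Fin (k ^ (t + 1)) → F)) a)
        ((y.2 1 0 : Module.End F (Fin (k ^ (t + 1)) → F)) a) := by
    intro y hy a
    have e := (d.nice hy).compat a 0
    rw [map_zero, map_zero, add_zero, add_zero] at e
    rw [← e, PairData.J, map_zero, map_zero, smul_zero, add_zero]
    rfl
  by_cases h2 : (2 : F) = 0
  swap
  · -- an involution
    obtain ⟨y, hy, hy1, hyy, hm01, hm10, hm00⟩ := d.exists_involution h2 hY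
    obtain ⟨ε, hε⟩ : ∃ ε, ε = y.2 0 0 := ⟨_, rfl⟩
    have hxz : ∀ a, act y.1 (pt (split X i₀) a z) =
        pt (split X i₀) ((ε : Module.End F (Fin (k ^ (t + 1)) → F)) a) z := fun a => by
      rw [hJ0 y hy a, hm10, ← hε, PairData.J]
      simp only [ZeroMemClass.coe_zero, LinearMap.zero_apply, map_zero, smul_zero, add_zero]
      rfl
    have hxx : y.1 * y.1 = 1 := congrArg Prod.fst hyy
    have hpzx : ∀ v, proj (split X i₀) P.h₀ z (act y.1 v) =
        (ε : Module.End F (Fin (k ^ (t + 1)) → F)) (proj (split X i₀) P.h₀ z v) := by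
      intro v
      by_contra hne
      obtain ⟨u, hu⟩ := (C.hB.nondegenerate _ (sub_ne_zero.2 hne)).2
      apply hu
      rw [MaxCl.Unit.sub_left C.hB, show gramForm σ f₀ (t + 1) ((ε : Module.End F (Fin (k ^ (t + 1)) → F))
        (proj (split X i₀) P.h₀ z v)) u = _ from d.R_adjoint ε _ u, sub_eq_zero]
      refine mul_left_cancel₀ P.c_ne ?_
      show c * gramForm σ f₀ (t + 1) _ u = c * gramForm σ f₀ (t + 1) _ _
      rw [← C.form_right, ← C.form_right, ← hxz]
      conv_lhs => rw [← MaxCl.Unit.mem_uiso.1 (G.le (hmemM y hy)), ← act_mul, hxx, act_one]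
    have hxM := hmemM y hy
    obtain ⟨A, -, b, -, hbz, hge⟩ := centralizer C (G.env i₀) (G.env i₀) (G.le hxM)
      (fun x hx => M.mul_mem (M.mul_mem hxM hx) (M.inv_mem hxM)) hz0 hz hθ0
      (gl_ext fun v => by rw [act_mul, act_mul, act_root P.h₀ hz, act_root P.h₀ hz, map_add, map_smul, hxz, hpzx])
    have hL : ∀ u ∈ L₀, act y.1 u ∈ L₀ := by rintro _ ⟨a, rfl⟩; exact ⟨_, (hxz a).symm⟩
    have hK : ∀ v, proj (split X i₀) P.h₀ z v = 0 → act y.1 v - v ∈ L₀ := fun v hv => by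
      have h := hK2 y hy hL v hv
      rw [map_sub, ← act_mul, hxx, act_one] at h
      rw [show act y.1 v - v = (-2 : F)⁻¹ • (v - act y.1 v - (act y.1 v - v)) by
        rw [eq_inv_smul_iff₀ (neg_ne_zero.2 h2)]; module]
      exact L₀.smul_mem _ h
    have hx1 : y.1 = 1 := gl_ext fun v => by
      have e := quadratic_of_line P hk hz0 hz hplane' (G.le hxM) (d.nice hy).wv hge
        ⟨1, by rw [one_smul, hbz]⟩ hK v
      rw [map_sub, ← act_mul, hxx, act_one] at e
      rw [act_one, ← sub_eq_zero]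
      refine (smul_eq_zero.1 (show (2 : F) • (act y.1 v - v) = 0 from ?_)).resolve_left h2
      rw [← neg_eq_zero, ← e]; module
    apply hy1
    have hε1 : ε = 1 := Subtype.ext (LinearMap.ext fun a => by
      have e := hxz a
      rw [hx1, act_one] at e
      have : pt (split X i₀) (a - (ε : Module.End F (Fin (k ^ (t + 1)) → F)) a) z = 0 := by
        rw [MaxCl.Tens.pt_sub_left, ← e, sub_self]
      exact (sub_eq_zero.1 (((pt_eq_zero _).1 this).resolve_right hz0)).symm)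
    refine Prod.ext hx1 (uni_one ?_ hm01 hm10 ?_)
    · rw [← hε, hε1]
    · rw [← hm00, ← hε, hε1]
  -- characteristic two
  obtain ⟨y, hy, ⟨m, hmodd, hym⟩, hYm, H, hH2, hHle, hHr⟩ := d.exists_odd_element h2 hlam hlam0 hlam1 hN0 hY
  haveI : Fact (2 : ℕ).Prime := ⟨Nat.prime_two⟩
  have hxM := hmemM y hy
  have hHW : H ≤ W X := pgroup_le_W P G IH hH2
    (fun a ha => by obtain ⟨y', hy', rfl⟩ := hHle ha; exact hmemM y' hy') hz0 hz (i := i₀) fun β hβ => (hHr β hβ).1
  have hxW : y.1 ∈ W X :=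
    mem_W_of_conj_root P IH G G (G.le hxM) (fun a ha => M.mul_mem (M.mul_mem hxM ha) (M.inv_mem hxM)) hz0 hz hθ hθ0
      (hHW (hHr θ hθ).2) fun _ e he => hHW (hHr e he).2
  have hxm : y.1 ^ m = 1 := congrArg Prod.fst hym
  obtain ⟨A, b, hge, l, hl⟩ := factor_fixed P hk hz0 hWdim hLW hplane' (hWinv y hy) hxW hmodd hxm
  have hL : ∀ u ∈ L₀, act y.1 u ∈ L₀ := by
    rintro _ ⟨u, rfl⟩
    exact ⟨l • act A u, by rw [ptL_apply, ptL_apply, hge, MaxCl.Tens.act_gl_pt, hl, MaxCl.Tens.pt_smul_comm]⟩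
  obtain ⟨e, he⟩ := hmodd
  have hK : ∀ v, proj (split X i₀) P.h₀ z v = 0 → act y.1 v - v ∈ L₀ := by
    intro v hv
    have h1 : act (y.1 * y.1) v - v ∈ L₀ := by
      have h := hK2 _ hy hL v hv
      rw [map_sub] at h
      rw [act_mul, show act y.1 (act y.1 v) - v =
        act y.1 (act y.1 v) - act y.1 v - (act y.1 v - v) + (2 : F) • (act y.1 v - v) by module, h2, zero_smul,
        add_zero]
      exact h
    have hsq : ∀ j, act ((y.1 * y.1) ^ j) v - v ∈ L₀ ∧ ∀ u ∈ L₀, act ((y.1 * y.1) ^ j) u ∈ L₀ := by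
      intro j
      induction j with
      | zero => simp [act_one]
      | succ j ih =>
        refine ⟨?_, fun u hu => ?_⟩
        · rw [pow_succ, act_mul, show act ((y.1 * y.1) ^ j) (act (y.1 * y.1) v) - v =
            act ((y.1 * y.1) ^ j) (act (y.1 * y.1) v - v) + (act ((y.1 * y.1) ^ j) v - v) by rw [map_sub]; abel]
          exact L₀.add_mem (ih.2 _ h1) ih.1
        · rw [pow_succ, act_mul, act_mul]
          exact ih.2 _ (hL _ (hL _ hu))
    have hxe : (y.1 * y.1) ^ (e + 1) = y.1 := by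
      rw [← pow_two, ← pow_mul, show 2 * (e + 1) = m + 1 by omega, pow_succ, hxm, one_mul]
    exact hxe ▸ (hsq (e + 1)).1
  have hx1 : y.1 = 1 := by
    have hxx : y.1 * y.1 = 1 := gl_ext fun v => by
      have e := quadratic_of_line P hk hz0 hz hplane' (G.le hxM) (d.nice hy).wv hge ⟨l, hl⟩ hK v
      rw [map_sub] at e
      rw [act_mul, act_one, ← sub_eq_zero]
      calc act y.1 (act y.1 v) - v
          = act y.1 (act y.1 v) - act y.1 v - (act y.1 v - v) + (2 : F) • (act y.1 v - v) := by module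
        _ = 0 := by rw [e, h2, zero_smul, add_zero]
    rw [he, pow_succ, pow_mul, pow_two, hxx, one_pow, one_mul] at hxm
    exact hxm
  apply hYm
  refine Subtype.ext (LinearMap.ext fun a => ?_)
  have e1 := hJ0 y hy a
  rw [hx1, act_one, PairData.J] at e1
  have e2 := congrArg d.pD e1
  rw [map_add, map_smul, d.hDD, smul_zero, add_zero] at e2
  show d.Y (((y.2 0 0 : d.R) : Module.End F (Fin (k ^ (t + 1)) → F)) a - a) = 0
  rw [map_sub, d.Y_apply, d.Y_apply, sub_eq_zero]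
  exact congrArg (fun b => d.pz (d.jD b)) e2.symm

end Cfsg.Agent.TPow
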