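/-
One root group at an isotropic pure tensor spreads, under the special unitary groups of the factors, to every
isotropic vector, so it generates the special unitary group of the whole tensor power.
-/
import Mathlib
import Cfsg.Agent.Lib.TPow.Ctx
import Cfsg.Agent.Lib.MaxCl.HermForms

set_option autoImplicit false

namespace Cfsg.Agent.TPow

open scoped MatrixGroups Matrix
open Module (finrank)
open MaxCl (act gl_ext act_mul act_one act_inv_act act_act_inv exists_dual)
open MaxCl.Unit (uiso flinU utv utvGroup uperp RootIn)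
open MaxCl.Tens (TSys pt gl gl_ext_pt act_gl_pt ptL ptR cL suGroup IsTop)

/-! ### moves in one factor -/

section moves

open MaxCl.Unit

variable {k : ℕ} {F : Type*} [Field F] [Fintype F] {σ : F ≃+* F} {h : (Fin k → F) → (Fin k → F) → F}
variable (hh : Cfsg.Geo.IsUnitaryForm σ h)
include hh

/-- exact transitivity on isotropic vectors -/
theorem exists_move_eq_iso (hk : 3 ≤ k) {x y : Fin k → F} (hx0 : x ≠ 0) (hy0 : y ≠ 0) (hx : h x x = 0)
    (hy : h y y = 0) : ∃ g ∈ utvGroup hh, act g x = y := by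
  obtain ⟨b, hb, l, hl, e⟩ := exists_move_norm hh hx0 hy0 hx hy hk (map_one σ) one_ne_zero
  have hl0 : l ≠ 0 := fun h0 => zero_ne_one (α := F) (by rw [← hl, h0, zero_mul])
  by_cases hls : σ l = l
  · obtain ⟨m, hm⟩ := exists_moved hh.ne_refl
    have hm0 : m ≠ 0 := fun h0 => hm (by rw [h0, map_zero])
    have hlm : σ (l * m)⁻¹ ≠ (l * m)⁻¹ := by
      rw [map_inv₀, Ne, inv_inj, map_mul, hls]
      exact fun h' => hm (mul_left_cancel₀ hl0 h')
    obtain ⟨g₁, hg₁, e₁⟩ := exists_move_smul hh hy0 hy hk hm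
    obtain ⟨g₂, hg₂, e₂⟩ := exists_move_smul hh hy0 hy hk hlm
    exact ⟨g₂ * g₁ * b, mul_mem (mul_mem hg₂ hg₁) hb, by
      rw [act_mul, act_mul, e, map_smul, e₁, smul_smul, map_smul, e₂, smul_smul,
        mul_inv_cancel₀ (mul_ne_zero hl0 hm0), one_smul]⟩
  · obtain ⟨g₁, hg₁, e₁⟩ := exists_move_smul hh hy0 hy hk (l := l⁻¹)
      (by rw [map_inv₀, Ne, inv_inj]; exact hls)
    exact ⟨g₁ * b, mul_mem hg₁ hb, by
      rw [act_mul, e, map_smul, e₁, smul_smul, mul_inv_cancel₀ hl0, one_smul]⟩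

/-- two independent anisotropic vectors of one norm -/
theorem exists_move_aniso_indep (hk : 3 ≤ k) (hex : k = 3 → ∃ x : F, σ x = x ∧ x ≠ 0 ∧ x ≠ 1)
    {x y : Fin k → F} (hx : h x x ≠ 0) (hxy : h y y = h x x) (hind : y ∉ F ∙ x) :
    ∃ g ∈ utvGroup hh, act g x = y := by
  classical
  obtain ⟨θ, hθ0, hθ⟩ := exists_skew hh.ne_refl hh.involutive
  set N := h x x with hN
  have hσN : σ N = N := herm' hh x x
  have fin : ∀ z s, s ≠ 0 → s + σ s = 0 → h z z = N → h z x = N + θ → h z y = N + s →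
      ∃ g ∈ utvGroup hh, act g x = y := by
    intro z s hs0 hs hzz hzx hzy
    have hxz : h x z = N + σ θ := by rw [← herm' hh, hzx, map_add, hσN]
    have hyz : h y z = N + σ s := by rw [← herm' hh, hzy, map_add, hσN]
    have hu₁ : h (z - x) (z - x) = 0 := by
      simp only [sub_left hh, sub_right hh, hzz, hzx, hxz, ← hN]; linear_combination -hθ
    have hu₂ : h (y - z) (y - z) = 0 := by
      simp only [sub_left hh, sub_right hh, hzz, hzy, hyz, hxy]; linear_combination -hs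
    obtain ⟨c₁, hc₁, e₁⟩ := exists_utv_move hh (x := z) (y := x) (hzz.trans hN) hu₁
      (by rw [sub_right hh, hxz, ← hN, add_sub_cancel_left]; exact (map_ne_zero σ).2 hθ0)
    obtain ⟨c₂, hc₂, e₂⟩ := exists_utv_move hh (x := y) (y := z) (hxy.trans hzz.symm) hu₂
      (by rw [sub_right hh, hzy, hzz, add_sub_cancel_left]; exact hs0)
    exact ⟨utv hh (y - z) c₂ * utv hh (z - x) c₁,
      mul_mem (utv_mem_utvGroup hh hu₂ hc₂) (utv_mem_utvGroup hh hu₁ hc₁), by rw [act_mul, e₁, e₂]⟩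
  have hx0 : x ≠ 0 := fun e => hx (by rw [hN, e, zero_left hh])
  have base : ∀ α β, ∃ φ : (Fin k → F) →ₗ[F] F, φ x = σ α ∧ φ y = σ β := by
    intro α β
    obtain ⟨φ₂, h20, h21⟩ := exists_dual (F ∙ x) hind
    obtain ⟨φ₁, -, h11⟩ := exists_dual (⊥ : Submodule F (Fin k → F)) (v := x) (by simpa using hx0)
    refine ⟨σ α • φ₁ + (σ β - σ α * φ₁ y) • φ₂, ?_, ?_⟩
    · simp [h20 x (Submodule.mem_span_singleton_self x), h11]
    · simp [h21]
  have repr : ∀ (φ : (Fin k → F) →ₗ[F] F) (α β : F), φ x = σ α → φ y = σ β →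
      ∃ z, h z x = α ∧ h z y = β ∧ ∀ r, h z r = σ (φ r) := by
    intro φ α β h1 h2
    obtain ⟨z, hz⟩ := exists_repr hh φ
    have key : ∀ r, h z r = σ (φ r) := fun r => by rw [← herm' hh, ← hz]
    exact ⟨z, by rw [key, h1, hh.involutive], by rw [key, h2, hh.involutive], key⟩
  have adj : ∀ z r s, h r r = 0 → h r x = 0 → h r y = 0 → h z r ≠ 0 → s ≠ 0 → s + σ s = 0 →
      h z x = N + θ → h z y = N + s → ∃ g ∈ utvGroup hh, act g x = y := by
    intro z r s hrr hrx hry hzr hs0 hs hzx hzy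
    obtain ⟨e, he⟩ := exists_trace hh.involutive hh.ne_refl (N - h z z) (by rw [map_sub, hσN, herm' hh])
    have hrz : h r z ≠ 0 := MaxCl.Unit.ne_symm hh hzr
    obtain ⟨u, hu⟩ : ∃ u, u = e / h r z := ⟨_, rfl⟩
    have hue : u * h r z = e := by rw [hu, div_mul_cancel₀ _ hrz]
    have hue' : σ u * h z r = σ e := by rw [← herm' hh r z, ← map_mul, hue]
    refine fin (z + u • r) s hs0 hs ?_ ?_ ?_
    · simp only [add_left hh, add_right hh, smul_left hh, smul_right hh, hrr]
      linear_combination hue + hue' + he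
    · rw [add_left hh, smul_left hh, hrx, mul_zero, add_zero, hzx]
    · rw [add_left hh, smul_left hh, hry, mul_zero, add_zero, hzy]
  by_cases hp : ∃ p, h p x = 0 ∧ h p y = 0 ∧ h p p ≠ 0
  · obtain ⟨p, hpx, hpy, hpp⟩ := hp
    obtain ⟨φ, h1, h2⟩ := base (N + θ) (N + θ)
    obtain ⟨z, hzx, hzy, -⟩ := repr φ _ _ h1 h2
    obtain ⟨z₁, hz₁⟩ : ∃ z₁, z₁ = z - (h z p / h p p) • p := ⟨_, rfl⟩
    have hz₁p : h z₁ p = 0 := by rw [hz₁, sub_left hh, smul_left hh, div_mul_cancel₀ _ hpp, sub_self]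
    obtain ⟨s, hs⟩ := MaxCl.Unit.exists_norm hh.involutive hh.ne_refl ((N - h z₁ z₁) / h p p)
      (by rw [map_div₀, map_sub, hσN, herm' hh, herm' hh])
    rw [eq_div_iff hpp] at hs
    refine fin (z₁ + s • p) θ hθ0 hθ ?_ ?_ ?_
    · simp only [add_left hh, add_right hh, smul_left hh, smul_right hh, hz₁p, eq_zero_symm hh hz₁p]
      linear_combination hs
    · rw [hz₁, add_left hh, sub_left hh, smul_left hh, smul_left hh, hpx, hzx]; ring
    · rw [hz₁, add_left hh, sub_left hh, smul_left hh, smul_left hh, hpy, hzy]; ring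
  push Not at hp
  set P := Submodule.span F ({x, y} : Set (Fin k → F)) with hP
  have hxP : x ∈ P := Submodule.subset_span (Set.mem_insert x _)
  have hyP : y ∈ P := Submodule.subset_span (Set.mem_insert_of_mem x rfl)
  have hPdim : finrank F P ≤ 2 := by
    refine (finrank_span_le_card ({x, y} : Set (Fin k → F))).trans ?_
    simp only [Set.toFinset_insert, Set.toFinset_singleton]
    exact Finset.card_le_two
  by_cases hout : uperp hh P ≤ P
  swap
  · obtain ⟨r, hr, hrP⟩ := SetLike.not_le_iff_exists.1 hout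
    obtain ⟨φ, h1, h2⟩ := base (N + θ) (N + θ)
    obtain ⟨φ₃, h30, h31⟩ := exists_dual P hrP
    obtain ⟨z, hzx, hzy, hzr⟩ := repr (φ + (1 - φ r) • φ₃) (N + θ) (N + θ) (by simp [h30 x hxP, h1])
      (by simp [h30 y hyP, h2])
    exact adj z r θ (hp r (hr x hxP) (hr y hyP)) (hr x hxP) (hr y hyP)
      (by rw [hzr]; simp [h31]) hθ0 hθ hzx hzy
  have hlt : finrank F (uperp hh P) < finrank F P :=
    Submodule.finrank_lt_finrank_of_lt (lt_of_le_of_ne hout fun e => hx (by
      have hxu : x ∈ uperp hh P := e.symm ▸ hxP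
      exact hxu x hxP))
  have hge := finrank_uperp_ge hh P
  rw [Fintype.card_fin] at hge
  have hk3 : k = 3 := by omega
  obtain ⟨r, hr, hr0⟩ := Submodule.exists_mem_ne_zero_of_ne_bot (p := uperp hh P) fun e => by
    rw [e, finrank_bot] at hge; omega
  obtain ⟨a, b, hab⟩ := Submodule.mem_span_pair.1 (hout hr)
  have hb0 : b ≠ 0 := by
    rintro rfl
    rw [zero_smul, add_zero] at hab
    have := hr x hxP
    rw [← hab, smul_left hh, ← hN, mul_eq_zero, or_iff_left hx] at this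
    exact hr0 (by rw [← hab, this, zero_smul])
  obtain ⟨x₀, hx₀, hx₀0, hx₀1⟩ := hex hk3
  have hθ' : x₀ * θ + σ (x₀ * θ) = 0 := by rw [map_mul, hx₀, ← mul_add, hθ, mul_zero]
  have hzr : ∀ s z, h z x = N + θ → h z y = N + s → h z r = σ a * (N + θ) + σ b * (N + s) := fun s z e1 e2 => by
    rw [← hab, add_right hh, smul_right hh, smul_right hh, e1, e2]
  obtain ⟨φ₁, h11, h12⟩ := base (N + θ) (N + θ)
  obtain ⟨z₁, e11, e12, -⟩ := repr φ₁ _ _ h11 h12
  obtain ⟨φ₂, h21, h22⟩ := base (N + θ) (N + x₀ * θ)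
  obtain ⟨z₂, e21, e22, -⟩ := repr φ₂ _ _ h21 h22
  by_cases hz : h z₁ r = 0
  · refine adj z₂ r (x₀ * θ) (hp r (hr x hxP) (hr y hyP)) (hr x hxP) (hr y hyP) (fun hz' => ?_)
      (mul_ne_zero hx₀0 hθ0) hθ' e21 e22
    rw [hzr _ _ e11 e12] at hz
    rw [hzr _ _ e21 e22] at hz'
    have : σ b * θ * (x₀ - 1) = 0 := by linear_combination hz' - hz
    simp [hb0, hθ0, sub_ne_zero.2 hx₀1] at this
  · exact adj z₁ r θ (hp r (hr x hxP) (hr y hyP)) (hr x hxP) (hr y hyP) hz hθ0 hθ e11 e12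

/-- transitivity on non-zero vectors of one norm -/
theorem exists_move_eq (hk : 3 ≤ k) (hex : k = 3 → ∃ x : F, σ x = x ∧ x ≠ 0 ∧ x ≠ 1)
    {x y : Fin k → F} (hx0 : x ≠ 0) (hy0 : y ≠ 0) (hxy : h y y = h x x) :
    ∃ g ∈ utvGroup hh, act g x = y := by
  by_cases hx : h x x = 0
  · exact exists_move_eq_iso hh hk hx0 hy0 hx (hxy.trans hx)
  by_cases hind : y ∈ F ∙ x
  swap
  · exact exists_move_aniso_indep hh hk hex hx hxy hind
  obtain ⟨c, rfl⟩ := Submodule.mem_span_singleton.1 hind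
  have hc : c ≠ 0 := by rintro rfl; exact hy0 (zero_smul F x)
  have hge := finrank_uperp_ge hh (F ∙ x)
  rw [Fintype.card_fin, finrank_span_singleton hx0] at hge
  obtain ⟨a, ha, ha0⟩ := Submodule.exists_mem_ne_zero_of_ne_bot (p := uperp hh (F ∙ x)) fun e => by
    rw [e, finrank_bot] at hge; omega
  obtain ⟨b, hb, hba⟩ := SetLike.not_le_iff_exists.1 (show ¬ uperp hh (F ∙ x) ≤ F ∙ a by
    intro h'; have := Submodule.finrank_mono h'; rw [finrank_span_singleton ha0] at this; omega)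
  obtain ⟨s, t, hst, hiso⟩ := exists_isotropic_pair hh a b
  obtain ⟨w, hwdef⟩ : ∃ w, w = s • a + t • b := ⟨_, rfl⟩
  rw [← hwdef] at hiso
  have hw0 : w ≠ 0 := by
    rintro rfl
    rcases eq_or_ne t 0 with rfl | ht
    · rw [zero_smul, add_zero, eq_comm, smul_eq_zero, or_iff_left ha0] at hwdef
      exact hst.elim (fun h => h hwdef) (fun h => h rfl)
    · refine hba ((Submodule.smul_mem_iff _ ht).1 ?_)
      rw [eq_neg_of_add_eq_zero_right hwdef.symm]
      exact Submodule.neg_mem _ (Submodule.smul_mem _ _ (Submodule.mem_span_singleton_self a))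
  have hwx : h w x = 0 := by
    rw [hwdef, add_left hh, smul_left hh, smul_left hh, ha x (Submodule.mem_span_singleton_self x),
      hb x (Submodule.mem_span_singleton_self x), mul_zero, mul_zero, add_zero]
  have hnorm : h (x + w) (x + w) = h x x := by
    simp only [add_left hh, add_right hh, hiso, hwx, eq_zero_symm hh hwx, add_zero]
  have hind' : x + w ∉ F ∙ x := fun h' => by
    obtain ⟨d, hd⟩ := Submodule.mem_span_singleton.1 h'
    have e : h (d • x) x = h x x := by rw [hd, add_left hh, hwx, add_zero]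
    rw [smul_left hh] at e
    rw [(mul_eq_right₀ hx).1 e, one_smul, eq_comm, add_eq_left] at hd
    exact hw0 hd
  obtain ⟨g₁, hg₁, e₁⟩ := exists_move_aniso_indep hh hk hex hx hnorm hind'
  obtain ⟨g₂, hg₂, e₂⟩ := exists_move_aniso_indep hh hk hex (by rw [hnorm]; exact hx) (hxy.trans hnorm.symm)
    fun h' => hind' (by
      obtain ⟨d, hd⟩ := Submodule.mem_span_singleton.1 h'
      have hd0 : d ≠ 0 := by rintro rfl; rw [zero_smul] at hd; exact hy0 hd.symm
      exact Submodule.mem_span_singleton.2 ⟨d⁻¹ * c, by rw [mul_smul, ← hd, inv_smul_smul₀ hd0]⟩)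
  exact ⟨g₂ * g₁, mul_mem hg₂ hg₁, by rw [act_mul, e₁, e₂]⟩

end moves

/-! ### top elements at a fixed vector of the factor -/

variable {ι : Type} [Fintype ι] [DecidableEq ι] {F : Type*} [Field F] {N k t : ℕ}

section TF

variable {T : TSys ι F N k} {σ : F ≃+* F} {f : (ι → F) → (ι → F) → F}
variable {fB : (Fin N → F) → (Fin N → F) → F} {f₀ : (Fin k → F) → (Fin k → F) → F} {c : F}

/-- every skew multiple of `H` occurs as a top element of `M` -/
def TopIn (T : TSys ι F N k) (σ : F ≃+* F) (f₀ : (Fin k → F) → (Fin k → F) → F) (M : Subgroup (GL ι F))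
    (w : Fin k → F) (H : (Fin N → F) →ₗ[F] (Fin N → F)) : Prop :=
  ∀ d, d + σ d = 0 → ∃ z ∈ M, IsTop T f₀ w z (d • H)

/-- `u ↦ fB(u, γ) β` -/
def rkOne (hB : Cfsg.Geo.IsUnitaryForm σ fB) (β γ : Fin N → F) : (Fin N → F) →ₗ[F] (Fin N → F) :=
  (flinU hB γ).smulRight β

/-- the symmetrised rank one map -/
def symPair (hB : Cfsg.Geo.IsUnitaryForm σ fB) (ξ : F) (β γ : Fin N → F) :
    (Fin N → F) →ₗ[F] (Fin N → F) :=
  ξ • rkOne hB β γ + σ ξ • rkOne hB γ β

variable (hB : Cfsg.Geo.IsUnitaryForm σ fB)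

theorem rkOne_apply (β γ u : Fin N → F) : rkOne hB β γ u = fB u γ • β := rfl

theorem symPair_comm (ξ : F) (β γ : Fin N → F) : symPair hB ξ β γ = symPair hB (σ ξ) γ β := by
  rw [symPair, symPair, hB.involutive, add_comm]

theorem symPair_add (ξ : F) (β β' γ : Fin N → F) :
    symPair hB ξ (β + β') γ = symPair hB ξ β γ + symPair hB ξ β' γ := by
  refine LinearMap.ext fun u => ?_
  simp only [symPair, LinearMap.add_apply, LinearMap.smul_apply, rkOne_apply, MaxCl.Unit.add_right hB]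
  module

theorem symPair_smul (a ξ : F) (β γ : Fin N → F) :
    symPair hB ξ (a • β) γ = symPair hB (ξ * a) β γ := by
  refine LinearMap.ext fun u => ?_
  simp only [symPair, LinearMap.add_apply, LinearMap.smul_apply, rkOne_apply, MaxCl.Unit.smul_right hB, map_mul]
  module

theorem symPair_smul_right (a ξ : F) (β γ : Fin N → F) :
    symPair hB ξ β (a • γ) = symPair hB (ξ * σ a) β γ := by
  rw [symPair_comm, symPair_smul, symPair_comm hB (σ ξ * a), map_mul, hB.involutive]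

theorem symPair_scalar_add (ξ η : F) (β γ : Fin N → F) :
    symPair hB (ξ + η) β γ = symPair hB ξ β γ + symPair hB η β γ := by
  simp only [symPair, map_add, add_smul]; abel

theorem symPair_zero (ξ : F) (γ : Fin N → F) : symPair hB ξ 0 γ = 0 := by
  refine LinearMap.ext fun u => ?_
  simp [symPair, rkOne_apply, MaxCl.Unit.zero_right hB]

theorem rkOne_shift (ε : F) (v x : Fin N → F) :
    rkOne hB (v + ε • x) (v + ε • x) =
      rkOne hB v v + (ε * σ ε) • rkOne hB x x + symPair hB (σ ε) v x := by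
  refine LinearMap.ext fun u => ?_
  simp only [symPair, LinearMap.add_apply, LinearMap.smul_apply, rkOne_apply, MaxCl.Unit.add_right hB,
    MaxCl.Unit.smul_right hB, hB.involutive]
  module

variable (C : TF T σ f fB f₀ c) {M : Subgroup (GL ι F)}
include C

omit C in
theorem topIn_zero (w : Fin k → F) : TopIn T σ f₀ M w 0 := fun d _ =>
  ⟨1, M.one_mem, fun u v => by
    rw [act_one, LinearMap.smul_apply, LinearMap.zero_apply, smul_zero, MaxCl.Tens.pt_zero_left, smul_zero,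
      add_zero]⟩

omit C in
theorem topIn_add {w : Fin k → F} (hw : f₀ w w = 0) {H H' : (Fin N → F) →ₗ[F] (Fin N → F)}
    (h : TopIn T σ f₀ M w H) (h' : TopIn T σ f₀ M w H') : TopIn T σ f₀ M w (H + H') := by
  intro d hd
  obtain ⟨z, hz, hS⟩ := h d hd
  obtain ⟨z', hz', hS'⟩ := h' d hd
  refine ⟨z * z', M.mul_mem hz hz', fun u v => ?_⟩
  rw [act_mul, hS', map_add, map_smul, hS, hS, hw, zero_smul, add_zero, smul_add, LinearMap.add_apply,
    MaxCl.Tens.pt_add_left, smul_add]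
  abel

omit C in
theorem topIn_smul {w : Fin k → F} {H : (Fin N → F) →ₗ[F] (Fin N → F)} {a : F} (ha : σ a = a)
    (h : TopIn T σ f₀ M w H) : TopIn T σ f₀ M w (a • H) := fun d hd => by
  rw [smul_smul]
  exact h (d * a) (by rw [map_mul, ha, ← add_mul, hd, zero_mul])

variable [Fintype F]

omit [Fintype F] in
theorem topIn_of_rootIn {β : Fin N → F} {w : Fin k → F} (h : RootIn C.hU M (pt T β w)) :
    TopIn T σ f₀ M w (rkOne C.hB β β) := by
  intro d hd
  refine ⟨utv C.hU (pt T β w) (d / c), h.2 _ ?_, fun u v => ?_⟩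
  · rw [map_div₀, C.c_fixed, ← add_div, hd, zero_div]
  rw [MaxCl.Unit.act_utv C.hU h.1, C.form, LinearMap.smul_apply, rkOne_apply, smul_smul,
    MaxCl.Tens.pt_smul_left, smul_smul]
  congr 2
  have := C.c_ne
  field_simp

omit [Fintype F] in
theorem rootIn_of_topIn {β : Fin N → F} {w : Fin k → F} (hw : f₀ w w = 0)
    (h : TopIn T σ f₀ M w (rkOne C.hB β β)) : RootIn C.hU M (pt T β w) := by
  have hiso : f (pt T β w) (pt T β w) = 0 := by rw [C.form, hw, mul_zero, mul_zero]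
  refine ⟨hiso, fun d hd => ?_⟩
  obtain ⟨z, hz, hS⟩ := h (c * d) (by rw [map_mul, C.c_fixed, ← mul_add, hd, mul_zero])
  suffices utv C.hU (pt T β w) d = z from this ▸ hz
  refine gl_ext_pt T fun x y => ?_
  rw [MaxCl.Unit.act_utv C.hU hiso, hS, C.form, LinearMap.smul_apply, rkOne_apply, smul_smul,
    MaxCl.Tens.pt_smul_left, smul_smul]
  congr 2
  ring

/-- two non-orthogonal isotropic vectors give an anisotropic one -/
theorem rootIn_shift (hle : M ≤ uiso f) (hright : ∀ b ∈ utvGroup C.h₀, gl T 1 b ∈ M)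
    {v x : Fin N → F} (hv : fB v v = 0) (hx : fB x x = 0) (hvx : fB v x = 1)
    (hallv : ∀ w, f₀ w w = 0 → RootIn C.hU M (pt T v w))
    (hallx : ∀ w, f₀ w w = 0 → RootIn C.hU M (pt T x w))
    {ε : F} (hε : ε + σ ε ≠ 0) {w₁ : Fin k → F} (hw₁ : f₀ w₁ w₁ = 0) :
    RootIn C.hU M (pt T (v + ε • x) w₁) := by
  classical
  rcases eq_or_ne w₁ 0 with rfl | hw₁0
  · simpa [MaxCl.Tens.pt_zero_right] using hallv 0 (MaxCl.Unit.zero_left C.h₀ _)
  obtain ⟨w', hw', hw'w, hww'⟩ := exists_pair C.h₀ hw₁0 hw₁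
  obtain ⟨θ, hθ0, hθ⟩ := MaxCl.Unit.exists_skew C.hU.ne_refl C.hU.involutive
  have hσθ : σ θ = -θ := eq_neg_of_add_eq_zero_right hθ
  have hσc := C.c_fixed
  have hc := C.c_ne
  have hxv : fB x v = 1 := by rw [← MaxCl.Unit.herm' C.hB, hvx, map_one]
  obtain ⟨e, hedef⟩ : ∃ e, e = v + ε • x := ⟨_, rfl⟩
  have hee : fB e e = ε + σ ε := by
    simp only [hedef, MaxCl.Unit.add_left C.hB, MaxCl.Unit.add_right C.hB, MaxCl.Unit.smul_left C.hB,
      MaxCl.Unit.smul_right C.hB, hv, hx, hvx, hxv]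
    ring
  rw [← hedef]
  obtain ⟨α, hα⟩ : ∃ α, α = ε / (θ * c) := ⟨_, rfl⟩
  have hθcα : θ * c * α = ε := by rw [hα, mul_div_cancel₀ _ (mul_ne_zero hθ0 hc)]
  obtain ⟨v₀, hv₀w, hv₀w', hv₀⟩ := exists_aniso C.h₀ hw₁ hw' hw'w hww' C.three
  obtain ⟨b, hb⟩ := MaxCl.Unit.exists_scale C.h₀ hv₀ (a := -(α + σ α))
    (by rw [map_neg, map_add, C.hU.involutive, add_comm])
  obtain ⟨φ, hφdef⟩ : ∃ φ, φ = b • v₀ := ⟨_, rfl⟩
  rw [← hφdef] at hb
  have hφw : f₀ φ w₁ = 0 := by rw [hφdef, MaxCl.Unit.smul_left C.h₀, hv₀w, mul_zero]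
  have hφw' : f₀ φ w' = 0 := by rw [hφdef, MaxCl.Unit.smul_left C.h₀, hv₀w', mul_zero]
  have hwφ := MaxCl.Unit.eq_zero_symm C.h₀ hφw
  have hw'φ := MaxCl.Unit.eq_zero_symm C.h₀ hφw'
  have z1 := MaxCl.Unit.rootIn_add C.hU (hallx w' hw') (hallv w₁ hw₁)
    (c := -θ) (by rw [map_neg]; linear_combination -hθ)
  have hy2 : f₀ (α • w₁ + φ + w') (α • w₁ + φ + w') = 0 := by
    simp only [MaxCl.Unit.add_left C.h₀, MaxCl.Unit.add_right C.h₀, MaxCl.Unit.smul_left C.h₀,
      MaxCl.Unit.smul_right C.h₀, hw₁, hw', hw'w, hww', hb, hφw, hφw', hwφ, hw'φ]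
    ring
  have z2 := MaxCl.Unit.rootIn_add C.hU (hallx _ hy2) z1 (c := θ) hθ
  have hz2 : RootIn C.hU M (pt T e w₁ + (θ * c) • pt T x φ) := by
    have e1 : f (pt T v w₁) (pt T x w') = c := by rw [C.form, hvx, hww', one_mul, mul_one]
    have e2 : f₀ w₁ (α • w₁ + φ + w') = 1 := by
      rw [MaxCl.Unit.add_right C.h₀, MaxCl.Unit.add_right C.h₀, MaxCl.Unit.smul_right C.h₀, hw₁, hwφ, hww']
      ring
    have e3 : f (pt T v w₁) (pt T x (α • w₁ + φ + w')) = c := by rw [C.form, hvx, e2, one_mul, mul_one]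
    have e4 : f (pt T x w') (pt T x (α • w₁ + φ + w')) = 0 := by rw [C.form, hx, zero_mul, mul_zero]
    rw [MaxCl.Unit.add_left C.hU, MaxCl.Unit.smul_left C.hU, e1, e3, e4, mul_zero, add_zero] at z2
    convert z2 using 1
    rw [hedef, MaxCl.Tens.pt_add_left, MaxCl.Tens.pt_smul_left, ← hθcα, MaxCl.Tens.pt_add_right,
      MaxCl.Tens.pt_add_right, MaxCl.Tens.pt_smul_right]
    module
  obtain ⟨w₃, hw₃def⟩ : ∃ w₃, w₃ = θ • w' := ⟨_, rfl⟩
  have hw₃ : f₀ w₃ w₃ = 0 := by
    rw [hw₃def, MaxCl.Unit.smul_left C.h₀, MaxCl.Unit.smul_right C.h₀, hw', mul_zero, mul_zero]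
  have hw₃w : f₀ w₃ w₁ = θ := by rw [hw₃def, MaxCl.Unit.smul_left C.h₀, hw'w, mul_one]
  have hww₃ : f₀ w₁ w₃ = -θ := by rw [← MaxCl.Unit.herm' C.h₀, hw₃w, hσθ]
  have hu : f₀ (w₃ - w₁) (w₃ - w₁) = 0 := by
    rw [MaxCl.Unit.sub_left C.h₀, MaxCl.Unit.sub_right C.h₀, MaxCl.Unit.sub_right C.h₀, hw₁, hw₃, hw₃w, hww₃]
    ring
  obtain ⟨q, hq, hqe⟩ := MaxCl.Unit.exists_utv_move C.h₀ (x := w₃) (y := w₁) (hw₃.trans hw₁.symm) hu
    (by rw [MaxCl.Unit.sub_right C.h₀, hw₁, hww₃, sub_zero]; exact neg_ne_zero.2 hθ0)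
  have hφu : f₀ φ (w₃ - w₁) = 0 := by
    rw [MaxCl.Unit.sub_right C.h₀, hw₃def, MaxCl.Unit.smul_right C.h₀, hφw, hφw', mul_zero, sub_zero]
  set τ := utv C.h₀ (w₃ - w₁) q with hτ
  have hτφ : act τ φ = φ := by rw [hτ, MaxCl.Unit.act_utv C.h₀ hu, hφu, mul_zero, zero_smul, add_zero]
  have hτm : gl T 1 τ ∈ M := hright _ (MaxCl.Unit.utv_mem_utvGroup C.h₀ hu hq)
  have hz3 := MaxCl.Unit.rootIn_conj C.hU hτm (hle hτm) hz2
  rw [map_add, map_smul, act_gl_pt, act_gl_pt, act_one, act_one, hqe, hτφ] at hz3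
  have hσN : σ (fB e e) = fB e e := MaxCl.Unit.herm' C.hB e e
  have hfin := MaxCl.Unit.rootIn_add C.hU hz2 hz3 (c := -(c * fB e e * θ)⁻¹) (by
    rw [map_neg, map_inv₀, map_mul, map_mul, hσc, hσN, hσθ, mul_neg, inv_neg]; ring)
  have hval : f (pt T e w₃ + (θ * c) • pt T x φ) (pt T e w₁ + (θ * c) • pt T x φ) = c * fB e e * θ := by
    have hw₃φ : f₀ w₃ φ = 0 := by rw [hw₃def, MaxCl.Unit.smul_left C.h₀, hw'φ, mul_zero]
    simp only [MaxCl.Unit.add_left C.hU, MaxCl.Unit.add_right C.hU, MaxCl.Unit.smul_left C.hU,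
      MaxCl.Unit.smul_right C.hU, C.form, hw₃w, hw₃φ, hφw, hx]
    ring
  rw [hval, neg_mul, inv_mul_cancel₀ (mul_ne_zero (mul_ne_zero hc (hee ▸ hε)) hθ0)] at hfin
  have h4 : RootIn C.hU M (pt T e (w₃ - w₁)) := by
    convert hfin using 1
    rw [MaxCl.Tens.pt_sub_right]; module
  have hne : w₃ - w₁ ≠ 0 := fun h0 => by
    rw [sub_eq_zero] at h0
    rw [h0, hw₁] at hw₃w
    exact hθ0 hw₃w.symm
  obtain ⟨g, hg, hgw⟩ := exists_move_eq_iso C.h₀ C.three hne hw₁0 hu hw₁
  have hgm := hright g hg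
  have h5 := MaxCl.Unit.rootIn_conj C.hU hgm (hle hgm) h4
  rwa [act_gl_pt, act_one, hgw] at h5

/-- the symmetrised rank one maps of two non-orthogonal isotropic vectors -/
theorem topIn_symPair (hle : M ≤ uiso f) (hright : ∀ b ∈ utvGroup C.h₀, gl T 1 b ∈ M)
    {v x : Fin N → F} (hv : fB v v = 0) (hx : fB x x = 0) (hne : fB v x ≠ 0)
    (hallv : ∀ w, f₀ w w = 0 → RootIn C.hU M (pt T v w))
    (hallx : ∀ w, f₀ w w = 0 → RootIn C.hU M (pt T x w))
    {w : Fin k → F} (hw : f₀ w w = 0) (ξ : F) : TopIn T σ f₀ M w (symPair C.hB ξ v x) := by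
  obtain ⟨x', hx'def⟩ : ∃ x', x' = (σ (fB v x))⁻¹ • x := ⟨_, rfl⟩
  have hvx' : fB v x' = 1 := by
    rw [hx'def, MaxCl.Unit.smul_right C.hB, map_inv₀, C.hB.involutive, inv_mul_cancel₀ hne]
  have hx' : fB x' x' = 0 := by
    rw [hx'def, MaxCl.Unit.smul_left C.hB, MaxCl.Unit.smul_right C.hB, hx, mul_zero, mul_zero]
  have hallx' : ∀ w, f₀ w w = 0 → RootIn C.hU M (pt T x' w) := fun w hw => by
    rw [hx'def, MaxCl.Tens.pt_smul_left]; exact MaxCl.Unit.rootIn_smul C.hU (hallx w hw) _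
  have hxe : x = σ (fB v x) • x' := by rw [hx'def, smul_inv_smul₀ ((map_ne_zero σ).2 hne)]
  rw [hxe, symPair_smul_right, C.hB.involutive]
  generalize ξ * fB v x = η
  have main : ∀ η : F, η + σ η ≠ 0 → TopIn T σ f₀ M w (symPair C.hB η v x') := by
    intro η hη
    have e := rkOne_shift C.hB (σ η) v x'
    rw [C.hB.involutive] at e
    have h3 := topIn_of_rootIn C (rootIn_shift C hle hright hv hx' hvx' hallv hallx' (ε := σ η)
      (by rw [C.hB.involutive, add_comm]; exact hη) hw)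
    have h2 := topIn_smul (a := -(σ η * η)) (by rw [map_neg, map_mul, C.hB.involutive, mul_comm])
      (topIn_of_rootIn C (hallx' w hw))
    have h1 := topIn_smul (a := (-1 : F)) (by rw [map_neg, map_one]) (topIn_of_rootIn C (hallv w hw))
    have := topIn_add hw (topIn_add hw h3 h1) h2
    rw [e] at this
    convert this using 1
    module
  by_cases hη : η + σ η = 0
  swap; · exact main η hη
  obtain ⟨e, he⟩ := MaxCl.Unit.exists_trace_one C.hU.involutive C.hU.ne_refl
  rw [show η = (η + e) + -e by ring, symPair_scalar_add]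
  refine topIn_add hw (main _ ?_) (main _ ?_)
  · rw [map_add, show η + e + (σ η + σ e) = 1 by linear_combination hη + he]; exact one_ne_zero
  · rw [map_neg, ← neg_add, he]; exact neg_ne_zero.2 one_ne_zero

omit [Fintype F] in
/-- transvection groups of a component lift to the whole space -/
theorem exists_component (hle : M ≤ uiso f) (hpure : ∀ β w, f₀ w w = 0 → RootIn C.hU M (pt T β w))
    {e : Fin N → Fin N → F} (he : ∀ r s, fB (e r) (e s) = if r = s then 1 else 0) (i : Fin N)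
    {g : GL (Fin k) F} (hg : g ∈ utvGroup C.h₀) :
    ∃ z ∈ M, z ∈ uiso f ∧ ∀ j y, act z (pt T (e j) y) = pt T (e j) (if j = i then act g y else y) := by
  suffices ∃ z ∈ M, ∀ j y, act z (pt T (e j) y) = pt T (e j) (if j = i then act g y else y) by
    obtain ⟨z, hz, h⟩ := this
    exact ⟨z, hz, hle hz, h⟩
  rw [utvGroup] at hg
  induction hg using Subgroup.closure_induction with
  | mem x hx =>
    obtain ⟨u, d, hu, hd, rfl⟩ := hx
    refine ⟨utv C.hU (pt T (e i) u) (d / c), (hpure (e i) u hu).2 _ ?_, fun j y => ?_⟩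
    · rw [map_div₀, C.c_fixed, ← add_div, hd, zero_div]
    rw [MaxCl.Unit.act_utv C.hU (hpure (e i) u hu).1, C.form, he]
    by_cases hji : j = i
    · subst hji
      rw [if_pos rfl, if_pos rfl, MaxCl.Unit.act_utv C.h₀ hu, MaxCl.Tens.pt_add_right,
        MaxCl.Tens.pt_smul_right]
      congr 2
      have := C.c_ne
      field_simp
    · rw [if_neg hji, if_neg hji, zero_mul, mul_zero, mul_zero, zero_smul, add_zero]
  | one => exact ⟨1, M.one_mem, fun j y => by simp [act_one]⟩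
  | mul a b _ _ ha hb =>
    obtain ⟨za, hza, ea⟩ := ha
    obtain ⟨zb, hzb, eb⟩ := hb
    refine ⟨za * zb, M.mul_mem hza hzb, fun j y => ?_⟩
    rw [act_mul, eb, ea]
    by_cases hji : j = i <;> simp [hji, act_mul]
  | inv a _ ha =>
    obtain ⟨za, hza, ea⟩ := ha
    refine ⟨za⁻¹, M.inv_mem hza, fun j y => ?_⟩
    conv_lhs => arg 2; rw [show pt T (e j) y = act za (pt T (e j) (if j = i then act a⁻¹ y else y)) by
      rw [ea]; by_cases hji : j = i <;> simp [hji, act_act_inv]]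
    rw [act_inv_act]

/-- all isotropic vectors -/
theorem rootIn_isotropic (hle : M ≤ uiso f) (hpure : ∀ β w, f₀ w w = 0 → RootIn C.hU M (pt T β w))
    {w : Fin k → F} (hw0 : w ≠ 0) (hw : f₀ w w = 0) {x : ι → F} (hx : f x x = 0) : RootIn C.hU M x := by
  classical
  have hnd : Cfsg.Geo.IsNondegenerateOn fB (⊤ : Submodule F (Fin N → F)) := fun v _ hv => by
    obtain ⟨⟨a, ha⟩, ⟨b, hb⟩⟩ := C.hB.nondegenerate v hv
    exact ⟨⟨a, trivial, ha⟩, ⟨b, trivial, hb⟩⟩
  obtain ⟨e, -, he⟩ := MaxCl.Unit.exists_orthonormal_family C.hB N ⊤ hnd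
    (by rw [finrank_top, Module.finrank_fin_fun])
  let X : Fin N → (Fin k → F) := fun i => cL T (flinU C.hB (e i)) x
  have hdec : x = ∑ i, pt T (e i) (X i) := by
    have : LinearMap.id = ∑ i, ptR T (e i) ∘ₗ cL T (flinU C.hB (e i)) := MaxCl.Tens.pt_ext T fun u v => by
      rw [LinearMap.id_apply, LinearMap.sum_apply]
      simp only [LinearMap.comp_apply, MaxCl.Tens.cL_pt, MaxCl.Unit.flinU_apply, MaxCl.Tens.ptR_apply]
      conv_lhs => rw [MaxCl.Unit.onb_expand C.hB he u]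
      rw [show pt T (∑ i, fB u (e i) • e i) v = ptL T v (∑ i, fB u (e i) • e i) from rfl, map_sum]
      exact Finset.sum_congr rfl fun i _ => by rw [MaxCl.Tens.ptL_apply, MaxCl.Tens.pt_smul_comm]
    conv_lhs => rw [← LinearMap.id_apply (R := F) x, this, LinearMap.sum_apply]
    rfl
  set J := Finset.univ.filter fun i => X i ≠ 0 with hJ
  have hdecJ : x = ∑ i ∈ J, pt T (e i) (X i) := by
    rw [hJ, Finset.sum_filter_of_ne]
    · exact hdec
    · intro i _ h h0; exact h (by rw [h0, MaxCl.Tens.pt_zero_right])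
  let ν : Fin N → F := fun i => f₀ (X i) (X i)
  have hperp : ∀ (s : Finset (Fin N)) (Z : Fin N → Fin k → F) (i : Fin N) (y : Fin k → F),
      f (∑ j ∈ s, pt T (e j) (Z j)) (pt T (e i) y) = if i ∈ s then c * f₀ (Z i) y else 0 := by
    intro s Z i y
    rw [show f (∑ j ∈ s, pt T (e j) (Z j)) (pt T (e i) y) =
      flinU C.hU (pt T (e i) y) (∑ j ∈ s, pt T (e j) (Z j)) from rfl, map_sum]
    simp only [MaxCl.Unit.flinU_apply, C.form, he, ite_mul, one_mul, zero_mul, mul_ite, mul_zero]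
    exact Finset.sum_ite_eq' s i _
  have hν : ∑ i ∈ J, ν i = 0 := by
    have h1 : f x x = σ (flinU C.hU x (∑ i ∈ J, pt T (e i) (X i))) := by
      rw [← hdecJ]; exact (MaxCl.Unit.herm' C.hU x x).symm
    rw [map_sum, map_sum, hx] at h1
    have h2 : ∀ i ∈ J, σ (flinU C.hU x (pt T (e i) (X i))) = c * ν i := fun i hi => by
      rw [MaxCl.Unit.flinU_apply, MaxCl.Unit.herm' C.hU]
      conv_lhs => arg 1; rw [hdecJ]
      rw [hperp, if_pos hi]
    rw [Finset.sum_congr rfl h2, ← Finset.mul_sum, eq_comm, mul_eq_zero, or_iff_right C.c_ne] at h1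
    exact h1
  rcases J.eq_empty_or_nonempty with hJe | ⟨j₀, hj₀⟩
  · rw [hdecJ, hJe, Finset.sum_empty]
    simpa [MaxCl.Tens.pt_zero_left] using hpure 0 0 (MaxCl.Unit.zero_left C.h₀ _)
  -- a vector with the same norms and support
  obtain ⟨w', hw', hw'w, hww'⟩ := exists_pair C.h₀ hw0 hw
  obtain ⟨θ, hθ0, hθ⟩ := MaxCl.Unit.exists_skew C.hU.ne_refl C.hU.involutive
  have hσθ : σ θ = -θ := eq_neg_of_add_eq_zero_right hθ
  have hσc := C.c_fixed
  choose k₀ hk₀ using fun i =>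
    MaxCl.Unit.exists_trace C.hU.involutive C.hU.ne_refl (ν i) (MaxCl.Unit.herm' C.h₀ _ _)
  let q : Fin N → F := fun i => if i = j₀ then θ * c - ∑ l ∈ J.erase j₀, k₀ l else k₀ i
  have hqsum : ∑ i ∈ J, q i = θ * c := by
    rw [← Finset.add_sum_erase _ _ hj₀,
      Finset.sum_congr rfl (fun i hi => show q i = k₀ i from if_neg (Finset.ne_of_mem_erase hi))]
    show (if j₀ = j₀ then _ else _) + _ = _
    rw [if_pos rfl]; ring
  have hqtr : ∀ i, q i + σ (q i) = ν i := by
    intro i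
    by_cases hi : i = j₀
    · subst hi
      show (if i = i then _ else _) + σ (if i = i then _ else _) = _
      rw [if_pos rfl, map_sub, map_mul, map_sum, hσθ, hσc]
      rw [← Finset.add_sum_erase _ _ hj₀, ← Finset.sum_congr rfl (fun l _ => hk₀ l), Finset.sum_add_distrib] at hν
      linear_combination -hν
    · show (if i = j₀ then _ else _) + σ (if i = j₀ then _ else _) = _
      rw [if_neg hi]; exact hk₀ i
  let X' : Fin N → Fin k → F := fun i => w + q i • w'
  have hX'ν : ∀ i, f₀ (X' i) (X' i) = ν i := fun i => by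
    simp only [X', MaxCl.Unit.add_left C.h₀, MaxCl.Unit.add_right C.h₀, MaxCl.Unit.smul_left C.h₀,
      MaxCl.Unit.smul_right C.h₀, hw, hw', hw'w, hww']
    linear_combination hqtr i
  have hX'0 : ∀ i, X' i ≠ 0 := fun i h0 => by
    have := congrArg (fun y => f₀ y w') h0
    simp only [X', MaxCl.Unit.add_left C.h₀, MaxCl.Unit.smul_left C.h₀, hw', hww', mul_zero, add_zero,
      MaxCl.Unit.zero_left C.h₀] at this
    exact one_ne_zero this
  have hstart : RootIn C.hU M (∑ i ∈ J, pt T (e i) (X' i)) := by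
    obtain ⟨a, hadef⟩ : ∃ a, a = ∑ i ∈ J, e i := ⟨_, rfl⟩
    obtain ⟨a', ha'def⟩ : ∃ a', a' = ∑ i ∈ J, (q i / (θ * c)) • e i := ⟨_, rfl⟩
    have hθc : θ * c ≠ 0 := mul_ne_zero hθ0 C.c_ne
    have haa : fB a' a = 1 := by
      have hh : ∀ j ∈ J, flinU C.hB a ((q j / (θ * c)) • e j) = q j / (θ * c) := fun j hj => by
        rw [map_smul, smul_eq_mul, MaxCl.Unit.flinU_apply, ← MaxCl.Unit.herm' C.hB, hadef,
          show fB (∑ i ∈ J, e i) (e j) = flinU C.hB (e j) (∑ i ∈ J, e i) from rfl, map_sum]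
        simp only [MaxCl.Unit.flinU_apply, he, Finset.sum_ite_eq', hj, if_true, map_one, mul_one]
      rw [show fB a' a = flinU C.hB a a' from rfl, ha'def, map_sum, Finset.sum_congr rfl hh, ← Finset.sum_div,
        hqsum, div_self hθc]
    have hall' := MaxCl.Unit.rootIn_add C.hU (hpure a' w' hw') (hpure a w hw) (c := θ) hθ
    rw [C.form, ← MaxCl.Unit.herm' C.hB a' a, haa, map_one, hww', one_mul, mul_one] at hall'
    convert hall' using 1
    simp only [hadef, ha'def, ← MaxCl.Tens.ptL_apply, map_sum, map_smul, Finset.smul_sum,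
      ← Finset.sum_add_distrib]
    refine Finset.sum_congr rfl fun i _ => ?_
    rw [MaxCl.Tens.ptL_apply, MaxCl.Tens.ptL_apply, smul_smul, mul_div_cancel₀ _ hθc,
      MaxCl.Tens.pt_add_right, MaxCl.Tens.pt_smul_right]
    simp only [MaxCl.Tens.ptL_apply]
  -- replace the components one at a time
  suffices ∀ S : Finset (Fin N), S ⊆ J →
      RootIn C.hU M (∑ i ∈ J, pt T (e i) (if i ∈ S then X i else X' i)) by
    have h := this J subset_rfl
    rw [Finset.sum_congr rfl (fun i hi => by rw [if_pos hi] :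
      ∀ i ∈ J, pt T (e i) (if i ∈ J then X i else X' i) = pt T (e i) (X i)), ← hdecJ] at h
    exact h
  intro S
  induction S using Finset.induction with
  | empty => intro _; simpa using hstart
  | insert i S hiS ih =>
    intro hsub
    have hiJ : i ∈ J := hsub (Finset.mem_insert_self i S)
    have h0 := ih fun j hj => hsub (Finset.mem_insert_of_mem hj)
    obtain ⟨g, hg, hgX⟩ := exists_move_eq C.h₀ C.three C.hex (hX'0 i) (Finset.mem_filter.1 hiJ).2
      (hX'ν i).symm
    obtain ⟨z, hz, hzf, hzact⟩ := exists_component C hle hpure he i hg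
    have h1 := MaxCl.Unit.rootIn_conj C.hU hz hzf h0
    rw [map_sum] at h1
    convert h1 using 1
    refine Finset.sum_congr rfl fun j _ => ?_
    rw [hzact]
    congr 1
    by_cases hji : j = i
    · subst hji; rw [if_pos (Finset.mem_insert_self j S), if_pos rfl, if_neg hiS, hgX]
    · simp [hji]

end TF

/-! ### spanning by isotropic pure tensors -/

section span

variable {σ : F ≃+* F} {f₀ : (Fin k → F) → (Fin k → F) → F} [Fintype F]

/-- isotropic vectors not orthogonal to `a` span -/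
theorem span_iso_nonorth (h₀ : Cfsg.Geo.IsUnitaryForm σ f₀) {a : Fin k → F} (ha0 : a ≠ 0) (ha : f₀ a a = 0)
    {L : Submodule F (Fin k → F)} (hL : ∀ b, f₀ b b = 0 → f₀ b a ≠ 0 → b ∈ L) (u : Fin k → F) : u ∈ L := by
  obtain ⟨a', ha', ha'a, haa'⟩ := exists_pair h₀ ha0 ha
  obtain ⟨θ, hθ0, hθ⟩ := MaxCl.Unit.exists_skew h₀.ne_refl h₀.involutive
  have hone : ∀ b, f₀ b a = 1 → f₀ b b = 0 → b ∈ L := fun b h1 h2 => hL b h2 (by rw [h1]; exact one_ne_zero)
  have ha'L : a' ∈ L := hone a' ha'a ha'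
  have haL : a ∈ L := by
    have h1 : a' + θ • a ∈ L := hone _
      (by rw [MaxCl.Unit.add_left h₀, MaxCl.Unit.smul_left h₀, ha'a, ha, mul_zero, add_zero])
      (by
        simp only [MaxCl.Unit.add_left h₀, MaxCl.Unit.add_right h₀, MaxCl.Unit.smul_left h₀,
          MaxCl.Unit.smul_right h₀, ha, ha', ha'a, haa']
        linear_combination hθ)
    refine (Submodule.smul_mem_iff L hθ0).1 ?_
    rw [show θ • a = (a' + θ • a) - a' by abel]
    exact L.sub_mem h1 ha'L
  obtain ⟨v, hv⟩ : ∃ v, v = u - f₀ u a' • a - f₀ u a • a' := ⟨_, rfl⟩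
  have hva : f₀ v a = 0 := by
    rw [hv]; simp only [MaxCl.Unit.sub_left h₀, MaxCl.Unit.smul_left h₀, ha, ha'a]; ring
  have hva' : f₀ v a' = 0 := by
    rw [hv]; simp only [MaxCl.Unit.sub_left h₀, MaxCl.Unit.smul_left h₀, ha', haa']; ring
  obtain ⟨e, he⟩ := MaxCl.Unit.exists_trace h₀.involutive h₀.ne_refl (-f₀ v v)
    (by rw [map_neg, MaxCl.Unit.herm' h₀])
  have h1 : e • a + a' + v ∈ L := hone _
    (by
      rw [MaxCl.Unit.add_left h₀, MaxCl.Unit.add_left h₀, MaxCl.Unit.smul_left h₀, ha, ha'a, hva]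
      ring)
    (by
      simp only [MaxCl.Unit.add_left h₀, MaxCl.Unit.add_right h₀, MaxCl.Unit.smul_left h₀,
        MaxCl.Unit.smul_right h₀, ha, ha', ha'a, haa', hva, hva', MaxCl.Unit.eq_zero_symm h₀ hva,
        MaxCl.Unit.eq_zero_symm h₀ hva']
      linear_combination he)
  rw [show u = (e • a + a' + v) - e • a - a' + f₀ u a' • a + f₀ u a • a' by rw [hv]; abel]
  exact L.add_mem (L.add_mem (L.sub_mem (L.sub_mem h1 (L.smul_mem e haL)) ha'L) (L.smul_mem _ haL))
    (L.smul_mem _ ha'L)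

/-- a subspace containing the pure tensors of isotropic vectors not orthogonal to the given ones is everything -/
theorem eq_top_of_pure_iso (h₀ : Cfsg.Geo.IsUnitaryForm σ f₀) (X : PS ι F k t) {a : Fin t → Fin k → F}
    (ha : ∀ j, a j ≠ 0 ∧ f₀ (a j) (a j) = 0) {L : Submodule F (ι → F)}
    (hL : ∀ ys, (∀ j, f₀ (ys j) (ys j) = 0 ∧ f₀ (ys j) (a j) ≠ 0) → pv X ys ∈ L) : L = ⊤ := by
  classical
  have claim : ∀ J : Finset (Fin t), ∀ ys : Fin t → Fin k → F,
      (∀ j ∉ J, f₀ (ys j) (ys j) = 0 ∧ f₀ (ys j) (a j) ≠ 0) → pv X ys ∈ L := by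
    intro J
    induction J using Finset.induction with
    | empty => exact fun ys h => hL ys fun j => h j (Finset.notMem_empty j)
    | insert i J hiJ ih =>
      intro ys h
      let Φ : (Fin k → F) →ₗ[F] (ι → F) := pemb X ∘ₗ
        { toFun := fun u a => (∏ l ∈ Finset.univ.erase i, ys l (a l)) * u (a i)
          map_add' := fun u v => by funext a; simp [mul_add]
          map_smul' := fun r u => by funext a; simp; ring }
      have hΦ : ∀ u, Φ u = pv X (Function.update ys i u) := fun u => by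
        show pemb X _ = pemb X _
        congr 1
        funext a
        show (∏ l ∈ Finset.univ.erase i, ys l (a l)) * u (a i) = _
        rw [← Finset.prod_erase_mul _ _ (Finset.mem_univ i), Function.update_self]
        congr 1
        exact Finset.prod_congr rfl fun l hl => by
          rw [Function.update_of_ne (Finset.ne_of_mem_erase hl)]
      have key : ys i ∈ L.comap Φ := span_iso_nonorth h₀ (ha i).1 (ha i).2 (fun b hb hba => by
        rw [Submodule.mem_comap, hΦ]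
        refine ih _ fun j hj => ?_
        rcases eq_or_ne j i with rfl | hji
        · rw [Function.update_self]; exact ⟨hb, hba⟩
        · rw [Function.update_of_ne hji]
          exact h j (by simp [hji, hj])) (ys i)
      rwa [Submodule.mem_comap, hΦ, Function.update_eq_self] at key
  refine (Submodule.eq_top_iff').2 fun y => ?_
  have e : L.mkQ = 0 := pv_ext X fun ys => by
    rw [Submodule.mkQ_apply, LinearMap.zero_apply, Submodule.Quotient.mk_eq_zero]
    exact claim Finset.univ ys fun j hj => absurd (Finset.mem_univ j) hj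
  rw [← Submodule.Quotient.mk_eq_zero L, ← Submodule.mkQ_apply, e, LinearMap.zero_apply]

end span

/-! ### the spreading -/

section PF

variable {σ : F ≃+* F} {f : (ι → F) → (ι → F) → F} {f₀ : (Fin k → F) → (Fin k → F) → F} {c : F}
variable [Fintype F] {X : PS ι F k (t + 1)} (P : PF X σ f f₀ c)

/-- all pure tensors of isotropic vectors -/
theorem rootIn_pv_iso {M : Subgroup (GL ι F)} (hle : M ≤ uiso f)
    (hslot : ∀ i, ∀ b ∈ suGroup f₀, slot X i b ∈ M) {xs : Fin (t + 1) → Fin k → F}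
    (hxs : ∀ i, xs i ≠ 0 ∧ f₀ (xs i) (xs i) = 0) (hr : RootIn P.hU M (pv X xs))
    (ys : Fin (t + 1) → Fin k → F) (hys : ∀ i, f₀ (ys i) (ys i) = 0) : RootIn P.hU M (pv X ys) := by
  classical
  by_cases hz : ∃ i, ys i = 0
  · obtain ⟨i, hi⟩ := hz
    have e : pv X ys = (0 : F) • pv X xs := by
      rw [zero_smul, pv_split X i ys, hi, MaxCl.Tens.pt_zero_right]
    rw [e]; exact MaxCl.Unit.rootIn_smul P.hU hr 0
  push Not at hz
  choose g hg hgx using fun i =>
    exists_move_eq_iso P.h₀ P.three (hxs i).1 (hz i) (hxs i).2 (hys i)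
  let π : (Fin (t + 1) → GL (Fin k) F) →* GL ι F :=
    { toFun := pure X, map_one' := pure_one X, map_mul' := pure_mul X }
  have hmem : pure X g ∈ M :=
    Subgroup.mem_comap.1 (Subgroup.pi_mem_of_mulSingle_mem (H := M.comap π) g fun i =>
      Subgroup.mem_comap.2 (hslot i (g i) ((P.toTF i).utvGroup_le (hg i))))
  have h1 := MaxCl.Unit.rootIn_conj P.hU hmem (hle hmem) hr
  rwa [act_pure, funext hgx] at h1

/-- One root group at an isotropic pure tensor gives the special unitary group. -/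
theorem su_le_of_pure_root (ht : 1 ≤ t) {M : Subgroup (GL ι F)}
    (hle : M ≤ uiso f) (hslot : ∀ i, ∀ b ∈ suGroup f₀, slot X i b ∈ M) {xs : Fin (t + 1) → Fin k → F}
    (hxs : ∀ i, xs i ≠ 0 ∧ f₀ (xs i) (xs i) = 0) (hr : RootIn P.hU M (pv X xs)) : suGroup f ≤ M := by
  classical
  have C := P.toTF 0
  have hright : ∀ b ∈ utvGroup C.h₀, gl (split X 0) 1 b ∈ M := fun b hb => by
    rw [gl_slot]; exact hslot 0 b (C.utvGroup_le hb)
  -- pure isotropic vectors of the other factors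
  have hB : ∀ ys : Fin t → Fin k → F, (∀ j, f₀ (ys j) (ys j) = 0) → ∀ w, f₀ w w = 0 →
      RootIn C.hU M (pt (split X 0) (pv (sub F k t) ys) w) := fun ys hys w hw => by
    rw [pt_pv]
    exact rootIn_pv_iso P hle hslot hxs hr _ fun i => by
      refine Fin.succAboveCases 0 ?_ (fun j => ?_) i
      · rw [Fin.insertNth_apply_same]; exact hw
      · rw [Fin.insertNth_apply_succAbove]; exact hys j
  have hBiso : ∀ ys : Fin t → Fin k → F, (∀ j, f₀ (ys j) (ys j) = 0) →
      gramForm σ f₀ t (pv (sub F k t) ys) (pv (sub F k t) ys) = 0 := fun ys hys => by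
    rw [gramForm_pv P.h₀]
    exact Finset.prod_eq_zero (Finset.mem_univ (⟨0, ht⟩ : Fin t)) (hys _)
  have hall : ∀ β w, f₀ w w = 0 → RootIn C.hU M (pt (split X 0) β w) := by
    intro β w hw
    let S : (Fin (k ^ t) → F) → Submodule F (Fin (k ^ t) → F) := fun γ =>
      { carrier := {b | ∀ ξ, TopIn (split X 0) σ f₀ M w (symPair C.hB ξ b γ)}
        add_mem' := fun {a b} ha hb ξ => by
          rw [symPair_add]; exact topIn_add hw (ha ξ) (hb ξ)
        zero_mem' := fun ξ => by rw [symPair_zero]; exact topIn_zero w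
        smul_mem' := fun r b hb ξ => by rw [symPair_smul]; exact hb _ }
    have h1 : ∀ γs : Fin t → Fin k → F, (∀ j, γs j ≠ 0 ∧ f₀ (γs j) (γs j) = 0) →
        S (pv (sub F k t) γs) = ⊤ := fun γs hγ =>
      eq_top_of_pure_iso P.h₀ (sub F k t) hγ fun ys hys ξ =>
        topIn_symPair C hle hright (hBiso ys fun j => (hys j).1) (hBiso γs fun j => (hγ j).2)
          (by
            rw [gramForm_pv P.h₀]
            exact Finset.prod_ne_zero_iff.2 fun j _ => (hys j).2)
          (hB ys fun j => (hys j).1) (hB γs fun j => (hγ j).2) hw ξ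
    have h2 : S β = ⊤ :=
      eq_top_of_pure_iso P.h₀ (sub F k t) (a := fun j => xs j.succ) (fun j => hxs j.succ) fun ys hys ξ => by
        rw [symPair_comm]
        have hys0 : ∀ j, ys j ≠ 0 ∧ f₀ (ys j) (ys j) = 0 := fun j =>
          ⟨fun h => (hys j).2 (by rw [h, MaxCl.Unit.zero_left P.h₀]), (hys j).1⟩
        have hmem : β ∈ S (pv (sub F k t) ys) := by rw [h1 ys hys0]; trivial
        exact hmem _
    obtain ⟨e, he⟩ := MaxCl.Unit.exists_trace_one P.hU.involutive P.hU.ne_refl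
    have hβ : β ∈ S β := by rw [h2]; trivial
    refine rootIn_of_topIn C hw ?_
    have := hβ e
    rwa [symPair, ← add_smul, he, one_smul] at this
  have hk := P.three
  have hcard : 6 ≤ Fintype.card ι := by
    rw [Fintype.card_congr X.e, Fintype.card_fun, Fintype.card_fin, Fintype.card_fin]
    calc 6 ≤ 3 ^ 2 := by norm_num
      _ ≤ k ^ 2 := Nat.pow_le_pow_left hk 2
      _ ≤ k ^ (t + 1) := Nat.pow_le_pow_right (by omega) (by omega)
  exact MaxCl.Unit.su_le_of_utv P.hU hcard M fun u d hu hd =>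
    (rootIn_isotropic C hle hall (hxs 0).1 (hxs 0).2 hu).2 d hd

end PF

end Cfsg.Agent.TPow
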