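/-
Tensor products of endomorphisms of the factors, sesquilinear kernels on one factor and the operators on them coming
from conjugation by isometries of that factor.
-/
import Mathlib
import Cfsg.Agent.Lib.TPow.Cent
import Cfsg.Agent.Lib.TPow.Wreath

set_option autoImplicit false

namespace Cfsg.Agent.TPow

open scoped MatrixGroups Matrix
open Module (finrank)
open MaxCl (act gl_ext act_mul act_one act_inv_act act_act_inv act_apply exists_dual)
open MaxCl.Unit (uiso flinU utv utvGroup)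
open MaxCl.Tens (TSys pt suGroup)

variable {ι : Type} [Fintype ι] [DecidableEq ι] {F : Type*} [Field F] {k t : ℕ}

/-! ### tensor products of endomorphisms -/

section pend

variable (X : PS ι F k t)

/-- the coordinates of a vector -/
def pinv : (ι → F) →ₗ[F] ((Fin t → Fin k) → F) := LinearMap.funLeft F F X.e.symm ∘ₗ act X.P⁻¹

theorem pinv_pemb (y : (Fin t → Fin k) → F) : pinv X (pemb X y) = y := by
  funext a
  show act X.P⁻¹ (act X.P (y ∘ X.e)) (X.e.symm a) = y a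
  rw [act_inv_act]; simp

/-- the tensor product of endomorphisms of the factors -/
noncomputable def pend (e : Fin t → (Fin k → F) →ₗ[F] (Fin k → F)) : (ι → F) →ₗ[F] (ι → F) :=
  pemb X ∘ₗ Matrix.toLin' (Matrix.of fun x y => ∏ i, LinearMap.toMatrix' (e i) (x i) (y i)) ∘ₗ pinv X

theorem pend_pv (e : Fin t → (Fin k → F) →ₗ[F] (Fin k → F)) (xs : Fin t → Fin k → F) :
    pend X e (pv X xs) = pv X fun i => e i (xs i) := by
  simp only [pend, pv, LinearMap.comp_apply, pinv_pemb, Matrix.toLin'_apply]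
  congr 1
  funext x
  show ∑ y : Fin t → Fin k, (∏ i, LinearMap.toMatrix' (e i) (x i) (y i)) * ∏ i, xs i (y i) = _
  simp only [← Finset.prod_mul_distrib]
  rw [(Fintype.prod_sum fun i c => LinearMap.toMatrix' (e i) (x i) c * xs i c).symm]
  refine Finset.prod_congr rfl fun i _ => ?_
  conv_rhs => rw [← Matrix.toLin'_toMatrix' (e i)]
  rw [Matrix.toLin'_apply]
  rfl

theorem pend_comp (e e' : Fin t → (Fin k → F) →ₗ[F] (Fin k → F)) (x : ι → F) :
    pend X e (pend X e' x) = pend X (fun i => e i ∘ₗ e' i) x :=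
  LinearMap.congr_fun (pv_ext X (L := pend X e ∘ₗ pend X e') fun xs => by
    simp only [LinearMap.comp_apply, pend_pv]) x

theorem pend_id : pend X (fun _ => LinearMap.id) = LinearMap.id :=
  pv_ext X fun xs => by simp [pend_pv]

theorem pv_eq_zero {xs : Fin t → Fin k → F} {i : Fin t} (h : xs i = 0) : pv X xs = 0 := by
  unfold pv
  rw [show (fun a : Fin t → Fin k => ∏ j, xs j (a j)) = 0 from funext fun a =>
    Finset.prod_eq_zero (Finset.mem_univ i) (by rw [h]; rfl), map_zero]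

theorem pend_eq_zero {e : Fin t → (Fin k → F) →ₗ[F] (Fin k → F)} {i : Fin t} (h : e i = 0) :
    pend X e = 0 :=
  pv_ext X fun xs => by
    rw [pend_pv, LinearMap.zero_apply]
    exact pv_eq_zero X (i := i) (by rw [h, LinearMap.zero_apply])

theorem pend_pure (a : Fin t → GL (Fin k) F) (e : Fin t → (Fin k → F) →ₗ[F] (Fin k → F)) (x : ι → F) :
    act (pure X a) (pend X e (act (pure X a)⁻¹ x)) = pend X (fun i => act (a i) ∘ₗ e i ∘ₗ act (a i)⁻¹) x := by
  have hinv : (pure X a)⁻¹ = pure X fun i => (a i)⁻¹ :=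
    inv_eq_of_mul_eq_one_right (by
      rw [← pure_mul]
      convert pure_one X
      funext i; simp)
  exact LinearMap.congr_fun (pv_ext X (L := act (pure X a) ∘ₗ pend X e ∘ₗ act (pure X a)⁻¹) fun xs => by
    simp only [LinearMap.comp_apply, hinv, act_pure, pend_pv]) x

theorem pend_perm (π : Equiv.Perm (Fin t)) (e : Fin t → (Fin k → F) →ₗ[F] (Fin k → F)) (x : ι → F) :
    act (perm X π) (pend X e (act (perm X π)⁻¹ x)) = pend X (fun i => e (π.symm i)) x := by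
  have hinv : (perm X π)⁻¹ = perm X π⁻¹ :=
    inv_eq_of_mul_eq_one_right (by rw [← perm_mul, mul_inv_cancel, perm_one])
  exact LinearMap.congr_fun (pv_ext X (L := act (perm X π) ∘ₗ pend X e ∘ₗ act (perm X π)⁻¹) fun xs => by
    simp only [LinearMap.comp_apply, hinv, act_perm, pend_pv]
    congr 1
    funext i
    show e (π.symm i) (xs (π⁻¹.symm (π.symm i))) = e (π.symm i) (xs i)
    congr 2
    exact π.apply_symm_apply i) x

/-- the pure tensor as a linear function of one factor -/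
def pvL (xs : Fin t → Fin k → F) (i : Fin t) : (Fin k → F) →ₗ[F] (ι → F) :=
  pemb X ∘ₗ
    { toFun := fun u a => (∏ l ∈ Finset.univ.erase i, xs l (a l)) * u (a i)
      map_add' := fun u v => by funext a; simp [mul_add]
      map_smul' := fun r u => by funext a; simp; ring }

theorem pvL_apply (xs : Fin t → Fin k → F) (i : Fin t) (u : Fin k → F) :
    pvL X xs i u = pv X (Function.update xs i u) := by
  show pemb X _ = pemb X _
  congr 1
  funext a
  show (∏ l ∈ Finset.univ.erase i, xs l (a l)) * u (a i) = _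
  rw [← Finset.prod_erase_mul _ _ (Finset.mem_univ i), Function.update_self]
  congr 1
  exact Finset.prod_congr rfl fun l hl => by
    rw [Function.update_of_ne (Finset.ne_of_mem_erase hl)]

end pend

theorem pend_split (X : PS ι F k (t + 1)) (m : Fin (t + 1))
    (e : Fin (t + 1) → (Fin k → F) →ₗ[F] (Fin k → F)) (u : Fin (k ^ t) → F) (y : Fin k → F) :
    pend X e (pt (split X m) u y) =
      pt (split X m) (pend (sub F k t) (fun j => e (m.succAbove j)) u) (e m y) :=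
  LinearMap.congr_fun (pv_ext (sub F k t) (L := pend X e ∘ₗ MaxCl.Tens.ptL (split X m) y)
    (L' := MaxCl.Tens.ptL (split X m) (e m y) ∘ₗ pend (sub F k t) fun j => e (m.succAbove j)) fun ys => by
    simp only [LinearMap.comp_apply, MaxCl.Tens.ptL_apply, pend_pv, pt_pv]
    congr 1
    funext i
    refine Fin.succAboveCases m ?_ (fun j => ?_) i
    · rw [Fin.insertNth_apply_same, Fin.insertNth_apply_same]
    · rw [Fin.insertNth_apply_succAbove, Fin.insertNth_apply_succAbove]) u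

/-! ### the factors of a pure operator -/

variable {σ : F ≃+* F} {f₀ : (Fin k → F) → (Fin k → F) → F}

/-- `y ↦ f₀(y, v) v` -/
def pT (h₀ : Cfsg.Geo.IsUnitaryForm σ f₀) (v : Fin k → F) : (Fin k → F) →ₗ[F] (Fin k → F) :=
  (flinU h₀ v).smulRight v

theorem pT_apply (h₀ : Cfsg.Geo.IsUnitaryForm σ f₀) (v y : Fin k → F) : pT h₀ v y = f₀ y v • v := rfl

theorem pT_pT (h₀ : Cfsg.Geo.IsUnitaryForm σ f₀) {v : Fin k → F} (hv : f₀ v v = 0) :
    pT h₀ v ∘ₗ pT h₀ v = 0 :=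
  LinearMap.ext fun y => by
    rw [LinearMap.comp_apply, pT_apply, pT_apply, MaxCl.Unit.smul_left h₀, hv, mul_zero, zero_smul,
      LinearMap.zero_apply]

/-- the operator `P` on the factors in `J`, the identity on the others -/
def fac {n : ℕ} (h₀ : Cfsg.Geo.IsUnitaryForm σ f₀) (J : Finset (Fin n)) (v : Fin n → Fin k → F) (i : Fin n) :
    (Fin k → F) →ₗ[F] (Fin k → F) :=
  if i ∈ J then pT h₀ (v i) else LinearMap.id

theorem fac_of_mem {n : ℕ} (h₀ : Cfsg.Geo.IsUnitaryForm σ f₀) {J : Finset (Fin n)} (v : Fin n → Fin k → F)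
    {i : Fin n} (hi : i ∈ J) : fac h₀ J v i = pT h₀ (v i) := if_pos hi

theorem fac_of_notMem {n : ℕ} (h₀ : Cfsg.Geo.IsUnitaryForm σ f₀) {J : Finset (Fin n)} (v : Fin n → Fin k → F)
    {i : Fin n} (hi : i ∉ J) : fac h₀ J v i = LinearMap.id := if_neg hi

/-! ### kernels on one factor -/

/-- functions of two vectors of the factor -/
abbrev Kern (F : Type*) (k : ℕ) := (Fin k → F) → (Fin k → F) → F

/-- linear in the first and semilinear in the second argument -/
structure IsSesq (σ : F ≃+* F) (K : Kern F k) : Prop where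
  addL : ∀ x x' y, K (x + x') y = K x y + K x' y
  smulL : ∀ (a : F) x y, K (a • x) y = a * K x y
  addR : ∀ x y y', K x (y + y') = K x y + K x y'
  smulR : ∀ (a : F) x y, K x (a • y) = σ a * K x y

/-- the kernel of `y ↦ f₀(y, v) v` -/
def qker (f₀ : Kern F k) (v : Fin k → F) : Kern F k := fun x y => f₀ x v * f₀ v y

/-- pulling kernels back along an element -/
def pullK (g : GL (Fin k) F) : Kern F k →ₗ[F] Kern F k where
  toFun K := fun x y => K (act g x) (act g y)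
  map_add' _ _ := rfl
  map_smul' _ _ := rfl

/-- evaluation at two vectors -/
def evalK (u v : Fin k → F) : Kern F k →ₗ[F] F where
  toFun K := K u v
  map_add' _ _ := rfl
  map_smul' _ _ := rfl

/-- operators which a closed class of moves on kernels contains -/
structure OpClosed (σ : F ≃+* F) (f₀ : Kern F k) (P : (Kern F k →ₗ[F] Kern F k) → Prop) : Prop where
  id : P LinearMap.id
  comp : ∀ {A B}, P A → P B → P (A ∘ₗ B)
  add : ∀ {A B}, P A → P B → P (A + B)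
  smul : ∀ {a : F} {A}, σ a = a → P A → P (a • A)
  pull : ∀ {g}, g ∈ suGroup f₀ → P (pullK g)

theorem OpClosed.sub {P : (Kern F k →ₗ[F] Kern F k) → Prop} (hP : OpClosed σ f₀ P) {A B} (hA : P A) (hB : P B) :
    P (A - B) := by
  rw [show A - B = A + (-1 : F) • B by module]
  exact hP.add hA (hP.smul (by rw [map_neg, map_one]) hB)

variable [Fintype F]

/-- a sesquilinear kernel vanishing on isotropic vectors is a multiple of the form -/
theorem sesq_scalar_of_iso_zero (h₀ : Cfsg.Geo.IsUnitaryForm σ f₀) {K : Kern F k} (hK : IsSesq σ K)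
    {v₁ : Fin k → F} (hv₁0 : v₁ ≠ 0) (hv₁ : f₀ v₁ v₁ = 0)
    (hiso : ∀ v, f₀ v v = 0 → K v v = 0) : ∃ r : F, ∀ x y, K x y = r * f₀ x y := by
  obtain ⟨w, hw, hwv, hvw⟩ := exists_pair h₀ hv₁0 hv₁
  obtain ⟨θ, hθ0, hθ⟩ := MaxCl.Unit.exists_skew h₀.ne_refl h₀.involutive
  obtain ⟨a₀, ha₀⟩ := MaxCl.Unit.exists_moved h₀.ne_refl
  obtain ⟨r, hr⟩ : ∃ r, r = K v₁ w := ⟨_, rfl⟩
  refine ⟨r, ?_⟩
  obtain ⟨D, hD⟩ : ∃ D : Kern F k, ∀ x y, D x y = K x y - r * f₀ x y :=
    ⟨fun x y => K x y - r * f₀ x y, fun _ _ => rfl⟩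
  suffices ∀ x y, D x y = 0 from fun x y => sub_eq_zero.1 ((hD x y).symm.trans (this x y))
  have dL : ∀ x x' y, D (x + x') y = D x y + D x' y := fun x x' y => by
    simp only [hD, hK.addL, MaxCl.Unit.add_left h₀]; ring
  have dsL : ∀ (a : F) x y, D (a • x) y = a * D x y := fun a x y => by
    simp only [hD, hK.smulL, MaxCl.Unit.smul_left h₀]; ring
  have dR : ∀ x y y', D x (y + y') = D x y + D x y' := fun x y y' => by
    simp only [hD, hK.addR, MaxCl.Unit.add_right h₀]; ring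
  have dsR : ∀ (a : F) x y, D x (a • y) = σ a * D x y := fun a x y => by
    simp only [hD, hK.smulR, MaxCl.Unit.smul_right h₀]; ring
  have diso : ∀ v, f₀ v v = 0 → D v v = 0 := fun v hv => by rw [hD, hiso v hv, hv, mul_zero, sub_zero]
  have dvv : D v₁ v₁ = 0 := diso _ hv₁
  have dww : D w w = 0 := diso _ hw
  have dvw : D v₁ w = 0 := by rw [hD, ← hr, hvw, mul_one, sub_self]
  have dwv : D w v₁ = 0 := by
    have h1 := diso (v₁ + θ • w) (by
      simp only [MaxCl.Unit.add_left h₀, MaxCl.Unit.add_right h₀, MaxCl.Unit.smul_left h₀,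
        MaxCl.Unit.smul_right h₀, hv₁, hw, hwv, hvw]
      linear_combination hθ)
    simp only [dL, dR, dsL, dsR, dvv, dww, dvw] at h1
    have : θ * D w v₁ = 0 := by linear_combination h1
    exact (mul_eq_zero.1 this).resolve_left hθ0
  -- vectors orthogonal to the pair
  have mixed : ∀ v₁ w : Fin k → F, f₀ v₁ v₁ = 0 → f₀ w w = 0 → f₀ w v₁ = 1 → f₀ v₁ w = 1 → D v₁ v₁ = 0 →
      D w w = 0 → D v₁ w = 0 → D w v₁ = 0 → ∀ u, f₀ u v₁ = 0 → f₀ u w = 0 → D v₁ u = 0 ∧ D u v₁ = 0 := by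
    intro v₁ w hv₁ hw hwv hvw dvv dww dvw dwv
    have key : ∀ u, f₀ u v₁ = 0 → f₀ u w = 0 → D v₁ u = D u v₁ := by
      intro u huv huw
      have hvu := MaxCl.Unit.eq_zero_symm h₀ huv
      have hwu := MaxCl.Unit.eq_zero_symm h₀ huw
      obtain ⟨e, he⟩ := MaxCl.Unit.exists_trace h₀.involutive h₀.ne_refl (-f₀ u u)
        (by rw [map_neg, MaxCl.Unit.herm' h₀])
      have hx : ∀ e, e + σ e = -f₀ u u → f₀ (e • v₁ + w + u) (e • v₁ + w + u) = 0 := fun e he => by
        simp only [MaxCl.Unit.add_left h₀, MaxCl.Unit.add_right h₀, MaxCl.Unit.smul_left h₀,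
          MaxCl.Unit.smul_right h₀, hv₁, hw, hwv, hvw, huv, huw, hvu, hwu]
        linear_combination he
      have h1 := diso _ (hx e he)
      have h2 := diso _ (hx (e + θ) (by rw [map_add]; linear_combination he + hθ))
      simp only [dL, dR, dsL, dsR, dvv, dww, dvw, dwv, map_add] at h1 h2
      have : θ * (D v₁ u - D u v₁) = 0 := by linear_combination h2 - h1 - D u v₁ * hθ
      exact sub_eq_zero.1 ((mul_eq_zero.1 this).resolve_left hθ0)
    intro u huv huw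
    have h1 := key u huv huw
    have h2 := key (a₀ • u) (by rw [MaxCl.Unit.smul_left h₀, huv, mul_zero])
      (by rw [MaxCl.Unit.smul_left h₀, huw, mul_zero])
    rw [dsL, dsR, h1] at h2
    have : (σ a₀ - a₀) * D u v₁ = 0 := by linear_combination h2
    have h3 := (mul_eq_zero.1 this).resolve_left (sub_ne_zero.2 ha₀)
    exact ⟨h1.trans h3, h3⟩
  have duu : ∀ u, f₀ u v₁ = 0 → f₀ u w = 0 → D u u = 0 := by
    intro u huv huw
    obtain ⟨m1, m2⟩ := mixed v₁ w hv₁ hw hwv hvw dvv dww dvw dwv u huv huw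
    obtain ⟨m3, m4⟩ := mixed w v₁ hw hv₁ hvw hwv dww dvv dwv dvw u huw huv
    obtain ⟨e, he⟩ := MaxCl.Unit.exists_trace h₀.involutive h₀.ne_refl (-f₀ u u)
      (by rw [map_neg, MaxCl.Unit.herm' h₀])
    have h1 := diso (e • v₁ + w + u) (by
      simp only [MaxCl.Unit.add_left h₀, MaxCl.Unit.add_right h₀, MaxCl.Unit.smul_left h₀,
        MaxCl.Unit.smul_right h₀, hv₁, hw, hwv, hvw, huv, huw, MaxCl.Unit.eq_zero_symm h₀ huv,
        MaxCl.Unit.eq_zero_symm h₀ huw]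
      linear_combination he)
    simp only [dL, dR, dsL, dsR, dvv, dww, dvw, dwv, m1, m2, m3, m4] at h1
    linear_combination h1
  intro x y
  have split : ∀ x, ∃ u, f₀ u v₁ = 0 ∧ f₀ u w = 0 ∧ x = f₀ x w • v₁ + f₀ x v₁ • w + u := fun x =>
    ⟨x - f₀ x w • v₁ - f₀ x v₁ • w,
      by simp only [MaxCl.Unit.sub_left h₀, MaxCl.Unit.smul_left h₀, hv₁, hwv]; ring,
      by simp only [MaxCl.Unit.sub_left h₀, MaxCl.Unit.smul_left h₀, hw, hvw]; ring,
      by abel⟩
  obtain ⟨u, huv, huw, hx⟩ := split x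
  obtain ⟨u', hu'v, hu'w, hy⟩ := split y
  obtain ⟨m1, m2⟩ := mixed v₁ w hv₁ hw hwv hvw dvv dww dvw dwv u huv huw
  obtain ⟨m3, m4⟩ := mixed w v₁ hw hv₁ hvw hwv dww dvv dwv dvw u huw huv
  obtain ⟨n1, n2⟩ := mixed v₁ w hv₁ hw hwv hvw dvv dww dvw dwv u' hu'v hu'w
  obtain ⟨n3, n4⟩ := mixed w v₁ hw hv₁ hvw hwv dww dvv dwv dvw u' hu'w hu'v
  have pol : D u u' = 0 := by
    have q : ∀ a : F, σ a * D u u' + a * D u' u = 0 := fun a => by
      have := duu (u + a • u') (by rw [MaxCl.Unit.add_left h₀, MaxCl.Unit.smul_left h₀, huv, hu'v, mul_zero, add_zero])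
        (by rw [MaxCl.Unit.add_left h₀, MaxCl.Unit.smul_left h₀, huw, hu'w, mul_zero, add_zero])
      simp only [dL, dR, dsL, dsR, duu u huv huw, duu u' hu'v hu'w] at this
      linear_combination this
    have e1 := q 1
    rw [map_one] at e1
    have : (σ a₀ - a₀) * D u u' = 0 := by linear_combination q a₀ - a₀ * e1
    exact (mul_eq_zero.1 this).resolve_left (sub_ne_zero.2 ha₀)
  rw [hx, hy]
  simp only [dL, dR, dsL, dsR, dvv, dww, dvw, dwv, m2, m4, n1, n3, pol]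
  ring

/-- either some move of the class isolates a transvection kernel, or all the kernels are multiples of the form -/
theorem exists_op (hk : 3 ≤ k) (hex : k = 3 → ∃ x : F, σ x = x ∧ x ≠ 0 ∧ x ≠ 1)
    (h₀ : Cfsg.Geo.IsUnitaryForm σ f₀) {P : (Kern F k →ₗ[F] Kern F k) → Prop} (hP : OpClosed σ f₀ P)
    (𝒦 : Set (Kern F k)) (h𝒦 : ∀ K ∈ 𝒦, IsSesq σ K) {v₁ : Fin k → F} (hv₁0 : v₁ ≠ 0) (hv₁ : f₀ v₁ v₁ = 0) :
    (∃ Ω, P Ω ∧ ∃ v, v ≠ 0 ∧ f₀ v v = 0 ∧ ∃ G : Kern F k →ₗ[F] F,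
      (∀ K ∈ 𝒦, Ω K = G K • qker f₀ v) ∧ ∃ K ∈ 𝒦, G K ≠ 0) ∨
    ∃ G : Kern F k →ₗ[F] F, ∀ K ∈ 𝒦, K = G K • f₀ := by
  classical
  obtain ⟨θ, hθ0, hθ⟩ := MaxCl.Unit.exists_skew h₀.ne_refl h₀.involutive
  have hσθ : σ θ = -θ := eq_neg_of_add_eq_zero_right hθ
  by_cases hne : ∃ K ∈ 𝒦, ∃ v, f₀ v v = 0 ∧ K v v ≠ 0
  swap
  · push Not at hne
    obtain ⟨w, hw, hwv, hvw⟩ := exists_pair h₀ hv₁0 hv₁
    obtain ⟨p, -, -, hp⟩ := exists_aniso h₀ hv₁ hw hwv hvw hk
    refine Or.inr ⟨(f₀ p p)⁻¹ • evalK p p, fun K hK => ?_⟩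
    obtain ⟨r, hr⟩ := sesq_scalar_of_iso_zero h₀ (h𝒦 K hK) hv₁0 hv₁ (hne K hK)
    funext x y
    show K x y = ((f₀ p p)⁻¹ * K p p) * f₀ x y
    rw [hr p p, hr x y]; field_simp
  left
  obtain ⟨K₀, hK₀, v, hv, hKv⟩ := hne
  have hv0 : v ≠ 0 := by
    rintro rfl
    apply hKv
    have := (h𝒦 K₀ hK₀).smulL 0 0 0
    simpa using this
  have utv_mem : ∀ {u : Fin k → F}, f₀ u u = 0 → ∀ {e : F}, e + σ e = 0 → utv h₀ u e ∈ suGroup f₀ :=
    fun {u} hu {e} he => ⟨MaxCl.Unit.utv_mem h₀ hu he,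
      MaxCl.Unit.det_ptv h₀ (by rw [MaxCl.Unit.smul_right h₀, hu, mul_zero])⟩
  rcases Nat.lt_or_ge k 4 with hk4 | hk4
  · obtain ⟨l, hl, hl0, hl1⟩ := hex (by omega)
    have hlθ : l * θ + σ (l * θ) = 0 := by rw [map_mul, hl, ← mul_add, hθ, mul_zero]
    refine ⟨(pullK (utv h₀ v (l * θ)) - LinearMap.id) - l • (pullK (utv h₀ v θ) - LinearMap.id),
      hP.sub (hP.sub (hP.pull (utv_mem hv hlθ)) hP.id) (hP.smul hl (hP.sub (hP.pull (utv_mem hv hθ)) hP.id)),
      v, hv0, hv, ((l * l - l) * (θ * σ θ)) • evalK v v, fun K hK => ?_, K₀, hK₀, ?_⟩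
    · have S := h𝒦 K hK
      funext x y
      show (K (act (utv h₀ v (l * θ)) x) (act (utv h₀ v (l * θ)) y) - K x y) -
          l * (K (act (utv h₀ v θ) x) (act (utv h₀ v θ) y) - K x y) =
        ((l * l - l) * (θ * σ θ) * K v v) * (f₀ x v * f₀ v y)
      simp only [MaxCl.Unit.act_utv h₀ hv, S.addL, S.addR, S.smulL, S.smulR, map_mul, hl,
        MaxCl.Unit.herm' h₀]
      ring
    · show (l * l - l) * (θ * σ θ) * K₀ v v ≠ 0
      refine mul_ne_zero (mul_ne_zero ?_ (mul_ne_zero hθ0 ((map_ne_zero σ).2 hθ0))) hKv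
      rw [show l * l - l = l * (l - 1) by ring]
      exact mul_ne_zero hl0 (sub_ne_zero.2 hl1)
  -- at least four dimensions
  have key : ∀ a b, a ≠ 0 → f₀ a a = 0 → f₀ b b = 0 → f₀ b a = 0 → b ∉ F ∙ a → ∀ l : F,
      ∃ Ω, P Ω ∧ ∀ K, IsSesq σ K → Ω K = ((θ * σ θ) * (σ l * K b a + l * K a b)) • qker f₀ a := by
    intro a b _ ha hb hba hind l
    obtain ⟨χ, h0, h1⟩ := exists_dual _ hind
    obtain ⟨φ, hφ⟩ := MaxCl.Unit.exists_repr h₀ χ
    have hφa : f₀ φ a = 0 :=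
      MaxCl.Unit.eq_zero_symm h₀ (by rw [← hφ, h0 a (Submodule.mem_span_singleton_self a)])
    have hbφ : f₀ b φ = 1 := by rw [← hφ, h1]
    obtain ⟨e, -, q, hq, hqa⟩ := exists_heis h₀ ha hφa l
    have hqv : act q a = a := by rw [hqa, ha, MaxCl.Unit.eq_zero_symm h₀ hφa]; simp
    have hqb : act q b = b + l • a := by rw [hqa, hba, hbφ]; simp
    have adj : ∀ x y, f₀ (act q⁻¹ x) y = f₀ x (act q y) := fun x y => by
      rw [← MaxCl.Unit.mem_uiso.1 hq.1, act_act_inv]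
    have adj' : ∀ x y, f₀ x (act q⁻¹ y) = f₀ (act q x) y := fun x y => by
      rw [← MaxCl.Unit.mem_uiso.1 hq.1 x, act_act_inv]
    let Δ : (Fin k → F) → (Kern F k →ₗ[F] Kern F k) := fun u => pullK (utv h₀ u θ) - LinearMap.id
    refine ⟨(pullK q⁻¹ - LinearMap.id) ∘ₗ (Δ b ∘ₗ Δ a), hP.comp (hP.sub (hP.pull (inv_mem hq)) hP.id)
      (hP.comp (hP.sub (hP.pull (utv_mem hb hθ)) hP.id) (hP.sub (hP.pull (utv_mem ha hθ)) hP.id)),
      fun K S => ?_⟩
    have hE : ∀ x y, (Δ b ∘ₗ Δ a) K x y =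
        (θ * σ θ) * (f₀ x b * f₀ a y * K b a + f₀ x a * f₀ b y * K a b) := fun x y => by
      show (K (act (utv h₀ a θ) (act (utv h₀ b θ) x)) (act (utv h₀ a θ) (act (utv h₀ b θ) y)) -
          K (act (utv h₀ b θ) x) (act (utv h₀ b θ) y)) -
        (K (act (utv h₀ a θ) x) (act (utv h₀ a θ) y) - K x y) = _
      simp only [MaxCl.Unit.act_utv h₀ ha, MaxCl.Unit.act_utv h₀ hb, S.addL, S.addR, S.smulL, S.smulR,
        MaxCl.Unit.add_left h₀, MaxCl.Unit.smul_left h₀, hba, map_mul, map_add, map_zero,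
        MaxCl.Unit.herm' h₀]
      ring
    funext x y
    show (Δ b ∘ₗ Δ a) K (act q⁻¹ x) (act q⁻¹ y) - (Δ b ∘ₗ Δ a) K x y = _
    rw [hE, hE, adj, adj, adj', adj', hqv, hqb, MaxCl.Unit.add_right h₀, MaxCl.Unit.smul_right h₀,
      MaxCl.Unit.add_left h₀, MaxCl.Unit.smul_left h₀]
    show _ = (θ * σ θ * (σ l * K b a + l * K a b)) * (f₀ x a * f₀ a y)
    ring
  by_contra hno
  obtain ⟨a₀, ha₀⟩ := MaxCl.Unit.exists_moved h₀.ne_refl
  have van : ∀ a b, a ≠ 0 → f₀ a a = 0 → f₀ b b = 0 → f₀ b a = 0 → b ∉ F ∙ a →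
      ∀ K ∈ 𝒦, K b a = 0 ∧ K a b = 0 := by
    intro a b ha0 ha hb hba hind K hK
    have hz : ∀ l : F, σ l * K b a + l * K a b = 0 := fun l => by
      by_contra hl
      obtain ⟨Ω, hΩ, hΩK⟩ := key a b ha0 ha hb hba hind l
      refine hno ⟨Ω, hΩ, a, ha0, ha, (θ * σ θ) • (σ l • evalK b a + l • evalK a b),
        fun K hK => hΩK K (h𝒦 K hK), K, hK, ?_⟩
      show θ * σ θ * (σ l * K b a + l * K a b) ≠ 0
      exact mul_ne_zero (mul_ne_zero hθ0 ((map_ne_zero σ).2 hθ0)) hl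
    have e1 := hz 1
    rw [map_one] at e1
    have : (σ a₀ - a₀) * K b a = 0 := by linear_combination hz a₀ - a₀ * e1
    have h1 := (mul_eq_zero.1 this).resolve_left (sub_ne_zero.2 ha₀)
    exact ⟨h1, by linear_combination e1 - h1⟩
  obtain ⟨b, hb, hbv, hind⟩ := exists_orth_iso h₀ hv0 hv hk4
  have hind' : b + (1 : F) • v ∉ F ∙ v := fun h' => hind (by
    have := Submodule.sub_mem _ h' (Submodule.smul_mem _ (1 : F) (Submodule.mem_span_singleton_self v))
    rwa [add_sub_cancel_right] at this)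
  have h1 := (van v (b + (1 : F) • v) hv0 hv
    (by simp only [MaxCl.Unit.add_left h₀, MaxCl.Unit.add_right h₀, MaxCl.Unit.smul_left h₀,
      MaxCl.Unit.smul_right h₀, hb, hbv, hv, MaxCl.Unit.eq_zero_symm h₀ hbv]; ring)
    (by rw [MaxCl.Unit.add_left h₀, MaxCl.Unit.smul_left h₀, hbv, hv]; ring) hind' K₀ hK₀).1
  rw [(h𝒦 K₀ hK₀).addL, (van v b hv0 hv hb hbv hind K₀ hK₀).1, (h𝒦 K₀ hK₀).smulL, zero_add, one_mul] at h1
  exact hKv h1

end Cfsg.Agent.TPow
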