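/-
A group containing the tensor wreath stabiliser with a non-scalar top element contains the root group of an
isotropic pure tensor.
-/
import Mathlib
import Cfsg.Agent.Lib.TPow.Tensor
import Cfsg.Agent.Lib.TPow.Spread

set_option autoImplicit false

namespace Cfsg.Agent.TPow

open scoped MatrixGroups Matrix
open Module (finrank)
open MaxCl (act gl_ext act_mul act_one act_inv_act act_act_inv exists_dual)
open MaxCl.Unit (uiso flinU utv utvGroup RootIn)
open MaxCl.Tens (TSys pt gl suGroup IsTop TopScalar ptL proj proj_pt)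

variable {ι : Type} [Fintype ι] [DecidableEq ι] {F : Type*} [Field F] {k t : ℕ}
variable {σ : F ≃+* F} {f : (ι → F) → (ι → F) → F} {f₀ : (Fin k → F) → (Fin k → F) → F} {c : F}

/-- `M` contains `1 + d E` for every skew `d` -/
def LineIn (σ : F ≃+* F) (M : Subgroup (GL ι F)) (E : (ι → F) →ₗ[F] (ι → F)) : Prop :=
  ∀ d, d + σ d = 0 → ∃ z ∈ M, ∀ x, act z x = x + d • E x

theorem lineIn_conj {M : Subgroup (GL ι F)} {E : (ι → F) →ₗ[F] (ι → F)} (h : LineIn σ M E) {g : GL ι F}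
    (hg : g ∈ M) : LineIn σ M (act g ∘ₗ E ∘ₗ act g⁻¹) := fun d hd => by
  obtain ⟨z, hz, hza⟩ := h d hd
  refine ⟨g * z * g⁻¹, M.mul_mem (M.mul_mem hg hz) (M.inv_mem hg), fun x => ?_⟩
  rw [act_mul, act_mul, hza, map_add, map_smul, act_act_inv]
  rfl

theorem lineIn_smul {M : Subgroup (GL ι F)} {E : (ι → F) →ₗ[F] (ι → F)} (h : LineIn σ M E) {a : F}
    (ha : σ a = a) : LineIn σ M (a • E) := fun d hd => by
  obtain ⟨z, hz, hza⟩ := h (d * a) (by rw [map_mul, ha, ← add_mul, hd, zero_mul])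
  exact ⟨z, hz, fun x => by rw [hza, LinearMap.smul_apply, smul_smul]⟩

/-- the commutator of two root families -/
theorem lineIn_comm {M : Subgroup (GL ι F)} {A B : (ι → F) →ₗ[F] (ι → F)} (hA : LineIn σ M A)
    (hB : LineIn σ M B) {θ : F} (hθ : θ + σ θ = 0) (hAA : ∀ x, A (A x) = 0) (hBB : ∀ x, B (B x) = 0)
    (hABA : ∀ x, A (B (A x)) = 0) (hBAB : ∀ x, B (A (B x)) = 0) :
    LineIn σ M (θ • (A ∘ₗ B - B ∘ₗ A)) := by
  intro d hd
  obtain ⟨a, ha, haa⟩ := hA d hd
  obtain ⟨a', ha', haa'⟩ := hA (-d) (by rw [map_neg, ← neg_add, hd, neg_zero])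
  obtain ⟨b, hb, hbb⟩ := hB θ hθ
  obtain ⟨b', hb', hbb'⟩ := hB (-θ) (by rw [map_neg, ← neg_add, hθ, neg_zero])
  refine ⟨a * b * a' * b', M.mul_mem (M.mul_mem (M.mul_mem ha hb) ha') hb', fun x => ?_⟩
  simp only [act_mul, haa, haa', hbb, hbb', map_add, map_smul, hAA, hBB, hABA, hBAB, smul_zero,
    map_zero, LinearMap.smul_apply, LinearMap.sub_apply, LinearMap.comp_apply]
  module

variable (σ f₀) in
/-- the matrix coefficient of an endomorphism of the space of `t` factors at two pure tensors -/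
def coef (H : (Fin (k ^ t) → F) →ₗ[F] (Fin (k ^ t) → F)) (xs ys : Fin t → Fin k → F) : F :=
  gramForm σ f₀ t (H (pv (sub F k t) xs)) (pv (sub F k t) ys)

/-- the kernel with the given factors -/
def kq {n : ℕ} (f₀ : Kern F k) (J : Finset (Fin n)) (v : Fin n → Fin k → F) (j : Fin n) : Kern F k :=
  if j ∈ J then qker f₀ (v j) else f₀

theorem fac_form {n : ℕ} (h₀ : Cfsg.Geo.IsUnitaryForm σ f₀) (J : Finset (Fin n)) (v : Fin n → Fin k → F)
    (j : Fin n) (x y : Fin k → F) : f₀ (fac h₀ J v j x) y = kq f₀ J v j x y := by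
  by_cases hj : j ∈ J
  · rw [fac_of_mem h₀ v hj, kq, if_pos hj, pT_apply, MaxCl.Unit.smul_left h₀]; rfl
  · rw [fac_of_notMem h₀ v hj, kq, if_neg hj]; rfl

/-- the coefficient is a product over the factors in `D` times something independent of these factors -/
def Fac (σ : F ≃+* F) (f₀ : Kern F k) (D : Finset (Fin t)) (q : Fin t → Kern F k)
    (H : (Fin (k ^ t) → F) →ₗ[F] (Fin (k ^ t) → F)) : Prop :=
  ∃ ψ : (Fin t → Fin k → F) → (Fin t → Fin k → F) → F,
    (∀ xs ys xs' ys', (∀ j ∉ D, xs j = xs' j ∧ ys j = ys' j) → ψ xs ys = ψ xs' ys') ∧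
      ∀ xs ys, coef σ f₀ H xs ys = (∏ j ∈ D, q j (xs j) (ys j)) * ψ xs ys

/-- the kernel of an endomorphism at one factor -/
def kerAt (σ : F ≃+* F) (f₀ : Kern F k) (H : (Fin (k ^ t) → F) →ₗ[F] (Fin (k ^ t) → F)) (m : Fin t)
    (xs ys : Fin t → Fin k → F) : Kern F k :=
  fun x y => coef σ f₀ H (Function.update xs m x) (Function.update ys m y)

theorem kerAt_self (H : (Fin (k ^ t) → F) →ₗ[F] (Fin (k ^ t) → F)) (m : Fin t) (xs ys : Fin t → Fin k → F) :
    kerAt σ f₀ H m xs ys (xs m) (ys m) = coef σ f₀ H xs ys := by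
  rw [kerAt, Function.update_eq_self, Function.update_eq_self]

variable (σ f₀) in
/-- some non-zero vector of the factor `j` is killed by `H` -/
def Kills (H : (Fin (k ^ t) → F) →ₗ[F] (Fin (k ^ t) → F)) (j : Fin t) : Prop :=
  ∃ u : Fin k → F, u ≠ 0 ∧ ∀ xs ys, xs j = u → coef σ f₀ H xs ys = 0

theorem fac_extend {D : Finset (Fin t)} {m : Fin t} (hm : m ∉ D) {q : Fin t → Kern F k}
    {H H' : (Fin (k ^ t) → F) →ₗ[F] (Fin (k ^ t) → F)} (hF : Fac σ f₀ D q H) (G : Kern F k →ₗ[F] F)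
    {q' : Fin t → Kern F k} (hq' : ∀ j ∈ D, q' j = q j)
    (h : ∀ xs ys, coef σ f₀ H' xs ys = G (kerAt σ f₀ H m xs ys) * q' m (xs m) (ys m)) :
    Fac σ f₀ (insert m D) q' H' := by
  classical
  obtain ⟨ψ, hψ, hc⟩ := hF
  refine ⟨fun xs ys => G fun x y => ψ (Function.update xs m x) (Function.update ys m y), ?_, fun xs ys => ?_⟩
  · intro xs ys xs' ys' hag
    show G _ = G _
    congr 1
    funext x y
    refine hψ _ _ _ _ fun j hj => ?_
    rcases eq_or_ne j m with rfl | hjm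
    · simp
    · rw [Function.update_of_ne hjm, Function.update_of_ne hjm, Function.update_of_ne hjm,
        Function.update_of_ne hjm]
      exact hag j (by simp [hjm, hj])
  · have e : kerAt σ f₀ H m xs ys = (∏ j ∈ D, q j (xs j) (ys j)) •
        fun x y => ψ (Function.update xs m x) (Function.update ys m y) := by
      funext x y
      show coef σ f₀ H _ _ = (∏ j ∈ D, q j (xs j) (ys j)) * _
      rw [hc]
      congr 1
      refine Finset.prod_congr rfl fun j hj => ?_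
      have hjm : j ≠ m := fun e => hm (e ▸ hj)
      rw [Function.update_of_ne hjm, Function.update_of_ne hjm]
    rw [h, e, map_smul, smul_eq_mul, Finset.prod_insert hm,
      Finset.prod_congr rfl fun j hj => show q' j (xs j) (ys j) = q j (xs j) (ys j) by rw [hq' j hj]]
    ring

section

variable {X : PS ι F k (t + 1)} (P : PF X σ f f₀ c) {M : Subgroup (GL ι F)}
include P

theorem coef_ext {H H' : (Fin (k ^ t) → F) →ₗ[F] (Fin (k ^ t) → F)}
    (h : ∀ xs ys, coef σ f₀ H xs ys = coef σ f₀ H' xs ys) : H = H' := by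
  refine pv_ext (sub F k t) fun xs => ?_
  have hB := gramForm_unitary P
  by_contra hne
  obtain ⟨z, hz⟩ := (hB.nondegenerate _ (sub_ne_zero.2 hne)).1
  apply hz
  have e : flinU hB (H (pv (sub F k t) xs) - H' (pv (sub F k t) xs)) = 0 :=
    pv_ext (sub F k t) fun ys => by
      show gramForm σ f₀ t (pv (sub F k t) ys) _ = 0
      rw [MaxCl.Unit.eq_zero_symm hB]
      rw [MaxCl.Unit.sub_left hB]
      exact sub_eq_zero.2 (h xs ys)
  exact LinearMap.congr_fun e z

theorem coef_pend (J : Finset (Fin t)) (v : Fin t → Fin k → F) (xs ys : Fin t → Fin k → F) :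
    coef σ f₀ (pend (sub F k t) (fac P.h₀ J v)) xs ys = ∏ j, kq f₀ J v j (xs j) (ys j) := by
  rw [coef, pend_pv, gramForm_pv P.h₀]
  exact Finset.prod_congr rfl fun j _ => fac_form P.h₀ J v j _ _

theorem isSesq_kerAt (H : (Fin (k ^ t) → F) →ₗ[F] (Fin (k ^ t) → F)) (m : Fin t) (xs ys : Fin t → Fin k → F) :
    IsSesq σ (kerAt σ f₀ H m xs ys) := by
  have hB := gramForm_unitary P
  have e : ∀ x y, kerAt σ f₀ H m xs ys x y =
      gramForm σ f₀ t (H (pvL (sub F k t) xs m x)) (pvL (sub F k t) ys m y) := fun x y => by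
    rw [pvL_apply, pvL_apply]; rfl
  refine ⟨fun x x' y => ?_, fun a x y => ?_, fun x y y' => ?_, fun a x y => ?_⟩
  · rw [e, e, e, map_add, map_add, MaxCl.Unit.add_left hB]
  · rw [e, e, map_smul, map_smul, MaxCl.Unit.smul_left hB]
  · rw [e, e, e, map_add, MaxCl.Unit.add_right hB]
  · rw [e, e, map_smul, MaxCl.Unit.smul_right hB]

/-- pure elements with special unitary factors -/
theorem pure_mem_of_slot (hge : W X ⊓ suGroup f ≤ M) {a : Fin (t + 1) → GL (Fin k) F}
    (ha : ∀ i, a i ∈ suGroup f₀) : pure X a ∈ M := by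
  let π : (Fin (t + 1) → GL (Fin k) F) →* GL ι F :=
    { toFun := pure X, map_one' := pure_one X, map_mul' := pure_mul X }
  exact Subgroup.mem_comap.1 (Subgroup.pi_mem_of_mulSingle_mem (H := M.comap π) a fun i =>
    Subgroup.mem_comap.2 (hge ⟨slot_mem X i (a i), P.slot_mem_su i (ha i)⟩))

/-- permutations which are squares of a product of two involutions -/
theorem perm_mem_of_sq (hge : W X ⊓ suGroup f ≤ M) {a b : Equiv.Perm (Fin (t + 1))} (ha : a * a = 1)
    (hb : b * b = 1) : perm X ((a * b) * (a * b)) ∈ M := by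
  refine hge ⟨perm_mem X _, P.perm_mem_uiso _, MonoidHom.mem_ker.2 ?_⟩
  have sq : ∀ s : Equiv.Perm (Fin (t + 1)), s * s = 1 →
      Matrix.GeneralLinearGroup.det (perm X s) * Matrix.GeneralLinearGroup.det (perm X s) = 1 := fun s hs => by
    rw [← map_mul, ← perm_mul, hs, perm_one, map_one]
  rw [perm_mul, perm_mul, map_mul, map_mul, mul_mul_mul_comm, sq a ha, sq b hb, one_mul]

/-- the root family of a set of factors, for any isotropic vectors -/
def PureIn (M : Subgroup (GL ι F)) (J : Finset (Fin (t + 1))) : Prop :=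
  ∀ v : Fin (t + 1) → Fin k → F, (∀ i, v i ≠ 0 ∧ f₀ (v i) (v i) = 0) → LineIn σ M (pend X (fac P.h₀ J v))

variable [Fintype F]

theorem pureIn_of_one (hge : W X ⊓ suGroup f ≤ M) {J : Finset (Fin (t + 1))} {v : Fin (t + 1) → Fin k → F}
    (hv : ∀ i, v i ≠ 0 ∧ f₀ (v i) (v i) = 0) (h : LineIn σ M (pend X (fac P.h₀ J v))) : PureIn P M J := by
  intro v' hv'
  choose g hg hgv using fun i =>
    exists_move_eq_iso P.h₀ P.three (hv i).1 (hv' i).1 (hv i).2 (hv' i).2
  have h1 := lineIn_conj h (pure_mem_of_slot P hge fun i => (P.toTF 0).utvGroup_le (hg i))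
  convert h1 using 1
  refine LinearMap.ext fun x => ?_
  rw [LinearMap.comp_apply, LinearMap.comp_apply, pend_pure]
  refine LinearMap.congr_fun (congrArg _ (funext fun i => ?_)) x
  by_cases hi : i ∈ J
  · rw [fac_of_mem P.h₀ v hi, fac_of_mem P.h₀ v' hi]
    refine LinearMap.ext fun y => ?_
    rw [LinearMap.comp_apply, LinearMap.comp_apply, pT_apply, pT_apply, map_smul, hgv]
    congr 1
    rw [← MaxCl.Unit.mem_uiso.1 (MaxCl.Unit.utvGroup_le_uiso P.h₀ (hg i)) (act (g i)⁻¹ y) (v i), act_act_inv, hgv]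
  · rw [fac_of_notMem P.h₀ v hi, fac_of_notMem P.h₀ v' hi]
    refine LinearMap.ext fun y => ?_
    simp [act_act_inv]

omit [Fintype F] in
theorem pureIn_perm {J : Finset (Fin (t + 1))} (h : PureIn P M J) {π : Equiv.Perm (Fin (t + 1))}
    (hπ : perm X π ∈ M) : PureIn P M (J.map π.toEmbedding) := by
  intro v hv
  have h1 := lineIn_conj (h (fun i => v (π i)) fun i => hv _) hπ
  convert h1 using 1
  refine LinearMap.ext fun x => ?_
  rw [LinearMap.comp_apply, LinearMap.comp_apply, pend_perm]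
  refine LinearMap.congr_fun (congrArg _ (funext fun i => ?_)) x
  by_cases hi : i ∈ J.map π.toEmbedding
  · rw [fac_of_mem P.h₀ v hi, fac_of_mem P.h₀ _ (Finset.mem_map_equiv.1 hi), Equiv.apply_symm_apply]
  · rw [fac_of_notMem P.h₀ v hi, fac_of_notMem P.h₀ _ fun h' => hi (Finset.mem_map_equiv.2 h')]

/-- one step of the elimination -/
theorem exists_step (hge : W X ⊓ suGroup f ≤ M) (s : Fin (t + 1)) {w : Fin k → F} (hw0 : w ≠ 0)
    (hw : f₀ w w = 0) (m : Fin t) {H : (Fin (k ^ t) → F) →ₗ[F] (Fin (k ^ t) → F)}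
    (hH : TopIn (split X s) σ f₀ M w H) (hH0 : H ≠ 0) :
    ∃ H', TopIn (split X s) σ f₀ M w H' ∧ H' ≠ 0 ∧ (∀ j, j ≠ m → Kills σ f₀ H j → Kills σ f₀ H' j) ∧
      ∃ G : Kern F k →ₗ[F] F,
        ((∃ v, v ≠ 0 ∧ f₀ v v = 0 ∧
          ∀ xs ys, coef σ f₀ H' xs ys = G (kerAt σ f₀ H m xs ys) * qker f₀ v (xs m) (ys m)) ∨
        (H' = H ∧ ¬ Kills σ f₀ H m ∧
          ∀ xs ys, coef σ f₀ H' xs ys = G (kerAt σ f₀ H m xs ys) * f₀ (xs m) (ys m))) := by
  classical
  have C := P.toTF s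
  have hB := gramForm_unitary P
  let Op : (Kern F k →ₗ[F] Kern F k) → Prop := fun Ω => ∀ H, TopIn (split X s) σ f₀ M w H →
    ∃ H', TopIn (split X s) σ f₀ M w H' ∧ ∀ xs ys, kerAt σ f₀ H' m xs ys = Ω (kerAt σ f₀ H m xs ys)
  have hOp : OpClosed σ f₀ Op := by
    refine ⟨fun H h => ⟨H, h, fun _ _ => rfl⟩, fun {A B} hA hB' H h => ?_, fun {A B} hA hB' H h => ?_,
      fun {a A} ha hA H h => ?_, fun {g} hg H h => ?_⟩
    · obtain ⟨H₁, h₁, e₁⟩ := hB' H h
      obtain ⟨H₂, h₂, e₂⟩ := hA H₁ h₁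
      exact ⟨H₂, h₂, fun xs ys => by rw [e₂, e₁]; rfl⟩
    · obtain ⟨H₁, h₁, e₁⟩ := hA H h
      obtain ⟨H₂, h₂, e₂⟩ := hB' H h
      refine ⟨H₁ + H₂, topIn_add hw h₁ h₂, fun xs ys => ?_⟩
      rw [LinearMap.add_apply, ← e₁, ← e₂]
      funext x y
      simp only [kerAt, coef, LinearMap.add_apply, Pi.add_apply, MaxCl.Unit.add_left hB]
    · obtain ⟨H₁, h₁, e₁⟩ := hA H h
      refine ⟨a • H₁, topIn_smul ha h₁, fun xs ys => ?_⟩
      rw [LinearMap.smul_apply, ← e₁]
      funext x y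
      simp only [kerAt, coef, LinearMap.smul_apply, Pi.smul_apply, smul_eq_mul, MaxCl.Unit.smul_left hB]
    · set A := slot (sub F k t) m g⁻¹ with hAdef
      have hpure : gl (split X s) A 1 = slot X (s.succAbove m) g⁻¹ := by
        rw [hAdef, slot, gl_pure, slot]
        congr 1
        funext x
        refine Fin.succAboveCases s ?_ (fun j => ?_) x
        · rw [Fin.insertNth_apply_same, Pi.mulSingle_eq_of_ne (Fin.succAbove_ne s m).symm]
        · rw [Fin.insertNth_apply_succAbove]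
          rcases eq_or_ne j m with rfl | hj
          · simp
          · rw [Pi.mulSingle_eq_of_ne hj, Pi.mulSingle_eq_of_ne fun e => hj (Fin.succAbove_right_injective e)]
      have hgi : g⁻¹ ∈ suGroup f₀ := inv_mem hg
      have hM : gl (split X s) A 1 ∈ M := by
        rw [hpure]; exact hge ⟨slot_mem X _ _, P.slot_mem_su _ hgi⟩
      refine ⟨act A ∘ₗ H ∘ₗ act A⁻¹, fun d hd => ?_, fun xs ys => ?_⟩
      · obtain ⟨z, hz, hS⟩ := h d hd
        refine ⟨_, M.mul_mem (M.mul_mem hM hz) (M.inv_mem hM), ?_⟩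
        have := isTop_conj C hS (a := A) (one_mem (uiso f₀))
        rw [act_one] at this
        intro u v
        rw [this u v]
        simp [map_smul]
      · funext x y
        show gramForm σ f₀ t (act A (H (act A⁻¹ _))) _ = coef σ f₀ H _ _
        have hAU : A ∈ uiso (gramForm σ f₀ t) := P.sub.pure_mem_uiso fun i => by
          rcases eq_or_ne i m with rfl | hi
          · rw [Pi.mulSingle_eq_same]; exact hgi.1
          · rw [Pi.mulSingle_eq_of_ne hi]; exact one_mem _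
        conv_lhs => rw [← act_act_inv A (pv (sub F k t) (Function.update ys m y)), MaxCl.Unit.mem_uiso.1 hAU]
        have hupd : ∀ zs : Fin t → Fin k → F, ∀ z, act A⁻¹ (pv (sub F k t) (Function.update zs m z)) =
            pv (sub F k t) (Function.update zs m (act g z)) := fun zs z => by
          have : A⁻¹ = slot (sub F k t) m g := by
            rw [hAdef, slot, slot, inv_eq_iff_mul_eq_one, ← pure_mul, ← Pi.mulSingle_mul, inv_mul_cancel,
              Pi.mulSingle_one, pure_one]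
          rw [this, slot, act_pure]
          congr 1
          funext i
          rcases eq_or_ne i m with rfl | hi
          · simp
          · simp [hi, act_one]
        rw [hupd, hupd]
        rfl
  let 𝒦 : Set (Kern F k) := Set.range fun p : (Fin t → Fin k → F) × (Fin t → Fin k → F) =>
    kerAt σ f₀ H m p.1 p.2
  have h𝒦 : ∀ K ∈ 𝒦, IsSesq σ K := by
    rintro _ ⟨p, rfl⟩; exact isSesq_kerAt P H m p.1 p.2
  rcases exists_op P.three P.hex P.h₀ hOp 𝒦 h𝒦 hw0 hw with
    ⟨Ω, hΩ, v, hv0, hv, G, hG, K, hK, hGK⟩ | ⟨G, hG⟩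
  · obtain ⟨H', hH', hker⟩ := hΩ H hH
    have hcoef : ∀ xs ys, coef σ f₀ H' xs ys =
        G (kerAt σ f₀ H m xs ys) * qker f₀ v (xs m) (ys m) := fun xs ys => by
      rw [← kerAt_self H' m, hker, hG (kerAt σ f₀ H m xs ys) ⟨(xs, ys), rfl⟩]; rfl
    refine ⟨H', hH', fun h0 => ?_, fun j hj ⟨u, hu, hk'⟩ => ⟨u, hu, fun xs ys hxs => ?_⟩, G,
      Or.inl ⟨v, hv0, hv, hcoef⟩⟩
    · obtain ⟨p, rfl⟩ := hK
      apply hGK
      obtain ⟨a, -, hav, hva⟩ := exists_pair P.h₀ hv0 hv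
      have e1 : kerAt σ f₀ H' m p.1 p.2 a a = 0 := by
        simp [kerAt, coef, h0, MaxCl.Unit.zero_left hB]
      rw [hker, hG _ ⟨p, rfl⟩] at e1
      simpa [qker, hav, hva] using e1
    · rw [← kerAt_self H' m, hker]
      have : kerAt σ f₀ H m xs ys = 0 := by
        funext x y
        exact hk' _ _ (by rw [Function.update_of_ne hj, hxs])
      rw [this, map_zero]; rfl
  · have hcoef : ∀ xs ys, coef σ f₀ H xs ys = G (kerAt σ f₀ H m xs ys) * f₀ (xs m) (ys m) := fun xs ys => by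
      have e := hG (kerAt σ f₀ H m xs ys) ⟨(xs, ys), rfl⟩
      rw [← kerAt_self H m]
      conv_lhs => rw [e]
      rfl
    refine ⟨H, hH, hH0, fun _ _ h => h, G, Or.inr ⟨rfl, fun ⟨u, hu, hk'⟩ => hH0 ?_, hcoef⟩⟩
    refine coef_ext P fun xs ys => ?_
    rw [show coef σ f₀ (0 : (Fin (k ^ t) → F) →ₗ[F] (Fin (k ^ t) → F)) xs ys = 0 by
      simp [coef, MaxCl.Unit.zero_left hB]]
    obtain ⟨⟨y, hy⟩, -⟩ := P.h₀.nondegenerate u hu
    have e1 := hcoef (Function.update xs m u) (Function.update ys m y)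
    have e2 : kerAt σ f₀ H m (Function.update xs m u) (Function.update ys m y) = kerAt σ f₀ H m xs ys := by
      funext a b
      simp [kerAt]
    rw [hk' _ _ (Function.update_self m u xs), e2, Function.update_self, Function.update_self, eq_comm,
      mul_eq_zero, or_iff_left (MaxCl.Unit.ne_symm P.h₀ hy)] at e1
    rw [hcoef, e1, zero_mul]

/-- the elimination: a pure root family containing the given factors -/
theorem exists_pure_line (hle : M ≤ suGroup f) (hge : W X ⊓ suGroup f ≤ M) (s : Fin (t + 1)) {w : Fin k → F}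
    (hw0 : w ≠ 0) (hw : f₀ w w = 0) {H : (Fin (k ^ t) → F) →ₗ[F] (Fin (k ^ t) → F)}
    (hH : TopIn (split X s) σ f₀ M w H) (hH0 : H ≠ 0) (Z : Finset (Fin t)) (hZ : ∀ j ∈ Z, Kills σ f₀ H j)
    (hne : Z.Nonempty ∨ ¬ ∃ r : F, ∀ u, H u = r • u) :
    ∃ J : Finset (Fin (t + 1)), PureIn P M J ∧ 2 ≤ J.card ∧ s ∈ J ∧ ∀ j ∈ Z, s.succAbove j ∈ J := by
  classical
  have C := P.toTF s
  have hB := gramForm_unitary P
  have state : ∀ D : Finset (Fin t), ∃ H' J, ∃ v : Fin t → Fin k → F,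
      TopIn (split X s) σ f₀ M w H' ∧ H' ≠ 0 ∧ (∀ j, v j ≠ 0 ∧ f₀ (v j) (v j) = 0) ∧ J ⊆ D ∧
      Fac σ f₀ D (kq f₀ J v) H' ∧ (∀ j ∈ Z, j ∈ D → j ∈ J) ∧ (∀ j ∈ Z, j ∉ D → Kills σ f₀ H' j) ∧
      (J.Nonempty ∨ Z.Nonempty ∨ ¬ ∃ r : F, ∀ u, H' u = r • u) := by
    intro D
    induction D using Finset.induction with
    | empty =>
      refine ⟨H, ∅, fun _ => w, hH, hH0, fun _ => ⟨hw0, hw⟩, subset_rfl,
        ⟨coef σ f₀ H, fun xs ys xs' ys' h => ?_, fun xs ys => by rw [Finset.prod_empty, one_mul]⟩,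
        fun j _ hj => hj, fun j hj _ => hZ j hj, Or.inr hne⟩
      rw [show xs = xs' from funext fun j => (h j (Finset.notMem_empty j)).1,
        show ys = ys' from funext fun j => (h j (Finset.notMem_empty j)).2]
    | insert m D hm ih =>
      obtain ⟨H₁, J, v, hH₁, hH₁0, hv, hJD, hF, hZJ, hZk, hdisj⟩ := ih
      obtain ⟨H₂, hH₂, hH₂0, hkeep, G, hcase⟩ := exists_step P hge s hw0 hw m hH₁ hH₁0
      have hmJ : m ∉ J := fun h => hm (hJD h)
      rcases hcase with ⟨u, hu0, hu, hc⟩ | ⟨rfl, hnk, hc⟩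
      · refine ⟨H₂, insert m J, Function.update v m u, hH₂, hH₂0, fun j => ?_, Finset.insert_subset_insert m hJD,
          fac_extend hm hF G (fun j hj => ?_) fun xs ys => ?_, fun j hj hjD => ?_, fun j hj hjD => ?_,
          Or.inl ⟨m, Finset.mem_insert_self m J⟩⟩
        · rcases eq_or_ne j m with rfl | hjm
          · simpa using ⟨hu0, hu⟩
          · simpa [hjm] using hv j
        · have hjm : j ≠ m := fun e => hm (e ▸ hj)
          simp [kq, hjm]
        · rw [hc]; simp [kq]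
        · rcases Finset.mem_insert.1 hjD with rfl | h
          · exact Finset.mem_insert_self j J
          · exact Finset.mem_insert_of_mem (hZJ j hj h)
        · simp only [Finset.mem_insert, not_or] at hjD
          exact hkeep j hjD.1 (hZk j hj hjD.2)
      · refine ⟨H₂, J, v, hH₁, hH₁0, hv, hJD.trans (Finset.subset_insert m D),
          fac_extend hm hF G (fun j _ => rfl) fun xs ys => ?_, fun j hj hjD => ?_, fun j hj hjD => ?_, hdisj⟩
        · rw [hc]; simp [kq, hmJ]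
        · rcases Finset.mem_insert.1 hjD with rfl | h
          · exact absurd (hZk j hj hm) hnk
          · exact hZJ j hj h
        · simp only [Finset.mem_insert, not_or] at hjD
          exact hZk j hj hjD.2
  obtain ⟨H', J, v, hH', hH'0, hv, -, ⟨ψ, hψ, hc⟩, hZJ, -, hdisj⟩ := state Finset.univ
  obtain ⟨r, hr⟩ : ∃ r, r = ψ (fun _ => w) (fun _ => w) := ⟨_, rfl⟩
  have hc' : ∀ xs ys, coef σ f₀ H' xs ys = r * ∏ j, kq f₀ J v j (xs j) (ys j) := fun xs ys => by
    rw [hc, hr, hψ xs ys (fun _ => w) (fun _ => w) fun j hj => absurd (Finset.mem_univ j) hj, mul_comm]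
  have hHr : H' = r • pend (sub F k t) (fac P.h₀ J v) := coef_ext P fun xs ys => by
    rw [hc', coef, LinearMap.smul_apply, MaxCl.Unit.smul_left hB]
    congr 1
    exact (coef_pend P J v xs ys).symm
  have hr0 : r ≠ 0 := fun e => hH'0 (by rw [hHr, e, zero_smul])
  obtain ⟨θ, hθ0, hθ⟩ := MaxCl.Unit.exists_skew P.hU.ne_refl P.hU.involutive
  have hrσ : σ r = r := by
    obtain ⟨z, hz, hS⟩ := hH' θ hθ
    obtain ⟨w', hw', hw'w, hww'⟩ := exists_pair P.h₀ hw0 hw
    have sym : ∀ x y, gramForm σ f₀ t (H' x) y = gramForm σ f₀ t x (H' y) := by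
      intro x y
      have e := MaxCl.Unit.mem_uiso.1 (hle hz).1 (pt (split X s) x w') (pt (split X s) y w')
      rw [hS, hS, hw'w, one_smul, one_smul] at e
      simp only [LinearMap.smul_apply, MaxCl.Unit.add_left P.hU, MaxCl.Unit.add_right P.hU, C.form, hw, hw'w,
        hww', hw', mul_zero, mul_one, add_zero, zero_add, MaxCl.Unit.smul_left hB, MaxCl.Unit.smul_right hB] at e
      have : c * θ * (gramForm σ f₀ t (H' x) y - gramForm σ f₀ t x (H' y)) = 0 := by
        linear_combination e - c * gramForm σ f₀ t x (H' y) * hθ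
      exact sub_eq_zero.1 ((mul_eq_zero.1 this).resolve_left (mul_ne_zero P.c_ne hθ0))
    obtain ⟨xs, ys, hne⟩ : ∃ xs ys, coef σ f₀ H' xs ys ≠ 0 := by
      by_contra hno
      push Not at hno
      exact hH'0 (coef_ext P fun xs ys => by
        rw [hno]; simp [coef, MaxCl.Unit.zero_left hB])
    have e1 : coef σ f₀ H' xs ys = σ (coef σ f₀ H' ys xs) := by
      rw [coef, coef, sym, MaxCl.Unit.herm' hB]
    rw [hc', hc', map_mul, map_prod] at e1
    have e2 : ∏ j, σ (kq f₀ J v j (ys j) (xs j)) = ∏ j, kq f₀ J v j (xs j) (ys j) :=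
      Finset.prod_congr rfl fun j _ => by
        by_cases hj : j ∈ J <;> simp only [kq, hj, if_true, if_false, qker, map_mul, MaxCl.Unit.herm' P.h₀]
        ring
    rw [e2] at e1
    rw [hc'] at hne
    exact (mul_right_cancel₀ (right_ne_zero_of_mul hne) e1).symm
  have hJ : J.Nonempty := by
    rcases hdisj with h | ⟨j, hj⟩ | h
    · exact h
    · exact ⟨j, hZJ j hj (Finset.mem_univ j)⟩
    · by_contra hJ
      rw [Finset.not_nonempty_iff_eq_empty] at hJ
      refine h ⟨r, fun u => ?_⟩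
      have : fac P.h₀ J v = fun _ => LinearMap.id := funext fun j => fac_of_notMem P.h₀ v (by simp [hJ])
      rw [hHr, this, pend_id]; rfl
  obtain ⟨j₀, hj₀⟩ := hJ
  refine ⟨insert s (J.map s.succAboveEmb), ?_, ?_, Finset.mem_insert_self _ _, fun j hj =>
    Finset.mem_insert_of_mem (Finset.mem_map_of_mem _ (hZJ j hj (Finset.mem_univ j)))⟩
  · refine pureIn_of_one P hge (v := s.insertNth w v) (fun i => ?_) ?_
    · refine Fin.succAboveCases s ?_ (fun j => ?_) i
      · rw [Fin.insertNth_apply_same]; exact ⟨hw0, hw⟩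
      · rw [Fin.insertNth_apply_succAbove]; exact hv j
    intro d hd
    obtain ⟨z, hz, hS⟩ := hH' (d * r⁻¹) (by rw [map_mul, map_inv₀, hrσ, ← add_mul, hd, zero_mul])
    refine ⟨z, hz, fun x => LinearMap.congr_fun (MaxCl.Tens.pt_ext (split X s) (L := act z)
      (L' := LinearMap.id + d • pend X _) fun u y => ?_) x⟩
    rw [hS, LinearMap.add_apply, LinearMap.id_apply, LinearMap.smul_apply, LinearMap.smul_apply, pend_split,
      fac_of_mem P.h₀ _ (Finset.mem_insert_self _ _), pT_apply, Fin.insertNth_apply_same,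
      MaxCl.Tens.pt_smul_left, MaxCl.Tens.pt_smul_right, hHr, LinearMap.smul_apply, MaxCl.Tens.pt_smul_left,
      smul_smul, smul_smul, smul_smul]
    have : (fun j => fac P.h₀ (insert s (J.map s.succAboveEmb)) (s.insertNth w v) (s.succAbove j)) =
        fac P.h₀ J v := funext fun j => by
      by_cases hj : j ∈ J
      · rw [fac_of_mem P.h₀ v hj, fac_of_mem P.h₀ _ (show s.succAbove j ∈ insert s (J.map s.succAboveEmb) from
            Finset.mem_insert_of_mem (Finset.mem_map_of_mem s.succAboveEmb hj)),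
          Fin.insertNth_apply_succAbove]
      · rw [fac_of_notMem P.h₀ v hj, fac_of_notMem]
        simp only [Finset.mem_insert, Finset.mem_map, Fin.coe_succAboveEmb, not_or, not_exists, not_and]
        exact ⟨Fin.succAbove_ne s j, fun j' hj' e => hj (Fin.succAbove_right_injective e ▸ hj')⟩
    rw [this]
    congr 2
    field_simp
  · have h2 : ({s, s.succAbove j₀} : Finset (Fin (t + 1))) ⊆ insert s (J.map s.succAboveEmb) := by
      intro i hi
      simp only [Finset.mem_insert, Finset.mem_singleton] at hi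
      rcases hi with rfl | rfl
      · exact Finset.mem_insert_self _ _
      · exact Finset.mem_insert_of_mem (Finset.mem_map_of_mem _ hj₀)
    have := Finset.card_le_card h2
    rwa [Finset.card_pair (Fin.succAbove_ne s j₀).symm] at this

/-- a root family of at least two factors, not all of them, gives a larger one -/
theorem exists_larger (hle : M ≤ suGroup f) (hge : W X ⊓ suGroup f ≤ M) {J : Finset (Fin (t + 1))}
    (hJ : PureIn P M J) (h2 : 2 ≤ J.card) (hne : J ≠ Finset.univ) {w₀ : Fin k → F} (hw₀0 : w₀ ≠ 0)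
    (hw₀ : f₀ w₀ w₀ = 0) : ∃ J', PureIn P M J' ∧ J.card < J'.card := by
  classical
  obtain ⟨m, hm⟩ : ∃ m, m ∉ J := by
    by_contra h; push Not at h; exact hne (Finset.eq_univ_iff_forall.2 h)
  obtain ⟨l, hl, r, hr, hlr⟩ := Finset.one_lt_card.1 (show 1 < J.card by omega)
  have hlm : l ≠ m := fun e => hm (e ▸ hl)
  have hrm : r ≠ m := fun e => hm (e ▸ hr)
  obtain ⟨π, hπ⟩ : ∃ π, π = (Equiv.swap l r * Equiv.swap r m) * (Equiv.swap l r * Equiv.swap r m) := ⟨_, rfl⟩
  have hπM : perm X π ∈ M :=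
    hπ ▸ perm_mem_of_sq P hge (Equiv.swap_mul_self l r) (Equiv.swap_mul_self r m)
  have πl : π l = m := by simp [hπ, Equiv.swap_apply_of_ne_of_ne, hlr, hlm, hrm, hlm.symm, hrm.symm, hlr.symm]
  have πr : π r = l := by simp [hπ, Equiv.swap_apply_of_ne_of_ne, hlr, hlm, hrm, hlm.symm, hrm.symm, hlr.symm]
  have πm : π m = r := by simp [hπ, Equiv.swap_apply_of_ne_of_ne, hlr, hlm, hrm, hlm.symm, hrm.symm, hlr.symm]
  obtain ⟨J', hJ'def⟩ : ∃ J', J' = J.map π.toEmbedding := ⟨_, rfl⟩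
  have hJ'P : PureIn P M J' := hJ'def ▸ pureIn_perm P hJ hπM
  have hmJ' : m ∈ J' := by
    rw [hJ'def, Finset.mem_map_equiv, show π.symm m = l from π.symm_apply_eq.2 πl.symm]; exact hl
  have hlJ' : l ∈ J' := by
    rw [hJ'def, Finset.mem_map_equiv, show π.symm l = r from π.symm_apply_eq.2 πr.symm]; exact hr
  have hrJ' : r ∉ J' := by
    rw [hJ'def, Finset.mem_map_equiv, show π.symm r = m from π.symm_apply_eq.2 πm.symm]; exact hm
  -- vectors
  obtain ⟨p₀, hp₀, hp₀w, hwp₀⟩ := exists_pair P.h₀ hw₀0 hw₀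
  have hp₀0 : p₀ ≠ 0 := fun e => one_ne_zero (α := F) (by rw [← hp₀w, e, MaxCl.Unit.zero_left P.h₀])
  obtain ⟨v, hv⟩ : ∃ v : Fin (t + 1) → Fin k → F, v = fun _ => w₀ := ⟨_, rfl⟩
  obtain ⟨v', hv'⟩ : ∃ v' : Fin (t + 1) → Fin k → F, v' = fun i => if i = m then w₀ else p₀ := ⟨_, rfl⟩
  have hvi : ∀ i, v i ≠ 0 ∧ f₀ (v i) (v i) = 0 := fun i => by rw [hv]; exact ⟨hw₀0, hw₀⟩
  have hv'i : ∀ i, v' i ≠ 0 ∧ f₀ (v' i) (v' i) = 0 := fun i => by
    rw [hv']; show (if i = m then w₀ else p₀) ≠ 0 ∧ _; split <;> simp [hw₀0, hw₀, hp₀0, hp₀, *]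
  obtain ⟨eA, heA⟩ : ∃ eA, eA = fac P.h₀ J v := ⟨_, rfl⟩
  obtain ⟨eB, heB⟩ : ∃ eB, eB = fac P.h₀ J' v' := ⟨_, rfl⟩
  have hAsq : ∀ i ∈ J, eA i ∘ₗ eA i = 0 := fun i hi => by
    rw [heA, fac_of_mem P.h₀ v hi]; exact pT_pT P.h₀ (hvi i).2
  have hBsq : ∀ i ∈ J', eB i ∘ₗ eB i = 0 := fun i hi => by
    rw [heB, fac_of_mem P.h₀ v' hi]; exact pT_pT P.h₀ (hv'i i).2
  have hBr : eB r = LinearMap.id := by rw [heB, fac_of_notMem P.h₀ v' hrJ']
  have hAm : eA m = LinearMap.id := by rw [heA, fac_of_notMem P.h₀ v hm]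
  obtain ⟨θ, hθ0, hθ⟩ := MaxCl.Unit.exists_skew P.hU.ne_refl P.hU.involutive
  have hline := lineIn_comm (heA ▸ hJ v hvi) (heB ▸ hJ'P v' hv'i) hθ
    (fun x => by rw [pend_comp, pend_eq_zero X (i := r) (hAsq r hr), LinearMap.zero_apply])
    (fun x => by rw [pend_comp, pend_eq_zero X (i := m) (hBsq m hmJ'), LinearMap.zero_apply])
    (fun x => by
      rw [pend_comp, pend_comp, pend_eq_zero X (i := r) (by rw [hBr, LinearMap.comp_id, hAsq r hr]),
        LinearMap.zero_apply])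
    (fun x => by
      rw [pend_comp, pend_comp, pend_eq_zero X (i := m) (by rw [hAm, LinearMap.comp_id, hBsq m hmJ']),
        LinearMap.zero_apply])
  obtain ⟨w, hwdef⟩ : ∃ w, w = v' m := ⟨_, rfl⟩
  have hw0 : w ≠ 0 := hwdef ▸ (hv'i m).1
  have hw : f₀ w w = 0 := hwdef ▸ (hv'i m).2
  obtain ⟨H, hHdef⟩ : ∃ H, H = θ • (pend (sub F k t) (fun j => eA (m.succAbove j) ∘ₗ eB (m.succAbove j)) -
      pend (sub F k t) (fun j => eB (m.succAbove j) ∘ₗ eA (m.succAbove j))) := ⟨_, rfl⟩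
  have hsplit : ∀ u y, (θ • (pend X eA ∘ₗ pend X eB - pend X eB ∘ₗ pend X eA)) (pt (split X m) u y) =
      f₀ y w • pt (split X m) (H u) w := by
    intro u y
    have hBm : eB m y = f₀ y w • w := by rw [heB, fac_of_mem P.h₀ v' hmJ', pT_apply, hwdef]
    rw [LinearMap.smul_apply, LinearMap.sub_apply, LinearMap.comp_apply, LinearMap.comp_apply, pend_comp,
      pend_comp, pend_split, pend_split, LinearMap.comp_apply, LinearMap.comp_apply, hAm, LinearMap.id_apply,
      LinearMap.id_apply, hBm, hHdef, LinearMap.smul_apply, LinearMap.sub_apply, MaxCl.Tens.pt_smul_right,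
      MaxCl.Tens.pt_smul_right, MaxCl.Tens.pt_smul_left, MaxCl.Tens.pt_sub_left]
    module
  have hH : TopIn (split X m) σ f₀ M w H := fun d hd => by
    obtain ⟨z, hz, hza⟩ := hline d hd
    refine ⟨z, hz, fun u y => ?_⟩
    rw [hza, hsplit, LinearMap.smul_apply, MaxCl.Tens.pt_smul_left, smul_comm]
  have hH0 : H ≠ 0 := by
    intro h0
    obtain ⟨xs, hxs⟩ : ∃ xs : Fin (t + 1) → Fin k → F,
        xs = fun i => if i ∈ J then (if i ∈ J' then w₀ else p₀) else p₀ + (if i ∈ J' then (0 : F) else 1) • w₀ :=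
      ⟨_, rfl⟩
    have hzero : eA l (xs l) = 0 := by
      rw [heA, fac_of_mem P.h₀ v hl, pT_apply, hxs]
      simp [hl, hlJ', hv, hw₀]
    have e := hsplit
    have e1 : (θ • (pend X eA ∘ₗ pend X eB - pend X eB ∘ₗ pend X eA)) (pv X xs) = 0 := by
      rw [pv_split X m xs, e, h0, LinearMap.zero_apply, MaxCl.Tens.pt_zero_left, smul_zero]
    rw [LinearMap.smul_apply, smul_eq_zero, or_iff_right hθ0, LinearMap.sub_apply, LinearMap.comp_apply,
      LinearMap.comp_apply, pend_pv, pend_pv, pend_pv, pend_pv,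
      pv_eq_zero X (xs := fun i => eB i (eA i (xs i))) (i := l) (by simp [hzero]), sub_zero] at e1
    refine pv_ne_zero X (fun i => ?_) e1
    rw [heA, heB, hxs]
    by_cases hi : i ∈ J
    · have him : i ≠ m := fun e => hm (e ▸ hi)
      by_cases hi' : i ∈ J'
      · simp [fac, pT_apply, hi, hi', hv, hv', him, hp₀w, hwp₀, hw₀0, hp₀0]
      · simp [fac, pT_apply, hi, hi', hv, hp₀w, hw₀0]
    · by_cases hi' : i ∈ J'
      · have : i = m := by
          by_contra him
          refine hi ?_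
          rw [hJ'def, Finset.mem_map_equiv] at hi'
          have hil : i ≠ l := fun e => hi (e ▸ hl)
          have hir : i ≠ r := fun e => hi (e ▸ hr)
          rwa [show π.symm i = i from π.symm_apply_eq.2 (by
            simp [hπ, Equiv.swap_apply_of_ne_of_ne, him, hil, hir])] at hi'
        subst this
        simp [fac, pT_apply, hi, hi', hv', hp₀w, hw₀0]
      · simp only [fac, hi, hi', if_false, LinearMap.id_apply, one_smul]
        intro h
        have h1 := congrArg (fun y => f₀ y w₀) h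
        simp [MaxCl.Unit.add_left P.h₀, hp₀w, hw₀, MaxCl.Unit.zero_left P.h₀] at h1
  let Z := Finset.univ.filter fun j => m.succAbove j ∈ J
  have hZ : ∀ j ∈ Z, Kills σ f₀ H j := by
    intro j hj
    have hiJ : m.succAbove j ∈ J := (Finset.mem_filter.1 hj).2
    obtain ⟨i, hi⟩ : ∃ i, i = m.succAbove j := ⟨_, rfl⟩
    rw [← hi] at hiJ
    obtain ⟨u, hu, hu1, hu2⟩ : ∃ u, u ≠ 0 ∧ f₀ u (v i) = 0 ∧ f₀ u (v' i) = 0 := by
      obtain ⟨p, hpw, hpp, hne⟩ := exists_aniso P.h₀ hw₀ hp₀ hp₀w hwp₀ P.three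
      refine ⟨p, fun e => hne (by rw [e, MaxCl.Unit.zero_left P.h₀]), by rw [hv]; exact hpw, ?_⟩
      rw [hv']
      show f₀ p (if i = m then w₀ else p₀) = 0
      rw [if_neg (fun (e : i = m) => hm (e ▸ hiJ))]
      exact hpp
    refine ⟨u, hu, fun xs ys hxs => ?_⟩
    have hA0 : eA i u = 0 := by rw [heA, fac_of_mem P.h₀ v hiJ, pT_apply, hu1, zero_smul]
    have hAB0 : eA i (eB i u) = 0 := by
      by_cases hi' : i ∈ J'
      · rw [heB, fac_of_mem P.h₀ v' hi', pT_apply, hu2, zero_smul, map_zero]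
      · rw [heB, fac_of_notMem P.h₀ v' hi']; exact hA0
    rw [coef, hHdef, LinearMap.smul_apply, LinearMap.sub_apply, pend_pv, pend_pv,
      pv_eq_zero (sub F k t) (xs := fun j => (eA (m.succAbove j) ∘ₗ eB (m.succAbove j)) (xs j)) (i := j)
        (by show eA _ (eB _ (xs j)) = 0; rw [← hi, hxs, hAB0]),
      pv_eq_zero (sub F k t) (xs := fun j => (eB (m.succAbove j) ∘ₗ eA (m.succAbove j)) (xs j)) (i := j)
        (by show eB _ (eA _ (xs j)) = 0; rw [← hi, hxs, hA0, map_zero]),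
      sub_zero, smul_zero, MaxCl.Unit.zero_left (gramForm_unitary P)]
  obtain ⟨jl, hjl⟩ := Fin.exists_succAbove_eq hlm
  obtain ⟨J₂, hJ₂, -, hmJ₂, hsub⟩ := exists_pure_line P hle hge m hw0 hw hH hH0 Z hZ
    (Or.inl ⟨jl, Finset.mem_filter.2 ⟨Finset.mem_univ _, hjl.symm ▸ hl⟩⟩)
  refine ⟨J₂, hJ₂, Finset.card_lt_card (Finset.ssubset_iff_of_subset (fun i hi => ?_) |>.2 ⟨m, hmJ₂, hm⟩)⟩
  obtain ⟨j, rfl⟩ := Fin.exists_succAbove_eq (show i ≠ m from fun e => hm (e ▸ hi))
  exact hsub j (Finset.mem_filter.2 ⟨Finset.mem_univ _, hi⟩)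

/-- a non-scalar top element gives the root group of an isotropic pure tensor -/
theorem exists_pure_root (ht : 1 ≤ t) (hle : M ≤ suGroup f) (hge : W X ⊓ suGroup f ≤ M)
    (h : ¬ ∀ i, TopScalar (split X i) f₀ M) :
    ∃ xs : Fin (t + 1) → Fin k → F, (∀ i, xs i ≠ 0 ∧ f₀ (xs i) (xs i) = 0) ∧ RootIn P.hU M (pv X xs) := by
  classical
  have _ht := ht
  simp only [TopScalar] at h
  push Not at h
  obtain ⟨s, w, hw0, hw, z, hz, S, hS, hns⟩ := h
  have C := P.toTF s
  obtain ⟨θ, hθ0, hθ⟩ := MaxCl.Unit.exists_skew P.hU.ne_refl P.hU.involutive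
  obtain ⟨H, hHdef⟩ : ∃ H, H = θ⁻¹ • S := ⟨_, rfl⟩
  have hH : TopIn (split X s) σ f₀ M w H := by
    intro d hd
    have ha : σ (d / θ) = d / θ := by
      rw [map_div₀, eq_neg_of_add_eq_zero_right hd, eq_neg_of_add_eq_zero_right hθ, neg_div_neg_eq]
    have e : d • H = (d / θ) • S := by rw [hHdef, smul_smul, div_eq_mul_inv]
    rw [e]
    rcases eq_or_ne (d / θ) 0 with h0 | h0
    · refine ⟨1, M.one_mem, fun u v => ?_⟩
      rw [act_one, h0, zero_smul, LinearMap.zero_apply, MaxCl.Tens.pt_zero_left, smul_zero, add_zero]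
    obtain ⟨l, hl, hla⟩ := exists_moved_of_norm P.h₀ ha h0
    obtain ⟨δ, hδ, hδw⟩ := exists_move_smul P.h₀ hw0 hw P.three hl
    have hδs := C.utvGroup_le hδ
    have hδM : gl (split X s) 1 δ ∈ M := by
      rw [gl_slot]; exact hge ⟨slot_mem X s δ, P.slot_mem_su s hδs⟩
    refine ⟨_, M.mul_mem (M.mul_mem hδM hz) (M.inv_mem hδM), fun u v => ?_⟩
    rw [isTop_conj C hS hδs.1 u v, hδw, MaxCl.Unit.smul_right P.h₀, LinearMap.smul_apply]
    simp only [LinearMap.comp_apply, inv_one, act_one, LinearMap.id_apply]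
    rw [MaxCl.Tens.pt_smul_left, MaxCl.Tens.pt_smul_right, smul_smul, smul_smul, ← hla]
    congr 1; ring
  have hns' : ¬ ∃ r : F, ∀ u, H u = r • u := fun ⟨r, hr⟩ => by
    obtain ⟨u, hu⟩ := hns (θ * r)
    apply hu
    rw [mul_smul, ← hr u, hHdef, LinearMap.smul_apply, smul_inv_smul₀ hθ0]
  have hH0 : H ≠ 0 := fun e => hns' ⟨0, fun u => by rw [e, LinearMap.zero_apply, zero_smul]⟩
  obtain ⟨J, hJ, hJ2, -, -⟩ := exists_pure_line P hle hge s hw0 hw hH hH0 ∅
    (fun j hj => absurd hj (Finset.notMem_empty j)) (Or.inr hns')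
  obtain ⟨J₁, hJ₁, hmax⟩ := Finset.exists_max_image
    (Finset.univ.filter fun J : Finset (Fin (t + 1)) => PureIn P M J ∧ 2 ≤ J.card) Finset.card
    ⟨J, Finset.mem_filter.2 ⟨Finset.mem_univ _, hJ, hJ2⟩⟩
  obtain ⟨-, hJ₁P, hJ₁2⟩ := Finset.mem_filter.1 hJ₁
  have hu : J₁ = Finset.univ := by
    by_contra hne
    obtain ⟨J', hJ', hlt⟩ := exists_larger P hle hge hJ₁P hJ₁2 hne hw0 hw
    exact absurd (hmax J' (Finset.mem_filter.2 ⟨Finset.mem_univ _, hJ', hJ₁2.trans hlt.le⟩)) (not_le.2 hlt)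
  refine ⟨fun _ => w, fun _ => ⟨hw0, hw⟩, ?_⟩
  have hiso : f (pv X fun _ => w) (pv X fun _ => w) = 0 := by
    rw [P.form, Finset.prod_eq_zero (Finset.mem_univ (0 : Fin (t + 1))) hw, mul_zero]
  refine ⟨hiso, fun d hd => ?_⟩
  have hc : σ c = c := C.c_fixed
  obtain ⟨z', hz', hza⟩ := hJ₁P (fun _ => w) (fun _ => ⟨hw0, hw⟩) (c * d)
    (by rw [map_mul, hc, ← mul_add, hd, mul_zero])
  suffices utv P.hU (pv X fun _ => w) d = z' from this ▸ hz'
  refine gl_ext_pv X fun xs => ?_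
  rw [MaxCl.Unit.act_utv P.hU hiso, hza, pend_pv, P.form]
  congr 1
  have hsmul : pv X (fun i => fac P.h₀ J₁ (fun _ => w) i (xs i)) = (∏ i, f₀ (xs i) w) • pv X fun _ => w := by
    unfold pv
    rw [← map_smul]
    congr 1
    funext a
    simp only [fac, hu, Finset.mem_univ, if_true, pT_apply, Pi.smul_apply, smul_eq_mul, Finset.prod_mul_distrib]
  rw [hsmul, smul_smul]
  congr 1; ring

end

end Cfsg.Agent.TPow
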