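/-
The tensor wreath stabiliser is maximal in the special unitary group: rigidity by induction on the number of
factors, and the dichotomy for the subgroups above the stabiliser.
-/
import Mathlib
import Cfsg.Agent.Lib.TPow.Linear
import Cfsg.Agent.Lib.TPow.Pair
import Cfsg.Agent.Lib.TPow.Seed
import Cfsg.Agent.Lib.TPow.Spread

set_option autoImplicit false

namespace Cfsg.Agent.TPow

open scoped MatrixGroups Matrix
open Module (finrank)
open MaxCl (act gl_ext act_mul act_one act_inv_act act_act_inv act_injective)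
open MaxCl.Unit (uiso utv)
open MaxCl.Tens (pt ptL ptL_apply proj proj_pt root act_root suGroup TopScalar)

variable {ι : Type} [Fintype ι] [DecidableEq ι] {F : Type*} [Field F] [Fintype F] {k t : ℕ}
variable {σ : F ≃+* F} {f : (ι → F) → (ι → F) → F} {f₀ : (Fin k → F) → (Fin k → F) → F} {c : F}

/-- a non-zero isotropic vector -/
theorem exists_iso (h₀ : Cfsg.Geo.IsUnitaryForm σ f₀) (hk : 2 ≤ k) : ∃ w : Fin k → F, w ≠ 0 ∧ f₀ w w = 0 := by
  by_contra h
  push Not at h
  have := Submodule.finrank_mono (top_le_of_iso h₀ hk (Y := ⊥) fun v hv => by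
    rw [Submodule.mem_bot]
    by_contra hv0
    exact h v hv0 hv)
  rw [finrank_top, Module.finrank_fin_fun, finrank_bot] at this
  omega

/-- groups with scalar top elements lie in the wreath subgroup -/
theorem le_W {X : PS ι F k (t + 1 + 1)} (P : PF X σ f f₀ c) {M : Subgroup (GL ι F)} (G : Good X f f₀ M)
    (IH : RigidAt σ f₀ t) : M ≤ W X := by
  rcases eq_or_ne k 3 with hk | hk
  · exact le_W_of_three P G IH hk
  · exact le_W_of_four P G IH (by have := P.three; omega)

variable (σ f₀) in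
/-- rigidity for every number of factors -/
theorem rigid_all (t : ℕ) : RigidAt σ f₀ t := by
  induction t with
  | zero => exact rigid_zero σ f₀
  | succ t IH =>
    intro ι _ _ X f c P M M' GM GM' g hg hconj
    obtain ⟨w, hw0, hw⟩ := exists_iso P.h₀ (by have := P.three; omega)
    obtain ⟨θ, hθ0, hθ⟩ := MaxCl.Unit.exists_skew P.h₀.ne_refl P.h₀.involutive
    have hroot : ∀ d, d + σ d = 0 → g * root (split X 0) P.h₀ w d * g⁻¹ ∈ W X := fun d hd =>
      le_W P GM' IH (hconj _ ((P.toTF 0).root_mem (GM.env 0) hw hd))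
    exact mem_W_of_conj_root P IH GM GM' hg hconj hw0 hw hθ hθ0 (hroot θ hθ) fun _ d hd => hroot d hd

/-- the wreath subgroup does not contain the special unitary group -/
theorem not_su_le_W {X : PS ι F k (t + 1 + 1)} (P : PF X σ f f₀ c) : ¬ suGroup f ≤ W X := by
  classical
  intro hle
  obtain ⟨w, hw0, hw⟩ := exists_iso P.h₀ (by have := P.three; omega)
  obtain ⟨v, hv⟩ : ∃ v, v = pv X fun _ => w := ⟨_, rfl⟩
  have hv0 : v ≠ 0 := hv ▸ pv_ne_zero X fun _ => hw0
  have hvv : f v v = 0 := by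
    rw [hv, P.form, Finset.prod_eq_zero (Finset.mem_univ 0) hw, mul_zero]
  obtain ⟨θ, hθ0, hθ⟩ := MaxCl.Unit.exists_skew P.hU.ne_refl P.hU.involutive
  have hmem : utv P.hU v θ ∈ suGroup f :=
    ⟨MaxCl.Unit.utvGroup_le_uiso P.hU (MaxCl.Unit.utv_mem_utvGroup P.hU hvv hθ),
      MaxCl.Unit.utvGroup_le_sl P.hU (MaxCl.Unit.utv_mem_utvGroup P.hU hvv hθ)⟩
  obtain ⟨π, a, he⟩ := exists_normal X (hle hmem)
  obtain ⟨y, hy⟩ : ∃ y, y = utv P.hU v θ := ⟨_, rfl⟩
  rw [← hy] at he hmem
  have hD : ∀ x, act y x - x = (θ * f x v) • v := fun x => by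
    rw [hy, MaxCl.Unit.act_utv P.hU hvv]; abel
  have hy1 : y ≠ 1 := by
    intro e
    obtain ⟨⟨x, hx⟩, -⟩ := P.hU.nondegenerate v hv0
    have := hD x
    rw [e, act_one, sub_self, eq_comm, smul_eq_zero, mul_eq_zero] at this
    tauto
  have hq : ∀ x, act y (act y x) - (2 : F) • act y x + x = 0 := fun x => by
    have e1 : act y x = x + (θ * f x v) • v := by rw [← hD x]; abel
    have e2 : act y v = v := by
      rw [eq_add_of_sub_eq (hD v), hvv, mul_zero, zero_smul, zero_add]
    rw [e1, map_add, map_smul, e2, e1]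
    module
  have hrank : finrank F (LinearMap.range (act y - LinearMap.id)) ≤ 1 := by
    refine (Submodule.finrank_mono (t := F ∙ v) ?_).trans (finrank_span_singleton hv0).le
    rintro _ ⟨x, rfl⟩
    rw [LinearMap.sub_apply, LinearMap.id_apply, hD]
    exact Submodule.smul_mem _ _ (Submodule.mem_span_singleton_self v)
  have hN : 2 ≤ k ^ (t + 1) := le_trans (by have := P.three; omega) (Nat.le_self_pow (by omega) k)
  rcases root_or_swap P he hmem.1 hy1 hq (hrank.trans (by omega)) with ⟨j, u, d, hu0, hu, -, hd0, hyr⟩ | ⟨-, -, hr⟩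
  · have hle2 : LinearMap.range (ptL (split X j) u) ≤ LinearMap.range (act y - LinearMap.id) := by
      rintro _ ⟨β, rfl⟩
      obtain ⟨⟨x, hx⟩, -⟩ := P.h₀.nondegenerate u hu0
      refine ⟨pt (split X j) β ((d * f₀ x u)⁻¹ • x), ?_⟩
      rw [LinearMap.sub_apply, LinearMap.id_apply, hyr, act_root P.h₀ hu, proj_pt, MaxCl.Unit.smul_left P.h₀,
        add_sub_cancel_left, ptL_apply, MaxCl.Tens.pt_smul_left, smul_smul]
      rw [show d * ((d * f₀ x u)⁻¹ * f₀ x u) = 1 by field_simp, one_smul]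
    have := Submodule.finrank_mono hle2
    rw [finrank_range_ptL _ hu0] at this
    omega
  · omega

/-- a group between the wreath stabiliser and the special unitary group -/
theorem le_W_or_su_le {X : PS ι F k (t + 1 + 1)} (P : PF X σ f f₀ c) {M : Subgroup (GL ι F)} (hle : M ≤ suGroup f)
    (hge : W X ⊓ suGroup f ≤ M) : M ≤ W X ∨ suGroup f ≤ M := by
  have hslot : ∀ i, ∀ b ∈ suGroup f₀, slot X i b ∈ M := fun i b hb =>
    hge ⟨slot_mem X i b, P.slot_mem_su i hb⟩
  by_cases h : ∀ i, TopScalar (split X i) f₀ M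
  · exact Or.inl (le_W P ⟨fun x hx => (hle hx).1, hslot, h⟩ (@rigid_all F _ _ k σ f₀ t))
  · obtain ⟨xs, hxs, hr⟩ := exists_pure_root P (by omega) hle hge h
    exact Or.inr (su_le_of_pure_root P (by omega) (fun x hx => (hle hx).1) hslot hxs hr)

end Cfsg.Agent.TPow
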